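import Mathlib
import Cfsg.Prelude.Def_LocalEven

set_option autoImplicit false

namespace Cfsg.Agent.Helper27

universe u v w

theorem involves_of_surj {H : Type u} [Group H] {G : Type v} [Group G] (K : Subgroup G)
    (f : K →* H) (hf : Function.Surjective f) : Cfsg.Involves H G := by
  have h : (f.ker.map K.subtype).subgroupOf K = f.ker :=
    Subgroup.comap_map_eq_self_of_injective K.subtype_injective _
  suffices hs : ∀ N' : Subgroup K, N' = f.ker → ∃ (_ : N'.Normal), Nonempty (K ⧸ N' ≃* H) from
    ⟨K, f.ker.map K.subtype, hs _ h⟩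
  intro N' hN'
  subst hN'
  exact ⟨inferInstance, ⟨QuotientGroup.quotientKerEquivOfSurjective f hf⟩⟩

theorem involves_exists_surj {H : Type u} [Group H] {G : Type v} [Group G]
    (h : Cfsg.Involves H G) : ∃ (K : Subgroup G) (f : K →* H), Function.Surjective f := by
  obtain ⟨K, R, hN, ⟨e⟩⟩ := h
  exact ⟨K, e.toMonoidHom.comp (QuotientGroup.mk' _),
    e.surjective.comp (QuotientGroup.mk'_surjective _)⟩

theorem involves_of_injective {H : Type u} [Group H] {A : Type v} [Group A] {B : Type w} [Group B]
    (j : A →* B) (hj : Function.Injective j) (h : Cfsg.Involves H A) : Cfsg.Involves H B := by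
  obtain ⟨K, f, hf⟩ := involves_exists_surj h
  refine involves_of_surj (K.map j) (f.comp (K.equivMapOfInjective j hj).symm.toMonoidHom) ?_
  exact hf.comp (K.equivMapOfInjective j hj).symm.surjective

end Cfsg.Agent.Helper27
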