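import Cfsg.Agent.Helper26.FusionNormal2

set_option autoImplicit false

namespace Cfsg.Agent.Helper27

open Cfsg Cfsg.FusionSystem Cfsg.Agent.Helper26

variable {Ω : Type*} [Group Ω] {S : Subgroup Ω}

/-- The image of `P` (inside `T`) under an automorphism of `T`, as a subgroup of the ambient group. -/
abbrev imAut {T : Subgroup Ω} (α : MulAut T) (P : Subgroup Ω) : Subgroup Ω :=
  (P.subgroupOf T).map (T.subtype.comp α.toMonoidHom)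

theorem mem_imAut {T : Subgroup Ω} {α : MulAut T} {P : Subgroup Ω} {y : Ω} :
    y ∈ imAut α P ↔ ∃ x : T, (x : Ω) ∈ P ∧ ((α x : T) : Ω) = y := by
  constructor
  · rintro ⟨x, hx, rfl⟩
    exact ⟨x, Subgroup.mem_subgroupOf.1 hx, rfl⟩
  · rintro ⟨x, hx, rfl⟩
    exact ⟨x, Subgroup.mem_subgroupOf.2 hx, rfl⟩

theorem imAut_le {T : Subgroup Ω} (α : MulAut T) (P : Subgroup Ω) : imAut α P ≤ T := by
  rintro _ ⟨x, -, rfl⟩
  exact (α x).2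

/-- If `E` over `T` is invariant in `F`, then `Aut_F(T)` permutes the subgroups normal in `E`. -/
theorem normal_transport (F : FusionSystem S) {T : Subgroup Ω} (E : FusionSystem T)
    (hE : E.IsInvariantIn F) {R : Subgroup Ω} (hR : E.IsNormal R) {α : MulAut T}
    (hα : α ∈ F.autGroup T) : E.IsNormal (imAut α R) := by
  obtain ⟨-, -, hinv, -⟩ := hE
  refine ⟨imAut_le α R, fun P φ hφ => ?_⟩
  have hPT : P ≤ T := (E.le_of_mem hφ).1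
  have hφT : ∀ x : P, φ x ∈ T := (E.le_of_mem hφ).2
  have hα' : α⁻¹ ∈ F.autGroup T := Subgroup.inv_mem _ hα
  obtain ⟨χ, hχ, hχv⟩ := hinv P hPT φ hφ α⁻¹ hα'
  have hχv' : ∀ (x : P) (z : ↥(imAut α⁻¹ P)), (z : Ω) = ((α⁻¹ ⟨x, hPT x.2⟩ : T) : Ω) →
      χ z = ((α⁻¹ ⟨φ x, hφT x⟩ : T) : Ω) := by
    intro x z hz
    have hmem : ((α⁻¹ ⟨x, hPT x.2⟩ : T) : Ω) ∈ imAut α⁻¹ P := hz ▸ z.2
    have e : z = ⟨((α⁻¹ ⟨x, hPT x.2⟩ : T) : Ω), hmem⟩ := Subtype.ext hz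
    rw [e]
    exact hχv x (hφT x) hmem
  obtain ⟨ψ, hψ, hψext, hψR⟩ := hR.2 (imAut α⁻¹ P) χ hχ
  have hNT : imAut α⁻¹ P ⊔ R ≤ T := sup_le (imAut_le _ _) hR.1
  have hψT : ∀ y : ↥(imAut α⁻¹ P ⊔ R), ψ y ∈ T := (E.le_of_mem hψ).2
  obtain ⟨χ', hχ', hχ'v⟩ := hinv (imAut α⁻¹ P ⊔ R) hNT ψ hψ α hα
  have hχ'v' : ∀ (y : ↥(imAut α⁻¹ P ⊔ R)) (w : ↥(imAut α (imAut α⁻¹ P ⊔ R))),
      (w : Ω) = ((α ⟨y, hNT y.2⟩ : T) : Ω) → χ' w = ((α ⟨ψ y, hψT y⟩ : T) : Ω) := by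
    intro y w hw
    have hmem : ((α ⟨y, hNT y.2⟩ : T) : Ω) ∈ imAut α (imAut α⁻¹ P ⊔ R) := hw ▸ w.2
    have e : w = ⟨((α ⟨y, hNT y.2⟩ : T) : Ω), hmem⟩ := Subtype.ext hw
    rw [e]
    exact hχ'v y (hψT y) hmem
  -- facts about ψ on R
  have hψRmem : ∀ y : ↥(imAut α⁻¹ P ⊔ R), (y : Ω) ∈ R → ψ y ∈ R := by
    intro y hy
    exact hψR.le ⟨y, Subgroup.mem_subgroupOf.2 hy, rfl⟩
  have hψRsurj : ∀ r' ∈ R, ∃ y : ↥(imAut α⁻¹ P ⊔ R), (y : Ω) ∈ R ∧ ψ y = r' := by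
    intro r' hr'
    obtain ⟨y, hy, hyr⟩ := hψR.ge hr'
    exact ⟨y, Subgroup.mem_subgroupOf.1 hy, hyr⟩
  have hle : P ⊔ imAut α R ≤ imAut α (imAut α⁻¹ P ⊔ R) := by
    refine sup_le ?_ ?_
    · intro x hx
      refine mem_imAut.2 ⟨α⁻¹ ⟨x, hPT hx⟩, ?_, ?_⟩
      · exact Subgroup.mem_sup_left (mem_imAut.2 ⟨⟨x, hPT hx⟩, hx, rfl⟩)
      · rw [MulAut.apply_inv_self]
    · intro y hy
      obtain ⟨r, hr, rfl⟩ := mem_imAut.1 hy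
      exact mem_imAut.2 ⟨r, Subgroup.mem_sup_right hr, rfl⟩
  refine ⟨χ'.comp (Subgroup.inclusion hle), restrict_mem E hχ' hle (fun _ => rfl), ?_, ?_⟩
  · intro x
    have hy0 : ((α⁻¹ ⟨x, hPT x.2⟩ : T) : Ω) ∈ imAut α⁻¹ P :=
      mem_imAut.2 ⟨⟨x, hPT x.2⟩, x.2, rfl⟩
    have hy : ((α⁻¹ ⟨x, hPT x.2⟩ : T) : Ω) ∈ imAut α⁻¹ P ⊔ R := Subgroup.mem_sup_left hy0
    have h1 := hχ'v' ⟨_, hy⟩ (Subgroup.inclusion hle (Subgroup.inclusion le_sup_left x)) (by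
      show (x : Ω) = ((α (α⁻¹ ⟨x, hPT x.2⟩) : T) : Ω)
      rw [MulAut.apply_inv_self])
    show χ' (Subgroup.inclusion hle (Subgroup.inclusion le_sup_left x)) = φ x
    rw [h1]
    have h2 : ψ ⟨_, hy⟩ = ((α⁻¹ ⟨φ x, hφT x⟩ : T) : Ω) := by
      have h3 := hψext ⟨_, hy0⟩
      rw [hχv' x ⟨_, hy0⟩ rfl] at h3
      exact h3
    have e : (⟨ψ ⟨_, hy⟩, hψT _⟩ : T) = α⁻¹ ⟨φ x, hφT x⟩ := Subtype.ext h2
    rw [e, MulAut.apply_inv_self]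
  · ext v; constructor
    · rintro ⟨w, hw, rfl⟩
      have hw' : (w : Ω) ∈ imAut α R := Subgroup.mem_subgroupOf.1 hw
      obtain ⟨r, hr, hrw⟩ := mem_imAut.1 hw'
      have hrN : (r : Ω) ∈ imAut α⁻¹ P ⊔ R := Subgroup.mem_sup_right hr
      have h1 := hχ'v' ⟨r, hrN⟩ (Subgroup.inclusion hle w) hrw.symm
      show χ' (Subgroup.inclusion hle w) ∈ imAut α R
      rw [h1]
      exact mem_imAut.2 ⟨⟨ψ ⟨r, hrN⟩, hψT _⟩, hψRmem ⟨r, hrN⟩ hr, rfl⟩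
    · intro hv
      obtain ⟨r', hr', rfl⟩ := mem_imAut.1 hv
      obtain ⟨y, hyR, hyr⟩ := hψRsurj r' hr'
      have hmem : ((α ⟨y, hNT y.2⟩ : T) : Ω) ∈ imAut α R := mem_imAut.2 ⟨⟨y, hNT y.2⟩, hyR, rfl⟩
      have hmem' : ((α ⟨y, hNT y.2⟩ : T) : Ω) ∈ P ⊔ imAut α R := Subgroup.mem_sup_right hmem
      refine ⟨⟨_, hmem'⟩, Subgroup.mem_subgroupOf.2 hmem, ?_⟩
      have h1 := hχ'v' y (Subgroup.inclusion hle ⟨_, hmem'⟩) rfl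
      show χ' (Subgroup.inclusion hle ⟨_, hmem'⟩) = ((α r' : T) : Ω)
      rw [h1]
      have e : (⟨ψ y, hψT y⟩ : T) = r' := Subtype.ext hyr
      rw [e]

/-- `O_p(E)` is invariant under `Aut_F(T)` when `E` over `T` is invariant in `F`. -/
theorem core_autGroup_invariant [Finite S] (F : FusionSystem S) {T : Subgroup Ω}
    (E : FusionSystem T) (hE : E.IsInvariantIn F) {α : MulAut T} (hα : α ∈ F.autGroup T)
    (x : T) (hx : (x : Ω) ∈ E.core) : ((α x : T) : Ω) ∈ E.core := by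
  have hTS : T ≤ S := hE.2.1.1
  have hTfin : Finite T := finite_of_le hTS
  have hC : E.IsNormal E.core := Cfsg.Agent.S5145.result E
  have h1 : E.IsNormal (imAut α E.core) := normal_transport F E hE hC hα
  have h2 : imAut α E.core ≤ E.core := le_sSup h1
  exact h2 (mem_imAut.2 ⟨x, hx, rfl⟩)

end Cfsg.Agent.Helper27
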