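import Cfsg.Agent.Helper27.Marks2
import Cfsg.Agent.Helper26.FusionBasic

set_option autoImplicit false

namespace Cfsg.Agent.Helper27.Biset

open Cfsg Cfsg.FusionSystem Cfsg.Agent.Helper26 Cfsg.Agent.Helper27.Marks MulAction
open scoped Classical

universe u
variable {Ω : Type u} [Group Ω] {S : Subgroup Ω}

/-- Transposed graphs of the maps of the system. -/
def Gr (F : FusionSystem S) : Set (Subgroup (↥S × ↥S)) :=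
  {D | ∃ (R : Subgroup Ω) (χ : R →* Ω), χ ∈ F.Hom R ∧
    ∀ d : ↥S × ↥S, d ∈ D ↔ ∃ r : R, χ r = (d.1 : Ω) ∧ (r : Ω) = (d.2 : Ω)}

/-- The diagonal subgroup. -/
def diag (S : Subgroup Ω) : Subgroup (↥S × ↥S) where
  carrier := {d | d.1 = d.2}
  mul_mem' := by
    intro a b ha hb
    simp only [Set.mem_setOf_eq] at *
    rw [Prod.fst_mul, Prod.snd_mul, ha, hb]
  one_mem' := rfl
  inv_mem' := by
    intro a ha
    simp only [Set.mem_setOf_eq] at *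
    rw [Prod.fst_inv, Prod.snd_inv, ha]

theorem mem_diag {d : ↥S × ↥S} : d ∈ diag S ↔ d.1 = d.2 := Iff.rfl

theorem diag_mem_Gr (F : FusionSystem S) : diag S ∈ Gr F := by
  refine ⟨S, S.subtype, incl_mem F le_rfl, fun d => ?_⟩
  constructor
  · intro hd
    exact ⟨d.2, (congrArg Subtype.val (mem_diag.1 hd)).symm, rfl⟩
  · rintro ⟨r, h1, h2⟩
    apply mem_diag.2
    apply Subtype.ext
    rw [← h1, ← h2]; rfl

/-- A map of the system, as a homomorphism into `S`. -/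
def homS (F : FusionSystem S) {P : Subgroup Ω} {ψ : P →* Ω} (hψ : ψ ∈ F.Hom P) : ↥P →* ↥S :=
  ψ.codRestrict S (F.le_of_mem hψ).2

/-- The twist `P × S → S × S` by a map of the system. -/
def tw (F : FusionSystem S) {P : Subgroup Ω} {ψ : P →* Ω} (hψ : ψ ∈ F.Hom P) :
    ↥P × ↥S →* ↥S × ↥S :=
  (homS F hψ).prodMap (MonoidHom.id ↥S)

theorem tw_fst (F : FusionSystem S) {P : Subgroup Ω} {ψ : P →* Ω} (hψ : ψ ∈ F.Hom P)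
    (k : ↥P × ↥S) : (((tw F hψ k).1 : ↥S) : Ω) = ψ k.1 := rfl

theorem tw_snd (F : FusionSystem S) {P : Subgroup Ω} {ψ : P →* Ω} (hψ : ψ ∈ F.Hom P)
    (k : ↥P × ↥S) : (tw F hψ k).2 = k.2 := rfl

theorem tw_injective (F : FusionSystem S) {P : Subgroup Ω} {ψ : P →* Ω} (hψ : ψ ∈ F.Hom P) :
    Function.Injective (tw F hψ) := by
  intro k k' h
  apply Prod.ext
  · apply F.injective_of_mem hψ
    rw [← tw_fst F hψ k, ← tw_fst F hψ k', h]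
  · rw [← tw_snd F hψ k, ← tw_snd F hψ k', h]

theorem mem_map_tw (F : FusionSystem S) {P : Subgroup Ω} {ψ : P →* Ω} (hψ : ψ ∈ F.Hom P)
    {K : Subgroup (↥P × ↥S)} {d : ↥S × ↥S} :
    d ∈ K.map (tw F hψ) ↔ ∃ k ∈ K, ψ k.1 = (d.1 : Ω) ∧ k.2 = d.2 := by
  constructor
  · rintro ⟨k, hk, rfl⟩
    exact ⟨k, hk, rfl, rfl⟩
  · rintro ⟨k, hk, h1, h2⟩
    refine ⟨k, hk, ?_⟩
    apply Prod.ext
    · apply Subtype.ext; rw [tw_fst]; exact h1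
    · rw [tw_snd]; exact h2

theorem card_map_tw (F : FusionSystem S) {P : Subgroup Ω} {ψ : P →* Ω} (hψ : ψ ∈ F.Hom P)
    (K : Subgroup (↥P × ↥S)) : Nat.card (K.map (tw F hψ)) = Nat.card K :=
  Nat.card_congr (Subgroup.equivMapOfInjective K _ (tw_injective F hψ)).symm.toEquiv

theorem Gr_of_le (F : FusionSystem S) {D H : Subgroup (↥S × ↥S)} (hD : D ∈ Gr F)
    (hHD : H ≤ D) : H ∈ Gr F := by
  obtain ⟨R, χ, hχ, hmem⟩ := hD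
  obtain ⟨R₀, hR₀def⟩ : ∃ R₀ : Subgroup Ω, R₀ = (H.map (MonoidHom.snd ↥S ↥S)).map S.subtype :=
    ⟨_, rfl⟩
  have hmemR₀ : ∀ d ∈ H, ((d.2 : ↥S) : Ω) ∈ R₀ := by
    intro d hd
    rw [hR₀def]
    exact ⟨d.2, ⟨d, hd, rfl⟩, rfl⟩
  have hR₀ : R₀ ≤ R := by
    rw [hR₀def]
    rintro _ ⟨s, ⟨d, hd, rfl⟩, rfl⟩
    obtain ⟨r, -, hr⟩ := (hmem d).1 (hHD hd)
    show ((d.2 : ↥S) : Ω) ∈ R
    rw [← hr]; exact r.2
  refine ⟨R₀, χ.comp (Subgroup.inclusion hR₀), restrict_mem F hχ hR₀ (fun x => rfl), fun d => ?_⟩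
  constructor
  · intro hd
    obtain ⟨r, h1, h2⟩ := (hmem d).1 (hHD hd)
    refine ⟨⟨d.2, hmemR₀ d hd⟩, ?_, rfl⟩
    rw [← h1]
    show χ (Subgroup.inclusion hR₀ ⟨d.2, hmemR₀ d hd⟩) = χ r
    congr 1
    exact Subtype.ext h2.symm
  · rintro ⟨⟨r, hr⟩, h1, h2⟩
    have hr' := hr
    rw [hR₀def] at hr'
    obtain ⟨s, ⟨d', hd', rfl⟩, hs⟩ := hr'
    obtain ⟨r', h1', h2'⟩ := (hmem d').1 (hHD hd')
    have hs' : ((d'.2 : ↥S) : Ω) = r := hs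
    have hdd : d = d' := by
      apply Prod.ext
      · apply Subtype.ext
        rw [← h1, ← h1']
        show χ (Subgroup.inclusion hR₀ ⟨r, hr⟩) = χ r'
        congr 1
        apply Subtype.ext
        show r = (r' : Ω)
        rw [h2', hs']
      · apply Subtype.ext
        rw [← h2]
        exact hs'.symm
    rw [hdd]; exact hd'

theorem Gr_tw (F : FusionSystem S) {P : Subgroup Ω} {ψ₁ ψ₂ : P →* Ω} (h₁ : ψ₁ ∈ F.Hom P)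
    (h₂ : ψ₂ ∈ F.Hom P) (K : Subgroup (↥P × ↥S)) (hK : K.map (tw F h₁) ∈ Gr F) :
    K.map (tw F h₂) ∈ Gr F := by
  obtain ⟨R, χ, hχ, hmem⟩ := hK
  obtain ⟨inv, hinv, hinv'⟩ := F.inv_mem h₁
  have hRS := F.le_of_mem hχ
  have hval : ∀ r : R, ∃ k ∈ K, ψ₁ k.1 = χ r ∧ ((k.2 : ↥S) : Ω) = r := by
    intro r
    have : ((⟨χ r, hRS.2 r⟩, ⟨r, hRS.1 r.2⟩) : ↥S × ↥S) ∈ K.map (tw F h₁) :=
      (hmem _).2 ⟨r, rfl, rfl⟩
    obtain ⟨k, hk, h1, h2⟩ := (mem_map_tw F h₁).1 this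
    exact ⟨k, hk, h1, congrArg Subtype.val h2⟩
  have hχrange : ∀ r : R, χ r ∈ ψ₁.range := fun r => by
    obtain ⟨k, -, h, -⟩ := hval r; exact ⟨k.1, h⟩
  obtain ⟨χ₁, hχ₁⟩ : ∃ χ₁ : R →* Ω, χ₁ = inv.comp (χ.codRestrict ψ₁.range hχrange) := ⟨_, rfl⟩
  have hχ₁mem : χ₁ ∈ F.Hom R := by rw [hχ₁]; exact F.comp_mem hχ hinv hχrange
  have hχ₁val : ∀ (r : R) (k : ↥P × ↥S), ψ₁ k.1 = χ r → χ₁ r = (k.1 : Ω) := by
    intro r k hk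
    rw [hχ₁, ← hinv' k.1]
    show inv ⟨χ r, hχrange r⟩ = _
    congr 1
    exact Subtype.ext hk.symm
  have hχ₁P : ∀ r : R, χ₁ r ∈ P := by
    intro r
    obtain ⟨k, -, h, -⟩ := hval r
    rw [hχ₁val r k h]; exact k.1.2
  refine ⟨R, ψ₂.comp (χ₁.codRestrict P hχ₁P), F.comp_mem hχ₁mem h₂ hχ₁P, fun d => ?_⟩
  constructor
  · intro hd
    obtain ⟨k, hk, h1, h2⟩ := (mem_map_tw F h₂).1 hd
    have hk1 : tw F h₁ k ∈ K.map (tw F h₁) := ⟨k, hk, rfl⟩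
    obtain ⟨r, hr1, hr2⟩ := (hmem _).1 hk1
    rw [tw_fst] at hr1
    rw [tw_snd] at hr2
    refine ⟨r, ?_, ?_⟩
    · rw [← h1]
      show ψ₂ ⟨χ₁ r, hχ₁P r⟩ = ψ₂ k.1
      congr 1
      exact Subtype.ext (hχ₁val r k hr1.symm)
    · rw [hr2, h2]
  · rintro ⟨r, hr1, hr2⟩
    obtain ⟨k, hk, hk1, hk2⟩ := hval r
    refine (mem_map_tw F h₂).2 ⟨k, hk, ?_, ?_⟩
    · rw [← hr1]
      show ψ₂ k.1 = ψ₂ ⟨χ₁ r, hχ₁P r⟩
      congr 1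
      exact Subtype.ext (hχ₁val r k hk1).symm
    · apply Subtype.ext
      rw [hk2, hr2]

theorem Gr_cj (F : FusionSystem S) {D : Subgroup (↥S × ↥S)} (hD : D ∈ Gr F) (g : ↥S × ↥S) :
    cj g D ∈ Gr F := by
  obtain ⟨R, χ, hχ, hmem⟩ := hD
  have hRS := F.le_of_mem hχ
  obtain ⟨a, b⟩ := g
  obtain ⟨R', hR'⟩ : ∃ R' : Subgroup Ω, R' = R.map (MulAut.conj ((b : Ω)⁻¹)).toMonoidHom := ⟨_, rfl⟩
  have hR'S : R' ≤ S := by
    rw [hR']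
    rintro _ ⟨r, hr, rfl⟩
    exact S.mul_mem (S.mul_mem (S.inv_mem b.2) (hRS.1 hr)) (S.inv_mem (S.inv_mem b.2))
  have hc1 : ∀ x : R', conjHom R' (b : Ω) x ∈ R := by
    rintro ⟨x, hx⟩
    rw [hR'] at hx
    obtain ⟨r, hr, hrx⟩ := hx
    rw [conjHom_apply]
    show (b : Ω) * x * (b : Ω)⁻¹ ∈ R
    rw [← hrx]
    simp only [MulEquiv.coe_toMonoidHom, MulAut.conj_apply, inv_inv]
    have : (b : Ω) * ((b : Ω)⁻¹ * r * (b : Ω)) * (b : Ω)⁻¹ = r := by group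
    rw [this]; exact hr
  have hmid : χ.comp ((conjHom R' (b : Ω)).codRestrict R hc1) ∈ F.Hom R' :=
    F.comp_mem (F.conj_mem hR'S b.2) hχ hc1
  have hmidS := (F.le_of_mem hmid).2
  have hχ' : (conjHom S ((a : Ω)⁻¹)).comp
      ((χ.comp ((conjHom R' (b : Ω)).codRestrict R hc1)).codRestrict S hmidS) ∈ F.Hom R' :=
    F.comp_mem hmid (F.conj_mem le_rfl (S.inv_mem a.2)) hmidS
  refine ⟨R', _, hχ', fun d' => ?_⟩
  constructor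
  · intro hd'
    obtain ⟨d, hd, rfl⟩ := hd'
    obtain ⟨r, hr1, hr2⟩ := (hmem d).1 hd
    have hr' : (b : Ω)⁻¹ * r * (b : Ω) ∈ R' := by
      rw [hR']
      exact ⟨r, r.2, by simp⟩
    refine ⟨⟨_, hr'⟩, ?_, ?_⟩
    · show (a : Ω)⁻¹ * χ ⟨(b : Ω) * ((b : Ω)⁻¹ * r * (b : Ω)) * (b : Ω)⁻¹, _⟩ * ((a : Ω)⁻¹)⁻¹ = _
      have e : (⟨(b : Ω) * ((b : Ω)⁻¹ * r * (b : Ω)) * (b : Ω)⁻¹, hc1 ⟨_, hr'⟩⟩ : R) = r :=
        Subtype.ext (by group)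
      rw [e, hr1]
      simp
    · show (b : Ω)⁻¹ * r * (b : Ω) = _
      rw [hr2]
      simp
  · rintro ⟨⟨r', hr'⟩, h1, h2⟩
    have hr'' := hr'
    rw [hR'] at hr''
    obtain ⟨r, hr, hrr⟩ := hr''
    have hrr' : (b : Ω)⁻¹ * r * (b : Ω) = r' := by simpa using hrr
    have hdD : ((⟨χ ⟨r, hr⟩, hRS.2 ⟨r, hr⟩⟩, ⟨r, hRS.1 hr⟩) : ↥S × ↥S) ∈ D :=
      (hmem _).2 ⟨⟨r, hr⟩, rfl, rfl⟩
    refine ⟨_, hdD, ?_⟩
    apply Prod.ext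
    · apply Subtype.ext
      rw [← h1]
      show (a : Ω)⁻¹ * χ ⟨r, hr⟩ * ((a : Ω)⁻¹)⁻¹ =
        (a : Ω)⁻¹ * χ ⟨(b : Ω) * r' * (b : Ω)⁻¹, _⟩ * ((a : Ω)⁻¹)⁻¹
      have e : (⟨(b : Ω) * r' * (b : Ω)⁻¹, hc1 ⟨r', hr'⟩⟩ : R) = ⟨r, hr⟩ :=
        Subtype.ext (by show (b : Ω) * r' * (b : Ω)⁻¹ = r; rw [← hrr']; group)
      rw [e]
    · apply Subtype.ext
      rw [← h2]
      show (b : Ω)⁻¹ * r * ((b : Ω)⁻¹)⁻¹ = r'
      rw [← hrr']; simp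

end Cfsg.Agent.Helper27.Biset
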