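import Cfsg.Agent.Helper27.Biset9

set_option autoImplicit false

namespace Cfsg.Agent.Helper27.Biset

open Cfsg Cfsg.FusionSystem Cfsg.Agent.Helper26 Cfsg.Agent.Helper27.Marks MulAction
open scoped Classical

universe u
variable {Ω : Type u} [Group Ω] {S : Subgroup Ω}

/-- Evaluation of the transfer at an involution: a parity count. -/
theorem transfer_involution [Finite S] (F : FusionSystem S) (X : Type u) [Finite X]
    [MulAction (↥S × ↥S) X] (hgr : ∀ x : X, stabilizer (↥S × ↥S) x ∈ Gr F) (x₀ : X)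
    (θ : ↥S →* ℤˣ) (ϕ : ↥(orbStab S X x₀) →* ℤˣ)
    (hϕ : ∀ (h : ↥(orbStab S X x₀)) (s : ↥S),
      ((h : ↥(autGrp S X)) : Equiv.Perm X) x₀ = ((1, s) : ↥S × ↥S) • x₀ → ϕ h = (θ s)⁻¹)
    (i : ↥S) (hi : i * i = 1)
    (hodd : Odd (orbStab S X x₀).index)
    (heven : 2 * Nat.card S ∣ Nat.card {x : X // ∃ s : ↥S, θ s = 1 ∧
      ((i, 1) : ↥S × ↥S) • x = ((1, s) : ↥S × ↥S) • x}) :
    MonoidHom.transfer ϕ (leftHom S X i) = -1 := by
  obtain ⟨g, hg⟩ : ∃ g : ↥(autGrp S X), g = leftHom S X i := ⟨_, rfl⟩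
  have hg2 : g ^ 2 = 1 := by rw [hg, ← map_pow, pow_two, hi, map_one]
  haveI : Fintype (Quotient (MulAction.orbitRel (Subgroup.zpowers g)
      (↥(autGrp S X) ⧸ orbStab S X x₀))) := Fintype.ofFinite _
  obtain ⟨y, hy⟩ : ∃ y : Quotient (MulAction.orbitRel (Subgroup.zpowers g)
      (↥(autGrp S X) ⧸ orbStab S X x₀)) → X,
      y = fun q => ((q.out.out : ↥(autGrp S X)) : Equiv.Perm X) x₀ := ⟨_, rfl⟩
  obtain ⟨fac, hfac⟩ : ∃ fac : Quotient (MulAction.orbitRel (Subgroup.zpowers g)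
      (↥(autGrp S X) ⧸ orbStab S X x₀)) → ℤˣ,
      fac = fun q => ϕ ⟨q.out.out⁻¹ * g ^ Function.minimalPeriod (g • ·) q.out * q.out.out,
        QuotientGroup.out_conj_pow_minimalPeriod_mem (orbStab S X x₀) g q.out⟩ := ⟨_, rfl⟩
  have htr : MonoidHom.transfer ϕ g = ∏ q, fac q := by
    rw [MonoidHom.transfer_eq_prod_quotient_orbitRel_zpowers_quot, hfac]
  have hk : ∀ q : Quotient (MulAction.orbitRel (Subgroup.zpowers g)
      (↥(autGrp S X) ⧸ orbStab S X x₀)),
      Function.minimalPeriod (g • ·) q.out = 1 ∨ Function.minimalPeriod (g • ·) q.out = 2 := by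
    intro q
    have : Function.minimalPeriod (g • ·) q.out ∣ 2 := by
      rw [← MulAction.pow_smul_eq_iff_minimalPeriod_dvd, hg2, one_smul]
    exact (Nat.dvd_prime Nat.prime_two).1 this
  -- a fixed right orbit gives a fixed coset
  have hfixc : ∀ (c : ↥(autGrp S X) ⧸ orbStab S X x₀) (s' : ↥S),
      ((i, 1) : ↥S × ↥S) • ((c.out : ↥(autGrp S X)) : Equiv.Perm X) x₀ =
        ((1, s') : ↥S × ↥S) • ((c.out : ↥(autGrp S X)) : Equiv.Perm X) x₀ → g • c = c := by
    intro c s' h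
    have hmem : (c.out)⁻¹ * g * c.out ∈ orbStab S X x₀ :=
      ⟨s', by rw [hg]; exact conj_apply x₀ _ i s' h⟩
    have hc : ((c.out : ↥(autGrp S X)) : ↥(autGrp S X) ⧸ orbStab S X x₀) = c :=
      QuotientGroup.out_eq' c
    have h1 : g • ((c.out : ↥(autGrp S X)) : ↥(autGrp S X) ⧸ orbStab S X x₀) =
        ((c.out : ↥(autGrp S X)) : ↥(autGrp S X) ⧸ orbStab S X x₀) := by
      show (((g * c.out : ↥(autGrp S X))) : ↥(autGrp S X) ⧸ orbStab S X x₀) = _
      rw [QuotientGroup.eq]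
      have h2 := Subgroup.inv_mem _ hmem
      have h3 : ((c.out)⁻¹ * g * c.out)⁻¹ = (g * c.out)⁻¹ * c.out := by group
      rw [h3] at h2
      exact h2
    rw [hc] at h1
    exact h1
  have hfix : ∀ (q : Quotient (MulAction.orbitRel (Subgroup.zpowers g)
      (↥(autGrp S X) ⧸ orbStab S X x₀))) (s' : ↥S),
      ((i, 1) : ↥S × ↥S) • y q = ((1, s') : ↥S × ↥S) • y q →
      Function.minimalPeriod (g • ·) q.out = 1 := by
    intro q s' h
    rw [Function.minimalPeriod_eq_one_iff_isFixedPt]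
    rw [hy] at h
    exact hfixc q.out s' h
  obtain ⟨Pm, hPm⟩ : ∃ Pm : Quotient (MulAction.orbitRel (Subgroup.zpowers g)
      (↥(autGrp S X) ⧸ orbStab S X x₀)) → Prop,
      Pm = fun q => ∃ s : ↥S, θ s = -1 ∧
        ((i, 1) : ↥S × ↥S) • y q = ((1, s) : ↥S × ↥S) • y q := ⟨_, rfl⟩
  obtain ⟨Pp, hPp⟩ : ∃ Pp : Quotient (MulAction.orbitRel (Subgroup.zpowers g)
      (↥(autGrp S X) ⧸ orbStab S X x₀)) → Prop,
      Pp = fun q => ∃ s : ↥S, θ s = 1 ∧
        ((i, 1) : ↥S × ↥S) • y q = ((1, s) : ↥S × ↥S) • y q := ⟨_, rfl⟩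
  have hne : (1 : ℤˣ) ≠ -1 := by decide
  -- the three cases
  have hq : ∀ q, (Pm q ∧ ¬ Pp q ∧ Function.minimalPeriod (g • ·) q.out = 1 ∧ fac q = -1) ∨
      (¬ Pm q ∧ Pp q ∧ Function.minimalPeriod (g • ·) q.out = 1 ∧ fac q = 1) ∨
      (¬ Pm q ∧ ¬ Pp q ∧ Function.minimalPeriod (g • ·) q.out = 2 ∧ fac q = 1) := by
    intro q
    have hmem := QuotientGroup.out_conj_pow_minimalPeriod_mem (orbStab S X x₀) g q.out
    have hmem' := hmem
    obtain ⟨s, hs⟩ := hmem'
    have hval : fac q = (θ s)⁻¹ := by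
      rw [hfac]
      exact hϕ ⟨_, hmem⟩ s hs
    have hpt : ((i ^ Function.minimalPeriod (g • ·) q.out, 1) : ↥S × ↥S) • y q =
        ((1, s) : ↥S × ↥S) • y q := by
      rw [hy]
      apply conj_apply' x₀
      rw [map_pow, ← hg]
      exact hs
    rcases hk q with h1 | h2
    · rw [h1, pow_one] at hpt
      rcases Int.units_eq_one_or (θ s) with ht | ht
      · right; left
        refine ⟨?_, ?_, h1, ?_⟩
        · rw [hPm]
          rintro ⟨s', hs', hpt'⟩
          have : s = s' := free_right F hgr (y q) (hpt.symm.trans hpt')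
          rw [← this, ht] at hs'
          exact hne hs'
        · rw [hPp]; exact ⟨s, ht, hpt⟩
        · rw [hval, ht, inv_one]
      · left
        refine ⟨?_, ?_, h1, ?_⟩
        · rw [hPm]; exact ⟨s, ht, hpt⟩
        · rw [hPp]
          rintro ⟨s', hs', hpt'⟩
          have : s = s' := free_right F hgr (y q) (hpt.symm.trans hpt')
          rw [← this, ht] at hs'
          exact hne hs'.symm
        · rw [hval, ht]; rfl
    · right; right
      have hne12 : Function.minimalPeriod (g • ·) q.out ≠ 1 := by rw [h2]; decide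
      refine ⟨?_, ?_, h2, ?_⟩
      · rw [hPm]
        rintro ⟨s', -, hpt'⟩
        exact hne12 (hfix q s' hpt')
      · rw [hPp]
        rintro ⟨s', -, hpt'⟩
        exact hne12 (hfix q s' hpt')
      · rw [h2, pow_two, hi] at hpt
        have hs1 : (1 : ↥S) = s := by
          apply free_right F hgr (y q)
          rw [← hpt]
        rw [hval, ← hs1, map_one, inv_one]
  -- the product
  have hprod : ∏ q, fac q = (-1 : ℤˣ) ^ (Finset.univ.filter Pm).card := by
    have h1 : ∀ q ∈ (Finset.univ : Finset (Quotient (MulAction.orbitRel (Subgroup.zpowers g)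
        (↥(autGrp S X) ⧸ orbStab S X x₀)))), fac q = if Pm q then (-1 : ℤˣ) else 1 := by
      intro q _
      rcases hq q with ⟨a, -, -, b⟩ | ⟨a, -, -, b⟩ | ⟨a, -, -, b⟩
      · rw [if_pos a, b]
      · rw [if_neg a, b]
      · rw [if_neg a, b]
    rw [Finset.prod_congr rfl h1, Finset.prod_ite, Finset.prod_const_one, mul_one,
      Finset.prod_const]
  -- the sum of the periods
  have hsum : (orbStab S X x₀).index = (Finset.univ.filter Pm).card + (Finset.univ.filter Pp).card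
      + 2 * (Finset.univ.filter (fun q => ¬ Pm q ∧ ¬ Pp q)).card := by
    rw [Subgroup.index_eq_sum_minimalPeriod (orbStab S X x₀) g, Finset.card_filter,
      Finset.card_filter, Finset.card_filter, Finset.mul_sum, ← Finset.sum_add_distrib,
      ← Finset.sum_add_distrib]
    refine Finset.sum_congr rfl (fun q _ => ?_)
    rcases hq q with ⟨a, b, c, -⟩ | ⟨a, b, c, -⟩ | ⟨a, b, c, -⟩
    · rw [if_pos a, if_neg b, if_neg (fun h : ¬ Pm q ∧ ¬ Pp q => h.1 a), c]; rfl
    · rw [if_neg a, if_pos b, if_neg (fun h : ¬ Pm q ∧ ¬ Pp q => h.2 b), c]; rfl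
    · rw [if_neg a, if_neg b, if_pos (⟨a, b⟩ : ¬ Pm q ∧ ¬ Pp q), c]; rfl
  -- counting the orbits of the second kind
  have hcount : Nat.card {q // Pp q} * Nat.card S = Nat.card {x : X // ∃ s : ↥S, θ s = 1 ∧
      ((i, 1) : ↥S × ↥S) • x = ((1, s) : ↥S × ↥S) • x} := by
    rw [← Nat.card_prod]
    have hmove : ∀ (a s : ↥S) (x : X), ((i, 1) : ↥S × ↥S) • x = ((1, s) : ↥S × ↥S) • x →
        ((i, 1) : ↥S × ↥S) • (((1, a) : ↥S × ↥S) • x) =
          ((1, a * s * a⁻¹) : ↥S × ↥S) • (((1, a) : ↥S × ↥S) • x) := by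
      intro a s x h
      rw [smul_left_right, h, smul_one_mul, smul_one_mul]
      congr 2
      group
    have hθc : ∀ a s : ↥S, θ (a * s * a⁻¹) = θ s := by
      intro a s
      rw [map_mul, map_mul, map_inv, mul_comm, inv_mul_cancel_left]
    refine Nat.card_congr (Equiv.ofBijective
      (fun qa : {q // Pp q} × ↥S => (⟨((1, qa.2) : ↥S × ↥S) • y qa.1.1, by
        have h := (congrFun hPp qa.1.1).mp qa.1.2
        obtain ⟨s, hs, hpt⟩ := h
        exact ⟨qa.2 * s * qa.2⁻¹, by rw [hθc, hs], hmove qa.2 s _ hpt⟩⟩ :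
          {x : X // ∃ s : ↥S, θ s = 1 ∧
            ((i, 1) : ↥S × ↥S) • x = ((1, s) : ↥S × ↥S) • x})) ⟨?_, ?_⟩)
    · rintro ⟨⟨q, hq1⟩, a⟩ ⟨⟨q', hq1'⟩, a'⟩ h
      have h' : ((1, a) : ↥S × ↥S) • y q = ((1, a') : ↥S × ↥S) • y q' := congrArg Subtype.val h
      rw [hy] at h'
      have hqq : q.out = q'.out := by
        rw [← QuotientGroup.out_eq' q.out, ← QuotientGroup.out_eq' q'.out, QuotientGroup.eq]
        refine ⟨a'⁻¹ * a, ?_⟩
        show ((q.out.out : ↥(autGrp S X)) : Equiv.Perm X)⁻¹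
          (((q'.out.out : ↥(autGrp S X)) : Equiv.Perm X) x₀) = _
        rw [Equiv.Perm.inv_eq_iff_eq, mem_autGrp.1 (q.out.out).2, ← smul_one_mul, h', smul_one_mul,
          inv_mul_cancel, smul_one_one]
      have hqq' : q = q' := Quotient.out_injective hqq
      subst hqq'
      have ha : a = a' := free_right F hgr _ h'
      subst ha
      rfl
    · rintro ⟨x, s, hs, hx⟩
      obtain ⟨γ', s₁, hγ'⟩ := exists_aut_move F hgr x₀ x
      obtain ⟨h, hh⟩ := QuotientGroup.mk_out_eq_mul (orbStab S X x₀) γ'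
      obtain ⟨s₂, hs₂⟩ := h.2
      obtain ⟨c, hc⟩ : ∃ c : ↥(autGrp S X) ⧸ orbStab S X x₀, c = QuotientGroup.mk γ' := ⟨_, rfl⟩
      have hyc : ((c.out : ↥(autGrp S X)) : Equiv.Perm X) x₀ = ((1, s₂ * s₁) : ↥S × ↥S) • x := by
        rw [hc, hh]
        show (γ' : Equiv.Perm X) (((h : ↥(autGrp S X)) : Equiv.Perm X) x₀) = _
        rw [hs₂, mem_autGrp.1 γ'.2, hγ', smul_one_mul]
      have hfixed : g • c = c := by
        apply hfixc c ((s₂ * s₁) * s * (s₂ * s₁)⁻¹)
        rw [hyc]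
        exact hmove _ s x hx
      have hout : (Quotient.mk (MulAction.orbitRel (Subgroup.zpowers g)
          (↥(autGrp S X) ⧸ orbStab S X x₀)) c).out = c := by
        have h1 := Quotient.mk_out (s := MulAction.orbitRel (Subgroup.zpowers g)
          (↥(autGrp S X) ⧸ orbStab S X x₀)) c
        have h2 : (Quotient.mk (MulAction.orbitRel (Subgroup.zpowers g)
          (↥(autGrp S X) ⧸ orbStab S X x₀)) c).out ∈ MulAction.orbit (Subgroup.zpowers g) c := h1
        obtain ⟨⟨z, hz⟩, hz2⟩ := h2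
        have hstab : Subgroup.zpowers g ≤ stabilizer ↥(autGrp S X) c := by
          rw [Subgroup.zpowers_le]
          exact hfixed
        have hz3 : z • c = c := hstab hz
        rw [← hz2]
        exact hz3
      obtain ⟨q, hqdef⟩ : ∃ q, q = Quotient.mk (MulAction.orbitRel (Subgroup.zpowers g)
          (↥(autGrp S X) ⧸ orbStab S X x₀)) c := ⟨_, rfl⟩
      have hyq : y q = ((1, s₂ * s₁) : ↥S × ↥S) • x := by
        rw [hy, hqdef]
        show (((Quotient.mk (MulAction.orbitRel (Subgroup.zpowers g)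
          (↥(autGrp S X) ⧸ orbStab S X x₀)) c).out.out : ↥(autGrp S X)) : Equiv.Perm X) x₀ = _
        rw [hout, hyc]
      have hPq : Pp q := by
        rw [hPp]
        refine ⟨(s₂ * s₁) * s * (s₂ * s₁)⁻¹, by rw [hθc, hs], ?_⟩
        rw [hyq]
        exact hmove _ s x hx
      refine ⟨(⟨q, hPq⟩, (s₂ * s₁)⁻¹), ?_⟩
      apply Subtype.ext
      show ((1, (s₂ * s₁)⁻¹) : ↥S × ↥S) • y q = x
      rw [hyq, smul_one_mul, inv_mul_cancel, smul_one_one]
  have hcp : Nat.card {q // Pp q} = (Finset.univ.filter Pp).card := by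
    rw [Nat.card_eq_fintype_card, Fintype.card_subtype]
  have hpos : 0 < Nat.card S := Nat.card_pos
  have hcpeven : 2 ∣ (Finset.univ.filter Pp).card := by
    rw [← hcount, hcp] at heven
    exact Nat.dvd_of_mul_dvd_mul_right hpos heven
  have hcm : Odd (Finset.univ.filter Pm).card := by
    rw [hsum] at hodd
    obtain ⟨k, hk⟩ := hcpeven
    rcases hodd with ⟨m, hm⟩
    exact ⟨m - k - (Finset.univ.filter (fun q => ¬ Pm q ∧ ¬ Pp q)).card, by omega⟩
  rw [← hg, htr, hprod, Odd.neg_one_pow hcm]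

end Cfsg.Agent.Helper27.Biset
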