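import Cfsg.Agent.Helper27.Biset10

set_option autoImplicit false

namespace Cfsg.Agent.Helper27.Biset

open Cfsg Cfsg.FusionSystem Cfsg.Agent.Helper26 Cfsg.Agent.Helper27.Marks MulAction
open scoped Classical

universe u
variable {Ω : Type u} [Group Ω] {S : Subgroup Ω}

theorem dvd_card_of_index {Γ : Type*} [Group Γ] [Finite Γ] {Y : Type*} [MulAction Γ Y]
    [Finite Y] (d : ℕ)
    (h : ∀ y : Y, d ∣ (stabilizer Γ y).index) : d ∣ Nat.card Y := by
  haveI : Fintype (Quotient (MulAction.orbitRel Γ Y)) := Fintype.ofFinite _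
  rw [Nat.card_congr (MulAction.selfEquivSigmaOrbitsQuotientStabilizer Γ Y), Nat.card_sigma]
  exact Finset.dvd_sum (fun ω _ => h ω.out)

/-- The points on which the left action of `i` agrees with the right action of some element of
a class `D` of elements with smaller centralizers: their number is divisible by `p |S|`. -/
theorem dvd_card_fixed [Finite S] (p : ℕ) [Fact p.Prime] (hS : IsPGroup p S) (F : FusionSystem S)
    (X : Type u) [Finite X] [MulAction (↥S × ↥S) X]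
    (hgr : ∀ x : X, stabilizer (↥S × ↥S) x ∈ Gr F) (i : ↥S) (D : ↥S → Prop)
    (hDconj : ∀ s a : ↥S, D s → D (a * s * a⁻¹))
    (hD : ∀ s : ↥S, D s → (∃ x : X, ((i, 1) : ↥S × ↥S) • x = ((1, s) : ↥S × ↥S) • x) →
      Nat.card (Subgroup.centralizer ({s} : Set ↥S)) <
        Nat.card (Subgroup.centralizer ({i} : Set ↥S))) :
    p * Nat.card S ∣ Nat.card {x : X // ∃ s : ↥S, D s ∧
      ((i, 1) : ↥S × ↥S) • x = ((1, s) : ↥S × ↥S) • x} := by
  obtain ⟨Γ, hΓ⟩ : ∃ Γ : Subgroup (↥S × ↥S),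
      Γ = (Subgroup.centralizer ({i} : Set ↥S)).prod ⊤ := ⟨_, rfl⟩
  let Y : SubMulAction ↥Γ X :=
    { carrier := {x | ∃ s : ↥S, D s ∧ ((i, 1) : ↥S × ↥S) • x = ((1, s) : ↥S × ↥S) • x}
      smul_mem' := by
        rintro ⟨⟨c, a⟩, hc⟩ x ⟨s, hs, hx⟩
        rw [hΓ, Subgroup.mem_prod] at hc
        have hci : i * c = c * i := (Subgroup.mem_centralizer_iff.1 hc.1) i rfl
        refine ⟨a * s * a⁻¹, hDconj s a hs, ?_⟩
        show ((i, 1) : ↥S × ↥S) • (((c, a) : ↥S × ↥S) • x) =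
          ((1, a * s * a⁻¹) : ↥S × ↥S) • (((c, a) : ↥S × ↥S) • x)
        have e1 : ((i, 1) : ↥S × ↥S) * (c, a) = (c, a) * (i, 1) :=
          Prod.ext hci (by simp)
        have e2 : ((1, a * s * a⁻¹) : ↥S × ↥S) * (c, a) = (c, a) * (1, s) :=
          Prod.ext (by simp) (by simp)
        rw [← mul_smul, ← mul_smul, e1, e2, mul_smul, mul_smul, hx] }
  show p * Nat.card S ∣ Nat.card ↥Y
  apply dvd_card_of_index (Γ := ↥Γ)
  rintro ⟨x, s, hs, hx⟩
  rw [SubMulAction.stabilizer_of_subMul]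
  show p * Nat.card S ∣ (stabilizer ↥Γ x).index
  -- the stabilizer embeds in the centralizer of `s`
  obtain ⟨R, χ, hχ, hmem⟩ := hgr x
  have h0 : ((1, s) : ↥S × ↥S)⁻¹ * (i, 1) ∈ stabilizer (↥S × ↥S) x := by
    rw [mem_stabilizer_iff, mul_smul, hx, inv_smul_smul]
  obtain ⟨r₀, hr₀1, hr₀2⟩ := (hmem _).1 h0
  have e1 : (((((1, s) : ↥S × ↥S)⁻¹ * (i, 1)).1 : ↥S) : Ω) = i := by simp
  have e2 : (((((1, s) : ↥S × ↥S)⁻¹ * (i, 1)).2 : ↥S) : Ω) = (s : Ω)⁻¹ := by simp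
  rw [e1] at hr₀1
  rw [e2] at hr₀2
  have hcent : ∀ γ : ↥(stabilizer ↥Γ x), ((γ : ↥Γ) : ↥S × ↥S).2 ∈
      Subgroup.centralizer ({s} : Set ↥S) := by
    rintro ⟨⟨⟨c, a⟩, hc⟩, hst⟩
    rw [hΓ, Subgroup.mem_prod] at hc
    have hci : i * c = c * i := (Subgroup.mem_centralizer_iff.1 hc.1) i rfl
    have hst' : ((c, a) : ↥S × ↥S) ∈ stabilizer (↥S × ↥S) x := hst
    obtain ⟨r, hr1, hr2⟩ := (hmem _).1 hst'
    have hr1' : χ r = (c : Ω) := hr1
    have hr2' : (r : Ω) = (a : Ω) := hr2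
    have hcomm : r₀ * r = r * r₀ := by
      apply F.injective_of_mem hχ
      rw [map_mul, map_mul, hr₀1, hr1']
      exact congrArg Subtype.val hci
    have hcomm' : (s : Ω)⁻¹ * (a : Ω) = (a : Ω) * (s : Ω)⁻¹ := by
      rw [← hr₀2, ← hr2']
      exact congrArg Subtype.val hcomm
    show a ∈ Subgroup.centralizer ({s} : Set ↥S)
    rw [Subgroup.mem_centralizer_iff]
    intro s' hs'
    rw [Set.mem_singleton_iff] at hs'
    rw [hs']
    apply Subtype.ext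
    show (s : Ω) * (a : Ω) = (a : Ω) * (s : Ω)
    calc (s : Ω) * (a : Ω) = (s : Ω) * ((a : Ω) * (s : Ω)⁻¹) * (s : Ω) := by group
      _ = (s : Ω) * ((s : Ω)⁻¹ * (a : Ω)) * (s : Ω) := by rw [hcomm']
      _ = (a : Ω) * (s : Ω) := by group
  have hinj : Function.Injective (fun γ : ↥(stabilizer ↥Γ x) =>
      (⟨((γ : ↥Γ) : ↥S × ↥S).2, hcent γ⟩ : ↥(Subgroup.centralizer ({s} : Set ↥S)))) := by
    rintro ⟨⟨⟨c, a⟩, hc⟩, hst⟩ ⟨⟨⟨c', a'⟩, hc'⟩, hst'⟩ h
    have ha : a = a' := congrArg Subtype.val h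
    subst ha
    have hst1 : ((c, a) : ↥S × ↥S) ∈ stabilizer (↥S × ↥S) x := hst
    have hst2 : ((c', a) : ↥S × ↥S) ∈ stabilizer (↥S × ↥S) x := hst'
    obtain ⟨r, hr1, hr2⟩ := (hmem _).1 hst1
    obtain ⟨r', hr1', hr2'⟩ := (hmem _).1 hst2
    have hrr : r = r' := Subtype.ext (hr2.trans hr2'.symm)
    have hcc : c = c' := by
      apply Subtype.ext
      have h1 : χ r = (c : Ω) := hr1
      have h2 : χ r' = (c' : Ω) := hr1'
      rw [← h1, ← h2, hrr]
    subst hcc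
    rfl
  have hle : Nat.card ↥(stabilizer ↥Γ x) ≤ Nat.card (Subgroup.centralizer ({s} : Set ↥S)) :=
    Nat.card_le_card_of_injective _ hinj
  have hlt := hD s hs ⟨x, hx⟩
  -- the arithmetic
  have hcardΓ : Nat.card ↥Γ = Nat.card (Subgroup.centralizer ({i} : Set ↥S)) * Nat.card S := by
    rw [hΓ, Nat.card_congr (Subgroup.prodEquiv _ _).toEquiv, Nat.card_prod, Subgroup.card_top]
  obtain ⟨n, hn⟩ := IsPGroup.iff_card.1 hS
  obtain ⟨a, ha⟩ := IsPGroup.iff_card.1 (hS.to_subgroup (Subgroup.centralizer ({i} : Set ↥S)))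
  have hidx : (stabilizer ↥Γ x).index * Nat.card ↥(stabilizer ↥Γ x) = p ^ a * p ^ n := by
    rw [Subgroup.index_mul_card, hcardΓ, ha, hn]
  have hp : p.Prime := Fact.out
  have hdvd : Nat.card ↥(stabilizer ↥Γ x) ∣ p ^ (a + n) := by
    rw [pow_add]
    exact Dvd.intro_left _ hidx
  obtain ⟨b, -, hb⟩ := (Nat.dvd_prime_pow hp).1 hdvd
  have hba : b < a := by
    have h1 : p ^ b < p ^ a := by
      rw [← hb, ← ha]
      exact lt_of_le_of_lt hle hlt
    exact (Nat.pow_lt_pow_iff_right hp.one_lt).1 h1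
  rw [hb] at hidx
  have h2 : (stabilizer ↥Γ x).index * p ^ b = p ^ (a - b - 1) * (p * p ^ n) * p ^ b := by
    rw [hidx]
    have : a = (a - b - 1) + 1 + b := by omega
    conv_lhs => rw [this, pow_add, pow_add, pow_one]
    ring
  have h3 := Nat.eq_of_mul_eq_mul_right (pow_pos hp.pos b) h2
  rw [h3, hn]
  exact Dvd.intro_left _ rfl

end Cfsg.Agent.Helper27.Biset
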