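import Cfsg.Agent.Helper27.Biset11
import Cfsg.Agent.Helper26.FusionSat

set_option autoImplicit false

namespace Cfsg.Agent.Helper27.Biset

open Cfsg Cfsg.FusionSystem Cfsg.Agent.Helper26 Cfsg.Agent.Helper27.Marks MulAction
open scoped Classical

universe u
variable {Ω : Type u} [Group Ω] {S : Subgroup Ω}

theorem map_mem_zpowers {x : Ω} (φ : ↥(Subgroup.zpowers x) →* Ω) (a : ↥(Subgroup.zpowers x)) :
    φ a ∈ Subgroup.zpowers (φ ⟨x, Subgroup.mem_zpowers x⟩) := by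
  obtain ⟨k, hk⟩ := Subgroup.mem_zpowers_iff.1 a.2
  have : a = (⟨x, Subgroup.mem_zpowers x⟩ : ↥(Subgroup.zpowers x)) ^ k :=
    Subtype.ext (by rw [Subgroup.coe_zpow]; exact hk.symm)
  rw [this, map_zpow]
  exact Subgroup.zpow_mem_zpowers _ k

theorem range_zpowers {x : Ω} (φ : ↥(Subgroup.zpowers x) →* Ω) :
    φ.range = Subgroup.zpowers (φ ⟨x, Subgroup.mem_zpowers x⟩) := by
  apply le_antisymm
  · rintro _ ⟨a, rfl⟩
    exact map_mem_zpowers φ a
  · rw [Subgroup.zpowers_le]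
    exact ⟨_, rfl⟩

theorem conjElt_of_hom (F : FusionSystem S) {R : Subgroup Ω} {χ : R →* Ω} (hχ : χ ∈ F.Hom R)
    (r : R) : F.IsConjElt (r : Ω) (χ r) := by
  have hle : Subgroup.zpowers (r : Ω) ≤ R := (Subgroup.zpowers_le (H := R)).2 r.2
  exact ⟨χ.comp (Subgroup.inclusion hle), restrict_mem F hχ hle (fun x => rfl), rfl⟩

theorem isConjElt_symm (F : FusionSystem S) {x y : Ω} (h : F.IsConjElt x y) : F.IsConjElt y x := by
  obtain ⟨φ, hφ, rfl⟩ := h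
  obtain ⟨ψ, hψ, hinv⟩ := F.inv_mem hφ
  have h1 := conjElt_of_hom F hψ ⟨φ ⟨x, Subgroup.mem_zpowers x⟩, ⟨_, rfl⟩⟩
  rw [hinv ⟨x, Subgroup.mem_zpowers x⟩] at h1
  exact h1

theorem isConjElt_trans (F : FusionSystem S) {x y z : Ω} (h1 : F.IsConjElt x y)
    (h2 : F.IsConjElt y z) : F.IsConjElt x z := by
  obtain ⟨φ, hφ, rfl⟩ := h1
  obtain ⟨ψ, hψ, rfl⟩ := h2
  exact ⟨ψ.comp (φ.codRestrict _ (map_mem_zpowers φ)), F.comp_mem hφ hψ _, rfl⟩

theorem isConj_zpowers (F : FusionSystem S) {x y : Ω} (h : F.IsConjElt x y) :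
    F.IsConj (Subgroup.zpowers x) (Subgroup.zpowers y) := by
  obtain ⟨φ, hφ, rfl⟩ := h
  exact ⟨φ, hφ, range_zpowers φ⟩

theorem zpow_of_sq {G : Type*} [Group G] {x : G} (hx : x * x = 1) (k : ℤ) :
    x ^ k = 1 ∨ x ^ k = x := by
  rcases Int.even_or_odd k with ⟨m, rfl⟩ | ⟨m, rfl⟩
  · left
    have h2 : x ^ (2 : ℤ) = 1 := by
      rw [zpow_ofNat, pow_two, hx]
    rw [← two_mul, zpow_mul, h2, one_zpow]
  · right
    have h2 : x ^ (2 : ℤ) = 1 := by
      rw [zpow_ofNat, pow_two, hx]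
    rw [zpow_add, zpow_mul, h2, one_zpow, one_mul, zpow_one]

theorem card_normalizerIn_zpowers (x : ↥S) (hx : x * x = 1) :
    Nat.card (normalizerIn S (Subgroup.zpowers (x : Ω))) =
      Nat.card (Subgroup.centralizer ({x} : Set ↥S)) := by
  have hxΩ : (x : Ω) * (x : Ω) = 1 := congrArg Subtype.val hx
  have hfwd : ∀ g : Ω, g ∈ normalizerIn S (Subgroup.zpowers (x : Ω)) →
      g * (x : Ω) * g⁻¹ = (x : Ω) := by
    intro g hg
    have h1 := ((mem_normalizerIn.1 hg).2 (x : Ω)).1 (Subgroup.mem_zpowers _)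
    obtain ⟨k, hk⟩ := Subgroup.mem_zpowers_iff.1 h1
    rcases zpow_of_sq hxΩ k with h2 | h2
    · rw [h2] at hk
      have : (x : Ω) = 1 := by
        have h3 : (x : Ω) = g⁻¹ * (g * (x : Ω) * g⁻¹) * g := by group
        rw [h3, ← hk]; group
      rw [this]; group
    · rw [h2] at hk
      exact hk.symm
  have hbwd : ∀ c : ↥S, c ∈ Subgroup.centralizer ({x} : Set ↥S) →
      (c : Ω) ∈ normalizerIn S (Subgroup.zpowers (x : Ω)) := by
    intro c hc
    have hcx : x * c = c * x := (Subgroup.mem_centralizer_iff.1 hc) x rfl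
    have hcxΩ : (x : Ω) * (c : Ω) = (c : Ω) * (x : Ω) := congrArg Subtype.val hcx
    have hconj : (c : Ω) * (x : Ω) * (c : Ω)⁻¹ = (x : Ω) := by
      rw [← hcxΩ]; group
    have hconj' : (c : Ω)⁻¹ * (x : Ω) * (c : Ω) = (x : Ω) := by
      rw [mul_assoc, hcxΩ]; group
    refine mem_normalizerIn.2 ⟨c.2, fun y => ⟨fun hy => ?_, fun hy => ?_⟩⟩
    · obtain ⟨k, rfl⟩ := Subgroup.mem_zpowers_iff.1 hy
      have : (c : Ω) * (x : Ω) ^ k * (c : Ω)⁻¹ = ((c : Ω) * (x : Ω) * (c : Ω)⁻¹) ^ k := by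
        rw [conj_zpow]
      rw [this, hconj]
      exact Subgroup.zpow_mem_zpowers _ k
    · obtain ⟨k, hk⟩ := Subgroup.mem_zpowers_iff.1 hy
      have h3 : y = (c : Ω)⁻¹ * ((c : Ω) * y * (c : Ω)⁻¹) * (c : Ω) := by group
      have h4 : (c : Ω)⁻¹ * (x : Ω) ^ k * (c : Ω) = ((c : Ω)⁻¹ * (x : Ω) * (c : Ω)) ^ k := by
        have := conj_zpow (a := (c : Ω)⁻¹) (b := (x : Ω)) (i := k)
        rw [inv_inv] at this
        exact this.symm
      rw [h3, ← hk, h4, hconj']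
      exact Subgroup.zpow_mem_zpowers _ k
  refine Nat.card_congr
    { toFun := fun g => ⟨⟨g, (mem_normalizerIn.1 g.2).1⟩, ?_⟩
      invFun := fun c => ⟨c, hbwd c c.2⟩
      left_inv := fun g => rfl
      right_inv := fun c => rfl }
  rw [Subgroup.mem_centralizer_iff]
  intro y hy
  rw [Set.mem_singleton_iff] at hy
  rw [hy]
  apply Subtype.ext
  show (x : Ω) * (g : Ω) = (g : Ω) * (x : Ω)
  have h5 := hfwd g g.2
  calc (x : Ω) * (g : Ω) = ((g : Ω) * (x : Ω) * (g : Ω)⁻¹) * (g : Ω) := by rw [h5]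
    _ = (g : Ω) * (x : Ω) := by group

end Cfsg.Agent.Helper27.Biset
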