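import Cfsg.Agent.Helper27.Biset12

set_option autoImplicit false

namespace Cfsg.Agent.Helper27.Biset

open Cfsg Cfsg.FusionSystem Cfsg.Agent.Helper26 Cfsg.Agent.Helper27.Marks MulAction
open scoped Classical

universe u
variable {Ω : Type u} [Group Ω] {S : Subgroup Ω}

/-- Thompson's transfer lemma for saturated fusion systems. -/
theorem thompson_transfer [Finite S] (hS : IsPGroup 2 S) (F : FusionSystem S)
    (hF : F.IsSaturated 2) (T : Subgroup Ω) (hT : T.relIndex S = 2) (i : Ω) (hi : i ∈ S)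
    (hi2 : i * i = 1)
    (h : ∀ j : Ω, F.IsConjElt i j → F.IsFullyNormalized (Subgroup.zpowers j) → j ∉ T) :
    i ∉ F.hyperfocalSubgroup 2 := by
  haveI : Fact (Nat.Prime 2) := ⟨Nat.prime_two⟩
  obtain ⟨X, hXfin, hXact, hgr, hst, ⟨x₀, hx₀⟩, r, hr, hcard⟩ := exists_char_biset 2 hS F hF
  -- the sign character of `T`
  have hT' : (T.subgroupOf S).index = 2 := hT
  obtain ⟨θ, hθ⟩ : ∃ θ : ↥S →* ℤˣ, ∀ s : ↥S, θ s = 1 ↔ (s : Ω) ∈ T := by
    refine ⟨MonoidHom.mk' (fun s => if s ∈ T.subgroupOf S then 1 else -1) (fun a b => ?_),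
      fun s => ?_⟩
    · have hab := Subgroup.mul_mem_iff_of_index_two hT' (a := a) (b := b)
      by_cases ha : a ∈ T.subgroupOf S <;> by_cases hb : b ∈ T.subgroupOf S <;>
        simp [hab, ha, hb]
    · show (if s ∈ T.subgroupOf S then (1 : ℤˣ) else -1) = 1 ↔ _
      rw [← Subgroup.mem_subgroupOf]
      by_cases hs : s ∈ T.subgroupOf S
      · simp [hs]
      · simp [hs]
  obtain ⟨ϕ, hϕ⟩ := exists_phi_theta F hgr x₀ θ
  -- a fully normalized conjugate of `i`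
  have hzi : Subgroup.zpowers i ≤ S := (Subgroup.zpowers_le (H := S)).2 hi
  obtain ⟨Q, ⟨φ, hφ, hφQ⟩, hQfn⟩ := exists_fullyNormalized_conj F hzi
  obtain ⟨j, hj⟩ : ∃ j : Ω, j = φ ⟨i, Subgroup.mem_zpowers i⟩ := ⟨_, rfl⟩
  have hQ : Q = Subgroup.zpowers j := by rw [← hφQ, range_zpowers φ, hj]
  rw [hQ] at hQfn
  have hij : F.IsConjElt i j := ⟨φ, hφ, hj.symm⟩
  have hjT : j ∉ T := h j hij hQfn
  have hjS : j ∈ S := by rw [hj]; exact (F.le_of_mem hφ).2 _
  have hj2 : j * j = 1 := by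
    rw [hj, ← map_mul]
    have : (⟨i, Subgroup.mem_zpowers i⟩ : ↥(Subgroup.zpowers i)) * ⟨i, Subgroup.mem_zpowers i⟩
        = 1 := Subtype.ext hi2
    rw [this, map_one]
  have hj2' : (⟨j, hjS⟩ : ↥S) * ⟨j, hjS⟩ = 1 := Subtype.ext hj2
  -- stability
  have hstab : MonoidHom.transfer ϕ (leftHom S X ⟨j, hjS⟩) =
      MonoidHom.transfer ϕ (leftHom S X ⟨i, hi⟩) := by
    have := transfer_stable F X hgr hst x₀ hx₀ ϕ (Subgroup.zpowers i) φ hφ
      ⟨i, Subgroup.mem_zpowers i⟩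
    have e : (⟨φ ⟨i, Subgroup.mem_zpowers i⟩,
        (F.le_of_mem hφ).2 ⟨i, Subgroup.mem_zpowers i⟩⟩ : ↥S) = ⟨j, hjS⟩ := Subtype.ext hj.symm
    rw [e] at this
    exact this
  -- the index is odd
  have hidx := orbStab_index F X hgr x₀
  have hodd : Odd (orbStab S X x₀).index := by
    rw [← hidx] at hcard
    have h1 := Nat.ModEq.mul_right_cancel' (Nat.card_pos (α := S)).ne' hcard
    rw [Nat.odd_iff]
    have h2 : r % 2 = 1 := by
      rcases Nat.mod_two_eq_zero_or_one r with h0 | h1'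
      · exact absurd (Nat.dvd_of_mod_eq_zero h0) hr
      · exact h1'
    rw [← h2]
    exact h1
  -- the even count
  have hθc : ∀ s a : ↥S, θ s = 1 → θ (a * s * a⁻¹) = 1 := by
    intro s a hs
    rw [map_mul, map_mul, map_inv, hs, mul_one, mul_inv_cancel]
  have heven : 2 * Nat.card S ∣ Nat.card {x : X // ∃ s : ↥S, θ s = 1 ∧
      (((⟨j, hjS⟩ : ↥S), 1) : ↥S × ↥S) • x = ((1, s) : ↥S × ↥S) • x} := by
    apply dvd_card_fixed 2 hS F X hgr ⟨j, hjS⟩ (fun s => θ s = 1) hθc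
    rintro s hs ⟨x, hx⟩
    obtain ⟨R, χ, hχ, hmem⟩ := hgr x
    have h0 : ((1, s) : ↥S × ↥S)⁻¹ * ((⟨j, hjS⟩ : ↥S), 1) ∈ stabilizer (↥S × ↥S) x := by
      rw [mem_stabilizer_iff, mul_smul, hx, inv_smul_smul]
    obtain ⟨r₀, hr₀1, hr₀2⟩ := (hmem _).1 h0
    have e1 : (((((1, s) : ↥S × ↥S)⁻¹ * ((⟨j, hjS⟩ : ↥S), 1)).1 : ↥S) : Ω) = j := by simp
    have e2 : (((((1, s) : ↥S × ↥S)⁻¹ * ((⟨j, hjS⟩ : ↥S), 1)).2 : ↥S) : Ω) = (s : Ω)⁻¹ := by
      simp
    rw [e1] at hr₀1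
    rw [e2] at hr₀2
    -- `s` is an involution
    have hr₀sq : r₀ * r₀ = 1 := by
      apply F.injective_of_mem hχ
      rw [map_mul, hr₀1, hj2, map_one]
    have hsinv : (s : Ω)⁻¹ * (s : Ω)⁻¹ = 1 := by
      rw [← hr₀2]
      exact congrArg Subtype.val hr₀sq
    have hss : s * s = 1 := by
      apply Subtype.ext
      show (s : Ω) * (s : Ω) = 1
      have : ((s : Ω) * (s : Ω))⁻¹ = 1 := by rw [mul_inv_rev]; exact hsinv
      exact inv_eq_one.1 this
    have hr₀s : (r₀ : Ω) = (s : Ω) := by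
      rw [hr₀2]
      exact inv_eq_of_mul_eq_one_left (congrArg Subtype.val hss)
    -- `s` is conjugate to `j`, hence to `i`
    have hsj : F.IsConjElt (s : Ω) j := by
      have := conjElt_of_hom F hχ r₀
      rw [hr₀1, hr₀s] at this
      exact this
    have his : F.IsConjElt i (s : Ω) := isConjElt_trans F hij (isConjElt_symm F hsj)
    have hsT : (s : Ω) ∈ T := (hθ s).1 hs
    have hnfn : ¬ F.IsFullyNormalized (Subgroup.zpowers (s : Ω)) := fun hfn => h _ his hfn hsT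
    have hzs : Subgroup.zpowers (s : Ω) ≤ S := (Subgroup.zpowers_le (H := S)).2 s.2
    have hex : ∃ Q' : Subgroup Ω, F.IsConj (Subgroup.zpowers (s : Ω)) Q' ∧
        Nat.card (normalizerIn S (Subgroup.zpowers (s : Ω))) < Nat.card (normalizerIn S Q') := by
      by_contra hcon
      apply hnfn
      refine ⟨hzs, fun Q' hQ' => ?_⟩
      by_contra hlt
      exact hcon ⟨Q', hQ', not_le.1 hlt⟩
    obtain ⟨Q', hQ', hlt⟩ := hex
    have hjQ' : F.IsConj (Subgroup.zpowers j) Q' :=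
      isConj_trans F (isConj_symm F (isConj_zpowers F hsj)) hQ'
    have hle := hQfn.2 Q' hjQ'
    have hfinal : Nat.card (normalizerIn S (Subgroup.zpowers (s : Ω))) <
        Nat.card (normalizerIn S (Subgroup.zpowers j)) := lt_of_lt_of_le hlt hle
    rw [card_normalizerIn_zpowers s hss] at hfinal
    have := card_normalizerIn_zpowers (⟨j, hjS⟩ : ↥S) hj2'
    rw [this] at hfinal
    exact hfinal
  have heval := transfer_involution F X hgr x₀ θ ϕ hϕ ⟨j, hjS⟩ hj2' hodd heven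
  -- conclusion
  intro hmem
  have hle : F.hyperfocalSubgroup 2 ≤
      ((MonoidHom.transfer ϕ).comp (leftHom S X)).ker.map S.subtype := by
    unfold FusionSystem.hyperfocalSubgroup
    rw [Subgroup.closure_le]
    rintro y ⟨P, α, x, hPS, -, rfl⟩
    have hα : P.subtype.comp ((α : MulAut ↥P)).toMonoidHom ∈ F.Hom P :=
      (mem_autGroup_iff F hPS).1 α.2
    refine ⟨(⟨x, hPS x.2⟩ : ↥S)⁻¹ * ⟨(((α : MulAut ↥P) x : ↥P) : Ω), hPS ((α : MulAut ↥P) x).2⟩,
      ?_, rfl⟩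
    rw [SetLike.mem_coe, MonoidHom.mem_ker, map_mul, map_inv]
    have := transfer_stable F X hgr hst x₀ hx₀ ϕ P _ hα x
    rw [MonoidHom.comp_apply, MonoidHom.comp_apply]
    rw [inv_mul_eq_one]
    exact this.symm
  obtain ⟨z, hz, hzi'⟩ := hle hmem
  have hzeq : z = ⟨i, hi⟩ := Subtype.ext hzi'
  rw [hzeq] at hz
  have hz' : MonoidHom.transfer ϕ (leftHom S X ⟨i, hi⟩) = 1 := MonoidHom.mem_ker.1 hz
  rw [← hstab, heval] at hz'
  exact absurd hz' (by decide)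

end Cfsg.Agent.Helper27.Biset
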