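import Cfsg.Agent.Helper27.Biset

set_option autoImplicit false

namespace Cfsg.Agent.Helper27.Biset

open Cfsg Cfsg.FusionSystem Cfsg.Agent.Helper26 Cfsg.Agent.Helper27.Marks MulAction
open scoped Classical

universe u
variable {Ω : Type u} [Group Ω] {S : Subgroup Ω}

theorem cj_inv_cj {Γ : Type*} [Group Γ] (g : Γ) (H : Subgroup Γ) : cj g⁻¹ (cj g H) = H := by
  unfold cj
  rw [Subgroup.map_map]
  have : (MulAut.conj g⁻¹⁻¹).toMonoidHom.comp (MulAut.conj g⁻¹).toMonoidHom = MonoidHom.id Γ := by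
    ext x
    simp only [MonoidHom.comp_apply, MulEquiv.coe_toMonoidHom, MulAut.conj_apply, inv_inv,
      MonoidHom.id_apply]
    group
  rw [this, Subgroup.map_id]

theorem stabilizer_sigma {Γ : Type*} [Group Γ] {I : Type*} {α : I → Type*}
    [∀ i, MulAction Γ (α i)] (i : I) (a : α i) :
    stabilizer Γ (⟨i, a⟩ : Σ i, α i) = stabilizer Γ a := by
  ext g
  simp only [mem_stabilizer_iff]
  constructor
  · intro h
    have h' : (⟨i, g • a⟩ : Σ i, α i) = ⟨i, a⟩ := h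
    exact eq_of_heq (Sigma.mk.inj_iff.1 h').2
  · intro h
    show (⟨i, g • a⟩ : Σ i, α i) = ⟨i, a⟩
    rw [h]

theorem stabilizer_mk {Γ : Type*} [Group Γ] (D : Subgroup Γ) (g₀ : Γ) :
    stabilizer Γ (QuotientGroup.mk g₀ : Γ ⧸ D) = cj g₀⁻¹ D := by
  have : (QuotientGroup.mk g₀ : Γ ⧸ D) = g₀ • (QuotientGroup.mk 1 : Γ ⧸ D) := by
    rw [MulAction.Quotient.smul_mk, smul_eq_mul, mul_one]
  rw [this, stabilizer_smul_eq_stabilizer_map_conj, stabilizer_quotient]
  unfold cj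
  rw [inv_inv]

/-- The right action of `S`. -/
def rightPerm (S : Subgroup Ω) (X : Type*) [MulAction (↥S × ↥S) X] (s : ↥S) : Equiv.Perm X :=
  MulAction.toPermHom (↥S × ↥S) X (1, s)

/-- The automorphisms of the right `S`-set `X`. -/
def autGrp (S : Subgroup Ω) (X : Type*) [MulAction (↥S × ↥S) X] : Subgroup (Equiv.Perm X) :=
  Subgroup.centralizer (Set.range (rightPerm S X))

theorem mem_autGrp {X : Type*} [MulAction (↥S × ↥S) X] {e : Equiv.Perm X} :
    e ∈ autGrp S X ↔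
      ∀ (s : ↥S) (x : X), e (((1, s) : ↥S × ↥S) • x) = ((1, s) : ↥S × ↥S) • e x := by
  unfold autGrp
  rw [Subgroup.mem_centralizer_iff]
  constructor
  · intro h s x
    have := h _ ⟨s, rfl⟩
    exact (congrArg (fun p : Equiv.Perm X => p x) this).symm
  · rintro h _ ⟨s, rfl⟩
    ext x
    exact (h s x).symm

/-- The left action of `S`, as a homomorphism into the automorphism group of the right `S`-set. -/
def leftHom (S : Subgroup Ω) (X : Type*) [MulAction (↥S × ↥S) X] : ↥S →* ↥(autGrp S X) :=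
  MonoidHom.codRestrict ((MulAction.toPermHom (↥S × ↥S) X).comp (MonoidHom.inl ↥S ↥S)) (autGrp S X)
    (fun u => mem_autGrp.2 (fun s x => by
      show ((u, 1) : ↥S × ↥S) • ((1, s) : ↥S × ↥S) • x
        = ((1, s) : ↥S × ↥S) • ((u, 1) : ↥S × ↥S) • x
      rw [← mul_smul, ← mul_smul]
      congr 1
      ext <;> simp))

theorem leftHom_apply {X : Type*} [MulAction (↥S × ↥S) X] (u : ↥S) (x : X) :
    ((leftHom S X u : Equiv.Perm X)) x = ((u, 1) : ↥S × ↥S) • x := rfl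

theorem tw_one_right (F : FusionSystem S) {P : Subgroup Ω} {ψ : P →* Ω} (hψ : ψ ∈ F.Hom P)
    (s : ↥S) : tw F hψ (1, s) = (1, s) := Prod.ext (map_one (homS F hψ)) rfl

/-- A stable biset generated by the system realizes it. -/
theorem realized [Finite S] (F : FusionSystem S) (X : Type u) [Finite X] [MulAction (↥S × ↥S) X]
    (hgr : ∀ x : X, stabilizer (↥S × ↥S) x ∈ Gr F)
    (hx₀ : ∃ x₀ : X, stabilizer (↥S × ↥S) x₀ = diag S)
    (hst : ∀ (P : Subgroup Ω) (ψ₁ ψ₂ : P →* Ω) (h₁ : ψ₁ ∈ F.Hom P) (h₂ : ψ₂ ∈ F.Hom P)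
      (K : Subgroup (↥P × ↥S)), mark X (K.map (tw F h₁)) = mark X (K.map (tw F h₂))) :
    F.IsRealizedBy (leftHom S X) := by
  obtain ⟨x₀, hx₀⟩ := hx₀
  refine ⟨?_, ?_⟩
  · intro u u' h
    have h1 : ((u, 1) : ↥S × ↥S) • x₀ = ((u', 1) : ↥S × ↥S) • x₀ :=
      congrArg (fun g : ↥(autGrp S X) => (g : Equiv.Perm X) x₀) h
    have h2 : ((u', 1) : ↥S × ↥S)⁻¹ * (u, 1) ∈ stabilizer (↥S × ↥S) x₀ := by
      rw [mem_stabilizer_iff, mul_smul, h1, inv_smul_smul]
    rw [hx₀] at h2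
    have h3 : u'⁻¹ * u = 1 := by
      have := mem_diag.1 h2
      simpa using this
    exact (inv_mul_eq_one.1 h3).symm
  · intro P hP φ hφ
    constructor
    · intro hφF
      have : Finite P := Finite.of_injective _ (Subgroup.inclusion_injective hP)
      obtain ⟨e, he⟩ := exists_twisted_equiv (X := X) (tw F (incl_mem F hP)) (tw F hφF)
        (fun K => hst P _ _ _ _ K)
      have heG : e ∈ autGrp S X := by
        refine mem_autGrp.2 (fun s x => ?_)
        have := he (1, s) x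
        rw [tw_one_right, tw_one_right] at this
        exact this
      refine ⟨⟨e, heG⟩, fun x => ?_⟩
      apply Subtype.ext
      ext z
      show ((⟨φ x, hφ x⟩, 1) : ↥S × ↥S) • z = e (((⟨x, hP x.2⟩, 1) : ↥S × ↥S) • e.symm z)
      have := he (x, 1) (e.symm z)
      rw [Equiv.apply_symm_apply] at this
      exact this.symm
    · rintro ⟨g, hg⟩
      have hL : ∀ (x : P) (w : X), ((⟨φ x, hφ x⟩, 1) : ↥S × ↥S) • (g : Equiv.Perm X) w =
          (g : Equiv.Perm X) (((⟨x, hP x.2⟩, 1) : ↥S × ↥S) • w) := by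
        intro x w
        have h1 := congrArg (fun p : ↥(autGrp S X) => (p : Equiv.Perm X) ((g : Equiv.Perm X) w))
          (hg x)
        simp only [Subgroup.coe_mul, Subgroup.coe_inv, Equiv.Perm.coe_mul, Function.comp_apply] at h1
        have h2 : ((g : Equiv.Perm X))⁻¹ ((g : Equiv.Perm X) w) = w :=
          (g : Equiv.Perm X).symm_apply_apply w
        rw [h2] at h1
        exact h1
      have key : ∀ x : P, ((⟨φ x, hφ x⟩, ⟨x, hP x.2⟩) : ↥S × ↥S) ∈
          stabilizer (↥S × ↥S) ((g : Equiv.Perm X) x₀) := by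
        intro x
        rw [mem_stabilizer_iff]
        have e1 : ((⟨φ x, hφ x⟩, ⟨x, hP x.2⟩) : ↥S × ↥S) =
            (⟨φ x, hφ x⟩, 1) * (1, ⟨x, hP x.2⟩) := by ext <;> simp
        have e2 : ((⟨x, hP x.2⟩, 1) : ↥S × ↥S) * (1, ⟨x, hP x.2⟩) ∈ stabilizer (↥S × ↥S) x₀ := by
          rw [hx₀]; exact mem_diag.2 (by simp)
        rw [e1, mul_smul, ← mem_autGrp.1 g.2 ⟨x, hP x.2⟩ x₀, hL x, ← mul_smul,
          mem_stabilizer_iff.1 e2]
      obtain ⟨R, χ, hχ, hmem⟩ := hgr ((g : Equiv.Perm X) x₀)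
      have hPR : P ≤ R := by
        intro x hx
        obtain ⟨r, -, hr⟩ := (hmem _).1 (key ⟨x, hx⟩)
        have : (r : Ω) = x := hr
        rw [← this]; exact r.2
      refine restrict_mem F hχ hPR (fun x => ?_)
      obtain ⟨r, hr1, hr2⟩ := (hmem _).1 (key x)
      have : r = ⟨x, hPR x.2⟩ := Subtype.ext hr2
      rw [← this]; exact hr1.symm

/-- Every fusion system over a finite group is realized inside a finite group. -/
theorem exists_realization [Finite S] (F : FusionSystem S) :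
    ∃ (G : Type u) (_ : Group G) (_ : Finite G) (ι : ↥S →* G), F.IsRealizedBy ι := by
  haveI : Fintype (Subgroup (↥S × ↥S)) := Fintype.ofFinite _
  haveI : Fintype (↥S × ↥S) := Fintype.ofFinite _
  obtain ⟨w, c, hw0, hwpos, hwsum⟩ := exists_weights (Gr F)
  have hW : ∀ H₁ H₂ : Subgroup (↥S × ↥S), (H₁ ∈ Gr F ↔ H₂ ∈ Gr F) →
      Nat.card H₁ = Nat.card H₂ →
      (∑ D : Subgroup (↥S × ↥S), if H₁ ≤ D then w D else 0) =
        ∑ D : Subgroup (↥S × ↥S), if H₂ ≤ D then w D else 0 := by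
    intro H₁ H₂ hiff hcard
    have z : ∀ H : Subgroup (↥S × ↥S), H ∉ Gr F →
        (∑ D : Subgroup (↥S × ↥S), if H ≤ D then w D else 0) = 0 := by
      intro H hH
      refine Finset.sum_eq_zero (fun D _ => ?_)
      split_ifs with hle
      · exact hw0 D (fun hD => hH (Gr_of_le F hD hle))
      · rfl
    by_cases h1 : H₁ ∈ Gr F
    · rw [hwsum H₁ h1, hwsum H₂ (hiff.1 h1), hcard]
    · have h2 : H₂ ∉ Gr F := fun h => h1 (hiff.2 h)
      rw [z H₁ h1, z H₂ h2]
  refine ⟨autGrp S (Σ i : (Σ D : Subgroup (↥S × ↥S), Fin (Nat.card D * w D)), (↥S × ↥S) ⧸ i.1),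
    inferInstance, inferInstance, leftHom S _, realized F _ ?_ ?_ ?_⟩
  · rintro ⟨⟨D, j⟩, q⟩
    have hD : D ∈ Gr F := by
      by_contra hD
      have hpos := Fin.pos j
      rw [hw0 D hD, mul_zero] at hpos
      exact lt_irrefl _ hpos
    obtain ⟨g₀, rfl⟩ := QuotientGroup.mk_surjective q
    rw [stabilizer_sigma]
    show stabilizer (↥S × ↥S) (QuotientGroup.mk g₀ : (↥S × ↥S) ⧸ D) ∈ Gr F
    rw [stabilizer_mk]
    exact Gr_cj F hD _
  · have pos : 0 < Nat.card (diag S) * w (diag S) :=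
      Nat.mul_pos Nat.card_pos (hwpos _ (diag_mem_Gr F))
    refine ⟨⟨⟨diag S, ⟨0, pos⟩⟩, (QuotientGroup.mk 1 : (↥S × ↥S) ⧸ diag S)⟩, ?_⟩
    rw [stabilizer_sigma]
    exact stabilizer_quotient (diag S)
  · intro P ψ₁ ψ₂ h₁ h₂ K
    rw [mark_weighted, mark_weighted]
    refine Finset.sum_congr rfl (fun g _ => ?_)
    refine hW _ _ ⟨fun h => Gr_cj F (Gr_tw F h₁ h₂ K ?_) g, fun h => Gr_cj F (Gr_tw F h₂ h₁ K ?_) g⟩
      (by rw [card_cj, card_cj, card_map_tw, card_map_tw])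
    · have := Gr_cj F h g⁻¹
      rwa [cj_inv_cj] at this
    · have := Gr_cj F h g⁻¹
      rwa [cj_inv_cj] at this

end Cfsg.Agent.Helper27.Biset
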