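import Cfsg.Agent.Helper27.Marks3
import Cfsg.Agent.Helper26.FusionIso

set_option autoImplicit false

namespace Cfsg.Agent.Helper27.Biset

open Cfsg Cfsg.FusionSystem Cfsg.Agent.Helper26 Cfsg.Agent.Helper27.Marks MulAction
open scoped Classical

universe u
variable {Ω : Type u} [Group Ω] {S : Subgroup Ω}

theorem normalizer_card {Γ : Type*} [Group Γ] [Finite Γ] (H : Subgroup Γ) :
    Nat.card (Subgroup.normalizer (H : Set Γ)) = Nat.card H * mark (Γ ⧸ H) H := by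
  rw [card_mul_mark_quotient]
  refine Nat.card_congr (Equiv.subtypeEquivRight (fun g => ?_))
  constructor
  · intro hg h hh
    have hg' : g⁻¹ ∈ Subgroup.normalizer (H : Set Γ) := Subgroup.inv_mem _ hg
    have := (Subgroup.mem_normalizer_iff.1 hg' h).1 hh
    simpa using this
  · intro hg
    have hle : cj g H ≤ H := (cj_le_iff g H H).2 hg
    have heq : cj g H = H := Subgroup.eq_of_le_of_card_ge hle (card_cj g H).ge
    rw [Subgroup.mem_normalizer_iff]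
    intro h
    rw [← mem_cj, heq]

/-- The diagonal copy of `R` in `R × S`. -/
def dg (R : Subgroup Ω) (hR : R ≤ S) : Subgroup (↥R × ↥S) where
  carrier := {k | (k.1 : Ω) = k.2}
  mul_mem' := by
    intro a b ha hb
    simp only [Set.mem_setOf_eq] at *
    rw [Prod.fst_mul, Prod.snd_mul, Subgroup.coe_mul, Subgroup.coe_mul, ha, hb]
  one_mem' := rfl
  inv_mem' := by
    intro a ha
    simp only [Set.mem_setOf_eq] at *
    rw [Prod.fst_inv, Prod.snd_inv, Subgroup.coe_inv, Subgroup.coe_inv, ha]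

theorem mem_dg {R : Subgroup Ω} {hR : R ≤ S} {k : ↥R × ↥S} : k ∈ dg R hR ↔ (k.1 : Ω) = k.2 :=
  Iff.rfl

theorem mem_graph (F : FusionSystem S) {R : Subgroup Ω} {χ : R →* Ω} (hχ : χ ∈ F.Hom R)
    (hR : R ≤ S) {d : ↥S × ↥S} :
    d ∈ (dg R hR).map (tw F hχ) ↔ ∃ r : R, χ r = (d.1 : Ω) ∧ (r : Ω) = (d.2 : Ω) := by
  constructor
  · rintro ⟨k, hk, rfl⟩
    exact ⟨k.1, rfl, mem_dg.1 hk⟩
  · rintro ⟨r, h1, h2⟩
    refine ⟨(r, ⟨r, hR r.2⟩), rfl, ?_⟩
    apply Prod.ext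
    · exact Subtype.ext h1
    · exact Subtype.ext h2

theorem Gr_iff (F : FusionSystem S) {D : Subgroup (↥S × ↥S)} :
    D ∈ Gr F ↔ ∃ (R : Subgroup Ω) (χ : R →* Ω) (hχ : χ ∈ F.Hom R),
      D = (dg R (F.le_of_mem hχ).1).map (tw F hχ) := by
  constructor
  · rintro ⟨R, χ, hχ, hmem⟩
    refine ⟨R, χ, hχ, ?_⟩
    ext d
    rw [hmem d, mem_graph]
  · rintro ⟨R, χ, hχ, rfl⟩
    exact ⟨R, χ, hχ, fun d => mem_graph F hχ _⟩

theorem graph_mem_Gr (F : FusionSystem S) {R : Subgroup Ω} {χ : R →* Ω} (hχ : χ ∈ F.Hom R)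
    (hR : R ≤ S) : (dg R hR).map (tw F hχ) ∈ Gr F :=
  ⟨R, χ, hχ, fun _ => mem_graph F hχ hR⟩

theorem card_dg [Finite S] (R : Subgroup Ω) (hR : R ≤ S) : Nat.card (dg R hR) = Nat.card R := by
  refine Nat.card_congr
    { toFun := fun k => k.1.1
      invFun := fun r => ⟨(r, ⟨r, hR r.2⟩), rfl⟩
      left_inv := fun k => by
        apply Subtype.ext
        apply Prod.ext
        · rfl
        · exact Subtype.ext (mem_dg.1 k.2)
      right_inv := fun r => rfl }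

theorem card_graph [Finite S] (F : FusionSystem S) {R : Subgroup Ω} {χ : R →* Ω}
    (hχ : χ ∈ F.Hom R) (hR : R ≤ S) : Nat.card ((dg R hR).map (tw F hχ)) = Nat.card R := by
  rw [card_map_tw, card_dg]

theorem norm_graph (F : FusionSystem S) {U : Subgroup Ω} {η : U →* Ω} (hη : η ∈ F.Hom U)
    (hU : U ≤ S) {g : ↥S × ↥S}
    (hg : g ∈ Subgroup.normalizer (((dg U hU).map (tw F hη) : Subgroup (↥S × ↥S)) : Set (↥S × ↥S)))
    (u : U) : ∃ u' : U, η u' = (g.1 : Ω) * η u * (g.1 : Ω)⁻¹ ∧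
      (u' : Ω) = (g.2 : Ω) * u * (g.2 : Ω)⁻¹ := by
  have hS := F.le_of_mem hη
  have hd : ((⟨η u, hS.2 u⟩, ⟨u, hU u.2⟩) : ↥S × ↥S) ∈ (dg U hU).map (tw F hη) :=
    (mem_graph F hη hU).2 ⟨u, rfl, rfl⟩
  have h1 := (Subgroup.mem_normalizer_iff.1 hg _).1 hd
  obtain ⟨u', h2, h3⟩ := (mem_graph F hη hU).1 h1
  exact ⟨u', h2, h3⟩

end Cfsg.Agent.Helper27.Biset
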