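import Cfsg.Agent.Helper27.Biset3

set_option autoImplicit false

namespace Cfsg.Agent.Helper27.Biset

open Cfsg Cfsg.FusionSystem Cfsg.Agent.Helper26 Cfsg.Agent.Helper27.Marks MulAction
open scoped Classical

universe u
variable {Ω : Type u} [Group Ω] {S : Subgroup Ω}

/-- The key congruence: with stability above the level `q`, the marks of all graphs over a
subgroup `U` of order `q` are congruent to the mark of an anchor graph. -/
theorem anchor_congr [Finite S] (p : ℕ) [Fact p.Prime] (hS : IsPGroup p S) (F : FusionSystem S)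
    (hF : F.IsSaturated p) (X : Type*) [Finite X] [MulAction (↥S × ↥S) X] (q : ℕ)
    (hst : ∀ (P : Subgroup Ω) (ψ₁ ψ₂ : P →* Ω) (h₁ : ψ₁ ∈ F.Hom P) (h₂ : ψ₂ ∈ F.Hom P)
      (K : Subgroup (↥P × ↥S)), q < Nat.card K →
      mark X (K.map (tw F h₁)) = mark X (K.map (tw F h₂)))
    (U : Subgroup Ω) (hU : U ≤ S) (hUq : Nat.card U = q) :
    ∃ n₀ : ℕ, ∀ (η : U →* Ω) (hη : η ∈ F.Hom U),
      n₀ ≡ mark X ((dg U hU).map (tw F hη))
        [MOD mark ((↥S × ↥S) ⧸ (dg U hU).map (tw F hη)) ((dg U hU).map (tw F hη))] := by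
  obtain ⟨Tst, hconj, hfa, hrec⟩ := hF U hU
  obtain ⟨φ₀, hφ₀, hφ₀N, hφ₀U⟩ := exists_normalizer_hom p hS F hfa hrec hconj
  have hUN : U ≤ normalizerIn S U :=
    fun x hx => Subgroup.mem_inf.2 ⟨hU hx, Subgroup.le_normalizer hx⟩
  obtain ⟨ξ, hξdef⟩ : ∃ ξ : U →* Ω, ξ = φ₀.comp (Subgroup.inclusion hUN) := ⟨_, rfl⟩
  have hξ : ξ ∈ F.Hom U := by rw [hξdef]; exact restrict_mem F hφ₀ hUN (fun x => rfl)
  have hξr : ξ.range = Tst := by
    rw [← hφ₀U, hξdef]
    ext y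
    constructor
    · rintro ⟨x, rfl⟩
      exact ⟨Subgroup.inclusion hUN x, Subgroup.mem_subgroupOf.2 x.2, rfl⟩
    · rintro ⟨x, hx, rfl⟩
      exact ⟨⟨x, Subgroup.mem_subgroupOf.1 hx⟩, rfl⟩
  refine ⟨mark X ((dg U hU).map (tw F hξ)), fun η hη => ?_⟩
  have hηS := F.le_of_mem hη
  obtain ⟨ηinv, hηinv, hηinv'⟩ := F.inv_mem hη
  have hiU : ∀ t : η.range, ηinv t ∈ U := by
    rintro ⟨_, x, rfl⟩
    rw [hηinv' x]; exact x.2
  obtain ⟨γ, hγdef⟩ : ∃ γ : η.range →* Ω, γ = ξ.comp (ηinv.codRestrict U hiU) := ⟨_, rfl⟩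
  have hγ : γ ∈ F.Hom η.range := by rw [hγdef]; exact F.comp_mem hηinv hξ hiU
  have hγη : ∀ u : U, γ ⟨η u, ⟨u, rfl⟩⟩ = ξ u := by
    intro u
    rw [hγdef]
    show ξ ⟨ηinv ⟨η u, ⟨u, rfl⟩⟩, _⟩ = ξ u
    congr 1
    exact Subtype.ext (hηinv' u)
  have hγr : γ.range = Tst := by
    rw [← hξr]
    ext y
    constructor
    · rintro ⟨⟨_, x, rfl⟩, rfl⟩
      exact ⟨x, (hγη x).symm⟩
    · rintro ⟨x, rfl⟩
      exact ⟨⟨η x, ⟨x, rfl⟩⟩, hγη x⟩
  obtain ⟨γt, hγt, hγt'⟩ := hrec.2 η.range γ hγ hγr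
  have hE : extender S η.range γ ≤ S := (F.le_of_mem hγt).1
  have hTE : η.range ≤ extender S η.range γ := le_extender F hγ
  have hext : ∀ a : Ω, a ∈ extender S η.range γ ↔ a ∈ S ∧ a ∈ Subgroup.normalizer (η.range : Set Ω) ∧
      ∃ h ∈ S, ∀ (x : η.range) (hx : a * (x : Ω) * a⁻¹ ∈ η.range),
        γ ⟨a * x * a⁻¹, hx⟩ = h * γ x * h⁻¹ := fun a => mem_extender_iff
  generalize extender S η.range γ = E at γt hγt hγt' hE hTE hext
  have : Finite E := finite_of_le hE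
  have hγtη : ∀ u : U, γt ⟨η u, hTE ⟨u, rfl⟩⟩ = ξ u :=
    fun u => (hγt' (η u) ⟨u, rfl⟩ _).trans (hγη u)
  -- the two twists
  have hmap₁ : ((((dg U hU).map (tw F hη)).comap (tw F (incl_mem F hE))).map
      (tw F (incl_mem F hE))) = (dg U hU).map (tw F hη) := by
    refine Subgroup.map_comap_eq_self (fun d hd => ?_)
    obtain ⟨u, h1, h2⟩ := (mem_graph F hη hU).1 hd
    exact ⟨(⟨η u, hTE ⟨u, rfl⟩⟩, d.2), Prod.ext (Subtype.ext h1) rfl⟩
  have hmap₂ : ((((dg U hU).map (tw F hη)).comap (tw F (incl_mem F hE))).map (tw F hγt)) =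
      (dg U hU).map (tw F hξ) := by
    ext d
    constructor
    · rintro ⟨k, hk, rfl⟩
      obtain ⟨u, h1, h2⟩ := (mem_graph F hη hU).1 (Subgroup.mem_comap.1 hk)
      refine (mem_graph F hξ hU).2 ⟨u, ?_, h2⟩
      have e : k.1 = ⟨η u, hTE ⟨u, rfl⟩⟩ := Subtype.ext h1.symm
      rw [tw_fst, e, hγtη]
    · intro hd
      obtain ⟨u, h1, h2⟩ := (mem_graph F hξ hU).1 hd
      refine ⟨(⟨η u, hTE ⟨u, rfl⟩⟩, d.2), ?_, ?_⟩
      · exact Subgroup.mem_comap.2 ((mem_graph F hη hU).2 ⟨u, rfl, h2⟩)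
      · exact Prod.ext (Subtype.ext ((hγtη u).trans h1)) rfl
  have hNr : Subgroup.normalizer (((dg U hU).map (tw F hη) : Subgroup (↥S × ↥S)) : Set (↥S × ↥S)) ≤
      (tw F (incl_mem F hE)).range := by
    intro g hg
    have hg' := Subgroup.inv_mem _ hg
    have n1 := norm_graph F hη hU hg
    have n2 := norm_graph F hη hU hg'
    have hbN : (g.2 : Ω) ∈ normalizerIn S U := by
      refine Subgroup.mem_inf.2 ⟨g.2.2, Subgroup.mem_normalizer_iff.2
        (fun x => ⟨fun hx => ?_, fun hx => ?_⟩)⟩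
      · obtain ⟨u', -, h⟩ := n1 ⟨x, hx⟩
        rw [← h]; exact u'.2
      · obtain ⟨u', -, h⟩ := n2 ⟨_, hx⟩
        have h' : (u' : Ω) = x := by
          rw [h]
          simp only [Prod.snd_inv, Subgroup.coe_inv, inv_inv]
          group
        rw [← h']; exact u'.2
    have hgE : (g.1 : Ω) ∈ E := by
      refine (hext _).2 ⟨g.1.2, ?_, φ₀ ⟨g.2, hbN⟩, (normalizerIn_le S Tst) (hφ₀N _), ?_⟩
      · refine Subgroup.mem_normalizer_iff.2 (fun t => ⟨?_, ?_⟩)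
        · rintro ⟨u, rfl⟩
          obtain ⟨u', h, -⟩ := n1 u
          exact ⟨u', h⟩
        · rintro ⟨u, hu⟩
          obtain ⟨u', h, -⟩ := n2 u
          refine ⟨u', ?_⟩
          rw [h, hu]
          simp only [Prod.fst_inv, Subgroup.coe_inv, inv_inv]
          group
      · rintro ⟨_, u, rfl⟩ hx
        obtain ⟨u', h1, h2⟩ := n1 u
        have e1 : (⟨(g.1 : Ω) * η u * (g.1 : Ω)⁻¹, hx⟩ : η.range) = ⟨η u', ⟨u', rfl⟩⟩ :=
          Subtype.ext h1.symm
        rw [e1, hγη u', hγη u, hξdef]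
        show φ₀ (Subgroup.inclusion hUN u') =
          φ₀ ⟨g.2, hbN⟩ * φ₀ (Subgroup.inclusion hUN u) * (φ₀ ⟨g.2, hbN⟩)⁻¹
        rw [← map_inv, ← map_mul, ← map_mul]
        congr 1
        exact Subtype.ext h2
    exact ⟨(⟨g.1, hgE⟩, g.2), Prod.ext (Subtype.ext rfl) rfl⟩
  have hVcard : Nat.card ((Subgroup.normalizer
      (((dg U hU).map (tw F hη) : Subgroup (↥S × ↥S)) : Set (↥S × ↥S))).comap
        (tw F (incl_mem F hE))) =
      Nat.card (Subgroup.normalizer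
        (((dg U hU).map (tw F hη) : Subgroup (↥S × ↥S)) : Set (↥S × ↥S))) := by
    rw [← card_map_tw F (incl_mem F hE), Subgroup.map_comap_eq_self hNr]
  have hΔcard : Nat.card (((dg U hU).map (tw F hη)).comap (tw F (incl_mem F hE))) = q := by
    rw [← card_map_tw F (incl_mem F hE), hmap₁, card_graph, hUq]
  have hΔV : ((dg U hU).map (tw F hη)).comap (tw F (incl_mem F hE)) ≤
      (Subgroup.normalizer (((dg U hU).map (tw F hη) : Subgroup (↥S × ↥S)) : Set (↥S × ↥S))).comap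
        (tw F (incl_mem F hE)) := Subgroup.comap_mono Subgroup.le_normalizer
  have hNorm : ∀ v ∈ (Subgroup.normalizer
      (((dg U hU).map (tw F hη) : Subgroup (↥S × ↥S)) : Set (↥S × ↥S))).comap
        (tw F (incl_mem F hE)),
      ∀ d ∈ ((dg U hU).map (tw F hη)).comap (tw F (incl_mem F hE)),
        v⁻¹ * d * v ∈ ((dg U hU).map (tw F hη)).comap (tw F (incl_mem F hE)) := by
    intro v hv d hd
    rw [Subgroup.mem_comap] at hv hd ⊢
    have hinv := Subgroup.inv_mem _ hv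
    have := (Subgroup.mem_normalizer_iff.1 hinv _).1 hd
    rw [map_mul, map_mul, map_inv]
    simpa using this
  have hlarge : ∀ K : Subgroup (↥E × ↥S),
      ((dg U hU).map (tw F hη)).comap (tw F (incl_mem F hE)) < K →
      mark X (K.map (tw F (incl_mem F hE))) = mark X (K.map (tw F hγt)) := by
    intro K hK
    refine hst E _ _ _ _ K ?_
    rw [← hΔcard]
    by_contra hcon
    exact hK.ne (Subgroup.eq_of_le_of_card_ge hK.le (not_lt.1 hcon))
  have key := twist_congr (X := X) (tw F (incl_mem F hE)) (tw F hγt) _ _ hΔV hNorm hlarge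
  rw [hmap₁, hmap₂, hVcard, normalizer_card, hΔcard, card_graph, hUq] at key
  have hq0 : q ≠ 0 := by
    rw [← hUq]
    have : Finite U := finite_of_le hU
    exact Nat.card_pos.ne'
  exact (Nat.ModEq.mul_left_cancel' hq0 key).symm

end Cfsg.Agent.Helper27.Biset
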