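import Cfsg.Agent.Helper27.Biset4

set_option autoImplicit false

namespace Cfsg.Agent.Helper27.Biset

open Cfsg Cfsg.FusionSystem Cfsg.Agent.Helper26 Cfsg.Agent.Helper27.Marks MulAction
open scoped Classical

universe u
variable {Ω : Type u} [Group Ω] {S : Subgroup Ω}

/-- Stability of the marks of a biset under the twists by the maps of the system, for subgroups
of order larger than `q`. -/
def StableAbove (F : FusionSystem S) (X : Type*) [MulAction (↥S × ↥S) X] (q : ℕ) : Prop :=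
  ∀ (P : Subgroup Ω) (ψ₁ ψ₂ : P →* Ω) (h₁ : ψ₁ ∈ F.Hom P) (h₂ : ψ₂ ∈ F.Hom P)
    (K : Subgroup (↥P × ↥S)), q < Nat.card K →
    mark X (K.map (tw F h₁)) = mark X (K.map (tw F h₂))

theorem mark_eq_zero_of_not_Gr (F : FusionSystem S) {X : Type*} [Finite X] [MulAction (↥S × ↥S) X]
    (hgr : ∀ x : X, stabilizer (↥S × ↥S) x ∈ Gr F) {H : Subgroup (↥S × ↥S)} (hH : H ∉ Gr F) :
    mark X H = 0 := by
  by_contra hne
  obtain ⟨x, hx⟩ := (Set.ncard_pos (Set.toFinite _)).1 (Nat.pos_of_ne_zero hne)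
  exact hH (Gr_of_le F (hgr x) (mem_fix_iff.1 hx))

theorem snd_graph (F : FusionSystem S) {R : Subgroup Ω} {χ : R →* Ω} (hχ : χ ∈ F.Hom R)
    (hR : R ≤ S) :
    ((dg R hR).map (tw F hχ)).map (MonoidHom.snd ↥S ↥S) = R.subgroupOf S := by
  ext x
  constructor
  · rintro ⟨d, hd, rfl⟩
    obtain ⟨r, -, h2⟩ := (mem_graph F hχ hR).1 hd
    rw [Subgroup.mem_subgroupOf]
    show ((d.2 : ↥S) : Ω) ∈ R
    rw [← h2]; exact r.2
  · intro hx
    rw [Subgroup.mem_subgroupOf] at hx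
    exact ⟨(⟨χ ⟨x, hx⟩, (F.le_of_mem hχ).2 _⟩, x),
      (mem_graph F hχ hR).2 ⟨⟨x, hx⟩, rfl, rfl⟩, rfl⟩

theorem Gr_snd (F : FusionSystem S) {H : Subgroup (↥S × ↥S)} (hH : H ∈ Gr F) (U : Subgroup Ω)
    (hU : U ≤ S) (h : H.map (MonoidHom.snd ↥S ↥S) = U.subgroupOf S) :
    ∃ (η : U →* Ω) (hη : η ∈ F.Hom U), H = (dg U hU).map (tw F hη) := by
  obtain ⟨R, χ, hχ, rfl⟩ := (Gr_iff F).1 hH
  have hR := (F.le_of_mem hχ).1
  rw [snd_graph] at h
  have hRU : R = U := by
    have h1 := congrArg (fun T : Subgroup ↥S => T.map S.subtype) h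
    simp only [Subgroup.subgroupOf_map_subtype] at h1
    rw [inf_eq_left.2 hR, inf_eq_left.2 hU] at h1
    exact h1
  subst hRU
  exact ⟨χ, hχ, rfl⟩

theorem snd_cj (g : ↥S × ↥S) (H : Subgroup (↥S × ↥S)) :
    (cj g H).map (MonoidHom.snd ↥S ↥S) =
      (H.map (MonoidHom.snd ↥S ↥S)).map (MulAut.conj g.2⁻¹).toMonoidHom := by
  unfold cj
  rw [Subgroup.map_map, Subgroup.map_map]
  rfl

theorem card_Gr_dvd [Finite S] (F : FusionSystem S) {H : Subgroup (↥S × ↥S)} (hH : H ∈ Gr F) :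
    Nat.card H ∣ Nat.card S := by
  obtain ⟨R, χ, hχ, rfl⟩ := (Gr_iff F).1 hH
  rw [card_graph]
  exact Subgroup.card_dvd_of_le (F.le_of_mem hχ).1

theorem stabilizer_inl {Γ : Type*} [Group Γ] {X Y : Type*} [MulAction Γ X] [MulAction Γ Y]
    (x : X) : stabilizer Γ (Sum.inl x : X ⊕ Y) = stabilizer Γ x := by
  ext g
  simp only [mem_stabilizer_iff]
  exact ⟨fun h => Sum.inl_injective h, fun h => congrArg Sum.inl h⟩

theorem stabilizer_inr {Γ : Type*} [Group Γ] {X Y : Type*} [MulAction Γ X] [MulAction Γ Y]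
    (y : Y) : stabilizer Γ (Sum.inr y : X ⊕ Y) = stabilizer Γ y := by
  ext g
  simp only [mem_stabilizer_iff]
  exact ⟨fun h => Sum.inr_injective h, fun h => congrArg Sum.inr h⟩

/-- The level step of the construction of a characteristic biset. -/
theorem level_step [Finite S] (p : ℕ) [Fact p.Prime] (hS : IsPGroup p S) (F : FusionSystem S)
    (hF : F.IsSaturated p) (q : ℕ) (hq : q + 1 < Nat.card S)
    (X₀ : Type u) [Finite X₀] [MulAction (↥S × ↥S) X₀]
    (hgr : ∀ x : X₀, stabilizer (↥S × ↥S) x ∈ Gr F) (hst : StableAbove F X₀ (q + 1)) :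
    ∃ (A : Type u) (_ : Finite A) (_ : MulAction (↥S × ↥S) A),
      (∀ a : A, stabilizer (↥S × ↥S) a ∈ Gr F) ∧ StableAbove F (X₀ ⊕ A) q ∧
      p * Nat.card S ∣ Nat.card A := by
  haveI : Fintype (Subgroup (↥S × ↥S)) := Fintype.ofFinite _
  -- the target values
  obtain ⟨Pν, hPν⟩ : ∃ Pν : Subgroup ↥S → ℕ → Prop, Pν = fun U' n =>
      ∀ H : Subgroup (↥S × ↥S), H ∈ Gr F → Nat.card H = q + 1 →
        (∃ s : ↥S, H.map (MonoidHom.snd ↥S ↥S) = U'.map (MulAut.conj s).toMonoidHom) →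
        mark X₀ H ≤ n ∧ n ≡ mark X₀ H [MOD mark ((↥S × ↥S) ⧸ H) H] := ⟨_, rfl⟩
  have hne : ∀ U' : Subgroup ↥S, ∃ n, Pν U' n := by
    intro U'
    obtain ⟨M, hM⟩ : ∃ M : ℕ, M = ∏ H : Subgroup (↥S × ↥S), mark ((↥S × ↥S) ⧸ H) H := ⟨_, rfl⟩
    have hMpos : 0 < M := by
      rw [hM]
      exact Finset.prod_pos (fun H _ => mark_quotient_self_pos H)
    have hMdvd : ∀ H : Subgroup (↥S × ↥S), mark ((↥S × ↥S) ⧸ H) H ∣ M := by
      intro H
      rw [hM]
      exact Finset.dvd_prod_of_mem _ (Finset.mem_univ H)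
    have hUS : U'.map S.subtype ≤ S := by
      rintro _ ⟨x, -, rfl⟩
      exact x.2
    have hUsub : (U'.map S.subtype).subgroupOf S = U' := by
      rw [Subgroup.subgroupOf, Subgroup.comap_map_eq_self_of_injective S.subtype_injective]
    by_cases hcard : Nat.card (U'.map S.subtype) = q + 1
    · obtain ⟨n₀, hn₀⟩ := anchor_congr p hS F hF X₀ (q + 1) hst (U'.map S.subtype) hUS hcard
      refine ⟨n₀ + Nat.card X₀ * M, ?_⟩
      rw [hPν]
      rintro H hH hHc ⟨s, hs⟩
      have hH' : cj ((1, s) : ↥S × ↥S) H ∈ Gr F := Gr_cj F hH _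
      have hsnd : (cj ((1, s) : ↥S × ↥S) H).map (MonoidHom.snd ↥S ↥S) =
          (U'.map S.subtype).subgroupOf S := by
        rw [snd_cj, hs, hUsub, Subgroup.map_map]
        have : (MulAut.conj s⁻¹).toMonoidHom.comp (MulAut.conj s).toMonoidHom =
            MonoidHom.id ↥S := by
          ext x
          simp only [MonoidHom.comp_apply, MulEquiv.coe_toMonoidHom, MulAut.conj_apply, inv_inv,
            MonoidHom.id_apply]
          congr 1
          group
        show Subgroup.map ((MulAut.conj s⁻¹).toMonoidHom.comp (MulAut.conj s).toMonoidHom) U' = U'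
        rw [this, Subgroup.map_id]
      obtain ⟨η, hη, hHη⟩ := Gr_snd F hH' _ hUS hsnd
      have h1 := hn₀ η hη
      rw [← hHη, mark_cj, mark_quotient_cj, mark_cj] at h1
      refine ⟨?_, ?_⟩
      · calc mark X₀ H ≤ Nat.card X₀ := mark_le_card H
          _ ≤ Nat.card X₀ * M := Nat.le_mul_of_pos_right _ hMpos
          _ ≤ n₀ + Nat.card X₀ * M := Nat.le_add_left _ _
      · have h2 : n₀ + Nat.card X₀ * M ≡ n₀ + 0 [MOD mark ((↥S × ↥S) ⧸ H) H] :=
          Nat.ModEq.add_left _ ((Nat.modEq_zero_iff_dvd).2 (Dvd.dvd.mul_left (hMdvd H) _))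
        rw [add_zero] at h2
        exact h2.trans h1
    · refine ⟨0, ?_⟩
      rw [hPν]
      rintro H hH hHc ⟨s, hs⟩
      exfalso
      apply hcard
      obtain ⟨R, χ, hχ, rfl⟩ := (Gr_iff F).1 hH
      have hR := (F.le_of_mem hχ).1
      rw [snd_graph] at hs
      rw [card_graph] at hHc
      have e1 : Nat.card (U'.map S.subtype) = Nat.card U' :=
        Nat.card_congr (Subgroup.equivMapOfInjective U' _ S.subtype_injective).symm.toEquiv
      have e2 : Nat.card (U'.map (MulAut.conj s).toMonoidHom) = Nat.card U' :=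
        Nat.card_congr (Subgroup.equivMapOfInjective U' _ (MulAut.conj s).injective).symm.toEquiv
      have e3 : Nat.card (R.subgroupOf S) = Nat.card R :=
        Nat.card_congr (Subgroup.subgroupOfEquivOfLe hR).toEquiv
      rw [e1, ← e2, ← hs, e3, hHc]
  obtain ⟨ν, hνdef⟩ : ∃ ν : Subgroup ↥S → ℕ, ν = fun U' => sInf {n | Pν U' n} := ⟨_, rfl⟩
  have hνspec : ∀ U', Pν U' (ν U') := by
    intro U'
    rw [hνdef]
    exact Nat.sInf_mem (hne U')
  have hνconj : ∀ (s : ↥S) (U' : Subgroup ↥S), ν (U'.map (MulAut.conj s).toMonoidHom) = ν U' := by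
    intro s U'
    rw [hνdef]
    show sInf {n | Pν (U'.map (MulAut.conj s).toMonoidHom) n} = sInf {n | Pν U' n}
    congr 1
    ext n
    simp only [Set.mem_setOf_eq, hPν]
    have hcomp : ∀ (a b : ↥S) (W : Subgroup ↥S), (W.map (MulAut.conj a).toMonoidHom).map
        (MulAut.conj b).toMonoidHom = W.map (MulAut.conj (b * a)).toMonoidHom := by
      intro a b W
      rw [Subgroup.map_map]
      congr 1
      ext x
      simp only [MonoidHom.comp_apply, MulEquiv.coe_toMonoidHom, MulAut.conj_apply, mul_inv_rev]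
      congr 1
      group
    constructor
    · rintro h H hH hHc ⟨t, ht⟩
      refine h H hH hHc ⟨t * s⁻¹, ?_⟩
      rw [hcomp, ht]
      congr 2
      group
    · rintro h H hH hHc ⟨t, ht⟩
      refine h H hH hHc ⟨t * s, ?_⟩
      rw [ht, hcomp]
  -- the numbers of orbits to add
  obtain ⟨e, hedef⟩ : ∃ e : Subgroup (↥S × ↥S) → ℕ, e = fun H =>
      if H ∈ Gr F ∧ Nat.card H = q + 1 then
        (ν (H.map (MonoidHom.snd ↥S ↥S)) - mark X₀ H) / mark ((↥S × ↥S) ⧸ H) H else 0 := ⟨_, rfl⟩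
  have he : ∀ D : Subgroup (↥S × ↥S), e D ≠ 0 → D ∈ Gr F ∧ Nat.card D = q + 1 := by
    intro D hD
    by_contra hcon
    apply hD
    rw [hedef]
    simp only [if_neg hcon]
  have hcl : ∀ (g : ↥S × ↥S) (D : Subgroup (↥S × ↥S)), e (cj g D) = e D := by
    intro g D
    have hiff : (cj g D ∈ Gr F ∧ Nat.card (cj g D) = q + 1) ↔ (D ∈ Gr F ∧ Nat.card D = q + 1) := by
      rw [card_cj]
      refine and_congr_left (fun _ => ⟨fun h => ?_, fun h => Gr_cj F h g⟩)
      have := Gr_cj F h g⁻¹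
      rwa [cj_inv_cj] at this
    rw [hedef]
    by_cases hD : D ∈ Gr F ∧ Nat.card D = q + 1
    · simp only [if_pos hD, if_pos (hiff.2 hD)]
      rw [snd_cj, hνconj, mark_cj, mark_quotient_cj, mark_cj]
    · simp only [if_neg hD, if_neg (fun h => hD (hiff.1 h))]
  obtain ⟨A, hAfin, hAact, hA1, hA2, hA3, k, hk⟩ :=
    exists_orbits e (q + 1) (fun D hD => (he D hD).2) hcl
  refine ⟨A, hAfin, hAact, fun a => (he _ (hA1 a)).1, ?_, ?_⟩
  · -- stability
    intro P ψ₁ ψ₂ h₁ h₂ K hK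
    rw [mark_sum, mark_sum]
    by_cases hKc : q + 1 < Nat.card K
    · rw [hA3 _ (by rw [card_map_tw]; exact hKc), hA3 _ (by rw [card_map_tw]; exact hKc),
        hst P ψ₁ ψ₂ h₁ h₂ K hKc]
    · have hKq : Nat.card K = q + 1 := by omega
      have hval : ∀ {ψ : P →* Ω} (h : ψ ∈ F.Hom P), K.map (tw F h) ∈ Gr F →
          mark X₀ (K.map (tw F h)) + mark A (K.map (tw F h)) =
            ν (K.map (MonoidHom.snd ↥P ↥S)) := by
        intro ψ h hG
        have hc : Nat.card (K.map (tw F h)) = q + 1 := by rw [card_map_tw, hKq]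
        have hsnd : (K.map (tw F h)).map (MonoidHom.snd ↥S ↥S) = K.map (MonoidHom.snd ↥P ↥S) := by
          rw [Subgroup.map_map]
          rfl
        have hsp := hνspec ((K.map (tw F h)).map (MonoidHom.snd ↥S ↥S))
        rw [hPν] at hsp
        obtain ⟨hle, hmod⟩ := hsp (K.map (tw F h)) hG hc ⟨1, by
          have : (MulAut.conj (1 : ↥S)).toMonoidHom = MonoidHom.id ↥S := by
            ext x; simp
          rw [this, Subgroup.map_id]⟩
        have hdvd := (Nat.modEq_iff_dvd' hle).1 hmod.symm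
        rw [hA2 _ hc, hedef]
        simp only [if_pos (⟨hG, hc⟩ : K.map (tw F h) ∈ Gr F ∧ Nat.card (K.map (tw F h)) = q + 1)]
        rw [Nat.div_mul_cancel hdvd, ← hsnd]
        omega
      have hzero : ∀ {ψ : P →* Ω} (h : ψ ∈ F.Hom P), K.map (tw F h) ∉ Gr F →
          mark X₀ (K.map (tw F h)) + mark A (K.map (tw F h)) = 0 := by
        intro ψ h hG
        have hc : Nat.card (K.map (tw F h)) = q + 1 := by rw [card_map_tw, hKq]
        rw [mark_eq_zero_of_not_Gr F hgr hG, hA2 _ hc, hedef]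
        simp only [if_neg (fun hh : K.map (tw F h) ∈ Gr F ∧ Nat.card (K.map (tw F h)) = q + 1 =>
          hG hh.1), zero_mul, add_zero]
      by_cases hG : K.map (tw F h₁) ∈ Gr F
      · rw [hval h₁ hG, hval h₂ (Gr_tw F h₁ h₂ K hG)]
      · rw [hzero h₁ hG, hzero h₂ (fun h => hG (Gr_tw F h₂ h₁ K h))]
  · -- divisibility
    rcases isEmpty_or_nonempty A with hAe | ⟨⟨a⟩⟩
    · have hA0 : Nat.card A = 0 := Nat.card_of_isEmpty
      rw [hA0]; exact dvd_zero _
    · obtain ⟨hG, hc⟩ := he _ (hA1 a)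
      have hdvd := card_Gr_dvd F hG
      rw [hc] at hdvd
      obtain ⟨n, hn⟩ := IsPGroup.iff_card.1 hS
      have hp := (Fact.out : p.Prime)
      rw [hn] at hdvd hq
      obtain ⟨i, hi, hqi⟩ := (Nat.dvd_prime_pow hp).1 hdvd
      rw [hqi] at hq hk
      have hin : i < n := (Nat.pow_lt_pow_iff_right hp.one_lt).1 hq
      rw [Nat.card_prod, hn] at hk
      have h1 : p ^ n * p ^ n = p ^ i * (p ^ (n - i - 1) * (p * p ^ n)) := by
        rw [← pow_succ', ← pow_add, ← pow_add, ← pow_add]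
        congr 1
        omega
      rw [h1, mul_comm (Nat.card A), ← mul_assoc, mul_comm k, mul_assoc] at hk
      have h2 := Nat.eq_of_mul_eq_mul_left (pow_pos hp.pos i) hk
      rw [h2, hn]
      exact ⟨k * p ^ (n - i - 1), by ring⟩

end Cfsg.Agent.Helper27.Biset
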