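import Cfsg.Agent.Helper27.SuperSol
import Cfsg.Agent.Helper26.FusionSat2
import Cfsg.Agent.Helper26.FusionIso

set_option autoImplicit false

namespace Cfsg.Agent.Helper27

open Cfsg Cfsg.FusionSystem Cfsg.Agent.Helper26

variable {Ω : Type*} [Group Ω] {S : Subgroup Ω}

/-- If `S` is normal in `F`, every map of `F` is the restriction of an `F`-automorphism of `S`. -/
theorem normal_top_restrict [Finite S] (F : FusionSystem S) (hN : F.IsNormal S)
    {P : Subgroup Ω} {φ : P →* Ω} (hφ : φ ∈ F.Hom P) :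
    ∃ α ∈ F.autGroup S, ∀ x : P, φ x = ((α ⟨x, (F.le_of_mem hφ).1 x.2⟩ : S) : Ω) := by
  obtain ⟨ψ, hψ, hres, -⟩ := hN.2 P φ hφ
  have hle : S ≤ P ⊔ S := le_sup_right
  have hχ : ψ.comp (Subgroup.inclusion hle) ∈ F.Hom S := restrict_mem F hψ hle (fun _ => rfl)
  have hinj := F.injective_of_mem hχ
  have hval := (F.le_of_mem hχ).2
  have hinj' : Function.Injective ((ψ.comp (Subgroup.inclusion hle)).codRestrict S hval) := by
    intro x y hxy
    apply hinj
    exact congrArg Subtype.val hxy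
  refine ⟨MulEquiv.ofBijective ((ψ.comp (Subgroup.inclusion hle)).codRestrict S hval)
    ⟨hinj', Finite.injective_iff_surjective.mp hinj'⟩, ?_, ?_⟩
  · apply Subgroup.subset_closure
    exact mem_of_eq F hχ (fun x => rfl)
  · intro x
    rw [← hres x]
    rfl

/-- Schur–Zassenhaus for `Aut_F(S)`: it is `Inn(S)` times a `p'`-subgroup. -/
theorem aut_decomp [Finite S] (p : ℕ) [Fact p.Prime] (hS : IsPGroup p S) (F : FusionSystem S)
    (hF : F.IsSaturated p) :
    ∃ H : Subgroup (MulAut S), (Nat.card H).Coprime p ∧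
      ∀ α ∈ F.autGroup S, ∃ s : S, ∃ h ∈ H, α = MulAut.conj s * h := by
  obtain ⟨-, R, hR⟩ := ((saturated_iff' p hS F).mp hF).1
  have h1 : autInducedBy S S = Cfsg.Inn S := by
    apply le_antisymm
    · intro α hα
      obtain ⟨g, hg, h⟩ := mem_autInducedBy_iff.1 hα
      exact ⟨⟨g, hg⟩, MulEquiv.ext fun x => Subtype.ext (h x).symm⟩
    · rintro _ ⟨g, rfl⟩
      exact mem_autInducedBy_iff.2 ⟨g, g.2, fun x => rfl⟩
  have hnorm : ((autInducedBy S S).subgroupOf (F.autGroup S)).Normal := by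
    rw [h1]
    infer_instance
  have hcop : (Nat.card ((autInducedBy S S).subgroupOf (F.autGroup S))).Coprime
      ((autInducedBy S S).subgroupOf (F.autGroup S)).index := by
    rw [← hR]; exact R.card_coprime_index
  obtain ⟨H', hH'⟩ := Subgroup.exists_right_complement'_of_coprime hcop
  refine ⟨H'.map (F.autGroup S).subtype, ?_, ?_⟩
  · have hc : Nat.card (H'.map (F.autGroup S).subtype) = Nat.card H' :=
      Subgroup.card_map_of_injective (Subgroup.subtype_injective _)
    rw [hc, ← hH'.symm.index_eq_card, ← hR]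
    exact ((Nat.Prime.coprime_iff_not_dvd Fact.out).2 R.not_dvd_index).symm
  · intro α hα
    obtain ⟨⟨n, h⟩, e⟩ := hH'.2 ⟨α, hα⟩
    obtain ⟨g, hg, hgx⟩ := mem_autInducedBy_iff.1 (Subgroup.mem_subgroupOf.1 n.2)
    refine ⟨⟨g, hg⟩, h.1.1, ⟨h.1, h.2, rfl⟩, ?_⟩
    have e' : (n.1.1 : MulAut S) * h.1.1 = α := congrArg Subtype.val e
    rw [← e']
    congr 1
    exact MulEquiv.ext fun x => Subtype.ext (hgx x)

theorem sc_of_normal_inv [Finite S] (F : FusionSystem S) (hN : F.IsNormal S)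
    (H : Subgroup (MulAut S))
    (hdec : ∀ α ∈ F.autGroup S, ∃ s : S, ∃ h ∈ H, α = MulAut.conj s * h) (T : Subgroup S)
    [T.Normal] (hT : ∀ h ∈ H, ∀ y ∈ T, h y ∈ T) : F.StronglyClosed (T.map S.subtype) := by
  refine ⟨Subgroup.map_subtype_le T, fun R hR φ hφ r => ?_⟩
  obtain ⟨α, hα, hres⟩ := normal_top_restrict F hN hφ
  obtain ⟨s, h, hh, rfl⟩ := hdec α hα
  rw [hres r]
  obtain ⟨y, hy, hyr⟩ := hR r.2
  have e : (⟨(r : Ω), (F.le_of_mem hφ).1 r.2⟩ : S) = y := Subtype.ext hyr.symm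
  rw [e]
  exact ⟨_, Subgroup.Normal.conj_mem inferInstance _ (hT h hh y hy) s, rfl⟩

/-- The action on the quotient by an invariant normal subgroup. -/
def quotAut {G : Type*} [Group G] (T : Subgroup G) [T.Normal] (H : Subgroup (MulAut G))
    (hinv : ∀ h ∈ H, ∀ y ∈ T, h y ∈ T) : H →* MulAut (G ⧸ T) where
  toFun h := QuotientGroup.congr T T h.1 (by
    ext z; constructor
    · rintro ⟨y, hy, rfl⟩; exact hinv h.1 h.2 y hy
    · intro hz; exact ⟨h.1⁻¹ z, hinv _ (H.inv_mem h.2) z hz, by simp⟩)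
  map_one' := by
    apply MulEquiv.ext
    intro q
    induction q using QuotientGroup.induction_on with
    | H y => rfl
  map_mul' := fun a b => by
    apply MulEquiv.ext
    intro q
    induction q using QuotientGroup.induction_on with
    | H y => rfl

theorem exists_cyclic_ext {G : Type*} [Group G] [Finite G] (p : ℕ) [Fact p.Prime]
    (hG : IsPGroup p G) (H : Subgroup (MulAut G)) (hcomm : ∀ a ∈ H, ∀ b ∈ H, a * b = b * a)
    (hexp : ∀ h ∈ H, h ^ (p - 1) = 1) (T : Subgroup G) [T.Normal]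
    (hinv : ∀ h ∈ H, ∀ y ∈ T, h y ∈ T) (hT : T ≠ ⊤) :
    ∃ x : G, x ∉ T ∧ (T ⊔ Subgroup.zpowers x).Normal ∧
      ∀ h ∈ H, ∀ y ∈ T ⊔ Subgroup.zpowers x, h y ∈ T ⊔ Subgroup.zpowers x := by
  have hnt : Nontrivial (G ⧸ T) := by
    rw [← not_subsingleton_iff_nontrivial]
    intro hsub
    apply hT
    rw [eq_top_iff]; intro y _
    exact (QuotientGroup.eq_one_iff y).1 (Subsingleton.elim _ _)
  have hQ : IsPGroup p (G ⧸ T) := hG.to_quotient T
  obtain ⟨w, hw1, hwc, hwK⟩ := common_eigen p hQ (quotAut T H hinv).range (by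
      rintro _ ⟨a, rfl⟩ _ ⟨b, rfl⟩
      rw [← map_mul, ← map_mul]
      congr 1
      exact Subtype.ext (hcomm a.1 a.2 b.1 b.2))
    (by
      rintro _ ⟨a, rfl⟩
      rw [← map_pow]
      have : a ^ (p - 1) = 1 := Subtype.ext (by rw [Subgroup.coe_pow]; exact hexp a.1 a.2)
      rw [this, map_one])
  obtain ⟨x, rfl⟩ := QuotientGroup.mk_surjective w
  refine ⟨x, fun hx => hw1 ((QuotientGroup.eq_one_iff x).2 hx), ?_, ?_⟩
  · constructor
    intro y hy s
    rw [mem_sup_zpowers_iff] at hy ⊢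
    have hyc : (y : G ⧸ T) ∈ Subgroup.center (G ⧸ T) := by
      obtain ⟨k, hk⟩ := hy
      rw [← hk]; exact zpow_mem hwc k
    have h1 : ((s * y * s⁻¹ : G) : G ⧸ T) = (y : G ⧸ T) := by
      have h2 := Subgroup.mem_center_iff.1 hyc (s : G ⧸ T)
      show (s : G ⧸ T) * (y : G ⧸ T) * (s : G ⧸ T)⁻¹ = _
      rw [h2, mul_inv_cancel_right]
    rw [h1]; exact hy
  · intro h hh y hy
    rw [mem_sup_zpowers_iff] at hy ⊢
    obtain ⟨k, hk⟩ := hy
    have h1 : ((h y : G) : G ⧸ T) = quotAut T H hinv ⟨h, hh⟩ (y : G ⧸ T) := rfl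
    rw [h1, ← hk, map_zpow]
    exact zpow_mem (hwK _ ⟨⟨h, hh⟩, rfl⟩) k

/-- The step relation of a supersoluble chain. -/
def CycRel (S : Subgroup Ω) (T T' : Subgroup Ω) : Prop :=
  T ≤ T' ∧ ∃ x ∈ S, T' = T ⊔ Subgroup.zpowers x

theorem chain_of_resistant [Finite S] (p : ℕ) [Fact p.Prime] (hS : IsPGroup p S)
    (F : FusionSystem S) (hF : F.IsSaturated p) (hN : F.IsNormal S)
    (hab : ∀ H : Subgroup (MulAut S), (Nat.card H).Coprime p →
      IsMulCommutative H ∧ ∀ h ∈ H, h ^ (p - 1) = 1) :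
    ChainTo F.StronglyClosed (CycRel S) ⊥ S := by
  obtain ⟨H, hH, hdec⟩ := aut_decomp p hS F hF
  obtain ⟨hc, hexp⟩ := hab H hH
  have hcomm : ∀ a ∈ H, ∀ b ∈ H, a * b = b * a := fun a ha b hb =>
    congrArg Subtype.val (hc.is_comm.comm ⟨a, ha⟩ ⟨b, hb⟩)
  have main : ∀ k : ℕ, ∀ T : Subgroup S, T.Normal → (∀ h ∈ H, ∀ y ∈ T, h y ∈ T) →
      Nat.card S - Nat.card T ≤ k →
      ChainTo F.StronglyClosed (CycRel S) ⊥ (T.map S.subtype) →
      ChainTo F.StronglyClosed (CycRel S) ⊥ S := by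
    intro k
    induction k with
    | zero =>
      intro T hTn hTi hk hch
      have hT : T = ⊤ := by
        apply Subgroup.eq_top_of_card_eq
        have := Subgroup.card_le_card_group T
        omega
      rw [hT, ← MonoidHom.range_eq_map, Subgroup.range_subtype] at hch
      exact hch
    | succ k ih =>
      intro T hTn hTi hk hch
      by_cases hT : T = ⊤
      · rw [hT, ← MonoidHom.range_eq_map, Subgroup.range_subtype] at hch
        exact hch
      · obtain ⟨x, hxT, hn1, hi1⟩ := exists_cyclic_ext p hS H hcomm hexp T hTi hT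
        refine ih (T ⊔ Subgroup.zpowers x) hn1 hi1 ?_ ?_
        · have hlt : Nat.card T < Nat.card (T ⊔ Subgroup.zpowers x : Subgroup S) := by
            by_contra hcon
            have heq := Subgroup.eq_of_le_of_card_ge (le_sup_left : T ≤ T ⊔ Subgroup.zpowers x)
              (not_lt.1 hcon)
            apply hxT
            rw [heq]
            exact Subgroup.mem_sup_right (Subgroup.mem_zpowers x)
          have h2 := Subgroup.card_le_card_group (T ⊔ Subgroup.zpowers x)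
          omega
        · refine chainTo_snoc hch (sc_of_normal_inv F hN H hdec _ hi1)
            ⟨Subgroup.map_mono le_sup_left, x, x.2, ?_⟩
          rw [Subgroup.map_sup, MonoidHom.map_zpowers]; rfl
  refine main (Nat.card S) ⊥ inferInstance (fun h _ y hy => ?_) (Nat.sub_le _ _) ?_
  · rw [Subgroup.mem_bot] at hy ⊢; rw [hy, map_one]
  · rw [Subgroup.map_bot]; exact chainTo_refl (stronglyClosed_bot F)

end Cfsg.Agent.Helper27
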