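import Cfsg.Agent.Helper27.Biset5
import Cfsg.Agent.Helper27.SuperSol2

set_option autoImplicit false

namespace Cfsg.Agent.Helper27.Biset

open Cfsg Cfsg.FusionSystem Cfsg.Agent.Helper26 Cfsg.Agent.Helper27.Marks MulAction
open scoped Classical

universe u
variable {Ω : Type u} [Group Ω] {S : Subgroup Ω}

/-- Iterating the level step. -/
theorem exists_stable [Finite S] (p : ℕ) [Fact p.Prime] (hS : IsPGroup p S) (F : FusionSystem S)
    (hF : F.IsSaturated p) :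
    ∀ (m : ℕ), m < Nat.card S → ∀ (X₀ : Type u) [Finite X₀] [MulAction (↥S × ↥S) X₀],
      (∀ x : X₀, stabilizer (↥S × ↥S) x ∈ Gr F) → StableAbove F X₀ m →
      ∃ (X : Type u) (_ : Finite X) (_ : MulAction (↥S × ↥S) X),
        (∀ x : X, stabilizer (↥S × ↥S) x ∈ Gr F) ∧ StableAbove F X 0 ∧
        Nat.card X ≡ Nat.card X₀ [MOD p * Nat.card S] ∧
        ((∃ x₀ : X₀, stabilizer (↥S × ↥S) x₀ = diag S) →
          ∃ x : X, stabilizer (↥S × ↥S) x = diag S) := by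
  intro m
  induction m with
  | zero =>
    intro _ X₀ _ _ hgr hst
    exact ⟨X₀, inferInstance, inferInstance, hgr, hst, Nat.ModEq.refl _, fun h => h⟩
  | succ m ih =>
    intro hm X₀ _ _ hgr hst
    obtain ⟨A, hAfin, hAact, hAgr, hAst, hAdvd⟩ := level_step p hS F hF m hm X₀ hgr hst
    have hgr' : ∀ x : X₀ ⊕ A, stabilizer (↥S × ↥S) x ∈ Gr F := by
      rintro (x | a)
      · rw [stabilizer_inl]; exact hgr x
      · rw [stabilizer_inr]; exact hAgr a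
    obtain ⟨X, hXfin, hXact, hXgr, hXst, hXcard, hXpt⟩ :=
      ih (by omega) (X₀ ⊕ A) hgr' hAst
    refine ⟨X, hXfin, hXact, hXgr, hXst, ?_, ?_⟩
    · refine hXcard.trans ?_
      rw [Nat.card_sum]
      have : Nat.card X₀ + Nat.card A ≡ Nat.card X₀ + 0 [MOD p * Nat.card S] :=
        Nat.ModEq.add_left _ ((Nat.modEq_zero_iff_dvd).2 hAdvd)
      rwa [add_zero] at this
    · rintro ⟨x₀, hx₀⟩
      exact hXpt ⟨Sum.inl x₀, by rw [stabilizer_inl]; exact hx₀⟩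

/-- The top part of the characteristic biset: one copy of `S` for each element of a
complement `K` of `Inn(S)` in `Aut_F(S)`. -/
structure TopSet (K : Subgroup (MulAut ↥S)) where
  /-- the automorphism -/
  aut : ↥K
  /-- the point -/
  pt : ↥S

theorem TopSet.ext' {K : Subgroup (MulAut ↥S)} {x y : TopSet K} (h1 : x.aut = y.aut)
    (h2 : x.pt = y.pt) : x = y := by
  cases x; cases y; simp only [TopSet.mk.injEq]; exact ⟨h1, h2⟩

/-- `TopSet K` is `K × S`. -/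
def topEquiv (K : Subgroup (MulAut ↥S)) : TopSet K ≃ ↥K × ↥S where
  toFun x := (x.aut, x.pt)
  invFun y := ⟨y.1, y.2⟩
  left_inv _ := rfl
  right_inv _ := rfl

instance topFinite [Finite S] (K : Subgroup (MulAut ↥S)) : Finite (TopSet K) :=
  Finite.of_equiv _ (topEquiv K).symm

instance topAction (K : Subgroup (MulAut ↥S)) : MulAction (↥S × ↥S) (TopSet K) where
  smul g x := ⟨x.aut, g.1 * x.pt * ((x.aut : MulAut ↥S) g.2)⁻¹⟩
  one_smul x := by
    apply TopSet.ext'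
    · rfl
    · show (1 : ↥S) * x.pt * ((x.aut : MulAut ↥S) 1)⁻¹ = x.pt
      rw [map_one, inv_one, mul_one, one_mul]
  mul_smul g g' x := by
    apply TopSet.ext'
    · rfl
    · show (g.1 * g'.1) * x.pt * ((x.aut : MulAut ↥S) (g.2 * g'.2))⁻¹ =
        g.1 * (g'.1 * x.pt * ((x.aut : MulAut ↥S) g'.2)⁻¹) * ((x.aut : MulAut ↥S) g.2)⁻¹
      rw [map_mul, mul_inv_rev]
      simp only [mul_assoc]

theorem top_smul_pt (K : Subgroup (MulAut ↥S)) (g : ↥S × ↥S) (x : TopSet K) :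
    (g • x).pt = g.1 * x.pt * ((x.aut : MulAut ↥S) g.2)⁻¹ := rfl

theorem top_smul_aut (K : Subgroup (MulAut ↥S)) (g : ↥S × ↥S) (x : TopSet K) :
    (g • x).aut = x.aut := rfl

theorem top_mem_stabilizer (K : Subgroup (MulAut ↥S)) (g : ↥S × ↥S) (x : TopSet K) :
    g ∈ stabilizer (↥S × ↥S) x ↔ g.1 * x.pt * ((x.aut : MulAut ↥S) g.2)⁻¹ = x.pt := by
  rw [mem_stabilizer_iff]
  constructor
  · intro h
    rw [← top_smul_pt, h]
  · intro h
    exact TopSet.ext' rfl h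

theorem top_card [Finite S] (K : Subgroup (MulAut ↥S)) :
    Nat.card (TopSet K) = Nat.card K * Nat.card S := by
  rw [Nat.card_congr (topEquiv K), Nat.card_prod]

theorem top_stabilizer_mem (F : FusionSystem S) (K : Subgroup (MulAut ↥S))
    (hK1 : ∀ κ ∈ K, S.subtype.comp (κ : MulAut ↥S).toMonoidHom ∈ F.Hom S) (x : TopSet K) :
    stabilizer (↥S × ↥S) x ∈ Gr F := by
  have hχ : (conjHom S (x.pt : Ω)).comp ((x.aut : MulAut ↥S).toMonoidHom) ∈ F.Hom S :=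
    comp_mem' F (hK1 _ x.aut.2) (F.conj_mem le_rfl x.pt.2) (fun u => ⟨((x.aut : MulAut ↥S) u).2, rfl⟩)
  refine ⟨S, _, hχ, fun d => ?_⟩
  rw [top_mem_stabilizer]
  constructor
  · intro h
    refine ⟨d.2, ?_, rfl⟩
    have h1 : d.1 = x.pt * (x.aut : MulAut ↥S) d.2 * (x.pt)⁻¹ := by
      calc d.1 = (d.1 * x.pt * ((x.aut : MulAut ↥S) d.2)⁻¹) * (x.aut : MulAut ↥S) d.2 * (x.pt)⁻¹ := by
            group
        _ = x.pt * (x.aut : MulAut ↥S) d.2 * (x.pt)⁻¹ := by rw [h]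
    rw [h1]
    rfl
  · rintro ⟨r, h1, h2⟩
    have hr : r = d.2 := Subtype.ext h2
    subst hr
    have h3 : d.1 = x.pt * (x.aut : MulAut ↥S) d.2 * (x.pt)⁻¹ := Subtype.ext h1.symm
    rw [h3]; group

theorem top_point (K : Subgroup (MulAut ↥S)) :
    stabilizer (↥S × ↥S) (⟨1, 1⟩ : TopSet K) = diag S := by
  ext g
  rw [top_mem_stabilizer, mem_diag]
  show g.1 * 1 * (((1 : ↥K) : MulAut ↥S) g.2)⁻¹ = 1 ↔ g.1 = g.2
  rw [mul_one, Subgroup.coe_one, MulAut.one_apply, mul_inv_eq_one]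

theorem conj_eq_one_of_mem [Finite S] (p : ℕ) [Fact p.Prime] (hS : IsPGroup p S)
    (K : Subgroup (MulAut ↥S)) (hK2 : (Nat.card K).Coprime p) (t : ↥S)
    (ht : MulAut.conj t ∈ K) : MulAut.conj t = 1 := by
  obtain ⟨k, hk⟩ := hS t
  have h1 : orderOf (MulAut.conj t) ∣ p ^ k := by
    apply orderOf_dvd_of_pow_eq_one
    rw [← map_pow, hk, map_one]
  have h2 : orderOf (MulAut.conj t) ∣ Nat.card K := by
    have := orderOf_dvd_natCard (⟨MulAut.conj t, ht⟩ : K)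
    rwa [Subgroup.orderOf_mk] at this
  have h3 : Nat.Coprime (orderOf (MulAut.conj t)) (p ^ k) :=
    Nat.Coprime.coprime_dvd_left h2 (Nat.Coprime.pow_right k hK2)
  exact orderOf_eq_one_iff.1 (Nat.Coprime.eq_one_of_dvd h3 h1)

/-- The marks of the top set at the graphs of the automorphisms of the system. -/
theorem mark_top [Finite S] (p : ℕ) [Fact p.Prime] (hS : IsPGroup p S) (F : FusionSystem S)
    (K : Subgroup (MulAut ↥S)) (hK2 : (Nat.card K).Coprime p) {β : S →* Ω} (hβ : β ∈ F.Hom S)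
    (s₀ : ↥S) (κ₀ : MulAut ↥S) (hκ₀ : κ₀ ∈ K)
    (hdec : ∀ u : ↥S, β u = (s₀ : Ω) * (κ₀ u : ↥S) * (s₀ : Ω)⁻¹) :
    mark (TopSet K) ((dg S le_rfl).map (tw F hβ)) = Nat.card (Subgroup.center ↥S) := by
  have hβS := (F.le_of_mem hβ).2
  have hdec' : ∀ u : ↥S, (⟨β u, hβS u⟩ : ↥S) = s₀ * κ₀ u * s₀⁻¹ := fun u => Subtype.ext (hdec u)
  have hfix : ∀ x : TopSet K, x ∈ fix (TopSet K) ((dg S le_rfl).map (tw F hβ)) ↔
      ∀ u : ↥S, (⟨β u, hβS u⟩ : ↥S) * x.pt * ((x.aut : MulAut ↥S) u)⁻¹ = x.pt := by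
    intro x
    constructor
    · intro hx u
      have hmem : ((⟨β u, hβS u⟩, u) : ↥S × ↥S) ∈ (dg S le_rfl).map (tw F hβ) :=
        (mem_graph F hβ le_rfl).2 ⟨u, rfl, rfl⟩
      exact (top_mem_stabilizer K _ x).1 (mem_stabilizer_iff.2 (hx _ hmem))
    · intro hx d hd
      obtain ⟨r, h1, h2⟩ := (mem_graph F hβ le_rfl).1 hd
      have hr : r = d.2 := Subtype.ext h2
      subst hr
      have hd1 : d.1 = ⟨β d.2, hβS d.2⟩ := Subtype.ext h1.symm
      refine mem_stabilizer_iff.1 ((top_mem_stabilizer K _ x).2 ?_)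
      rw [hd1]; exact hx d.2
  have himg : fix (TopSet K) ((dg S le_rfl).map (tw F hβ)) =
      (fun z : Subgroup.center ↥S => (⟨⟨κ₀, hκ₀⟩, s₀ * z⟩ : TopSet K)) '' Set.univ := by
    ext x
    rw [hfix]
    constructor
    · intro hx
      have hκ : ∀ u : ↥S, (x.aut : MulAut ↥S) u =
          (MulAut.conj ((x.pt)⁻¹ * s₀) * κ₀) u := by
        intro u
        have := hx u
        rw [hdec'] at this
        rw [MulAut.mul_apply, MulAut.conj_apply]
        have h4 : s₀ * κ₀ u * s₀⁻¹ * x.pt = x.pt * (x.aut : MulAut ↥S) u :=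
          mul_inv_eq_iff_eq_mul.1 this
        have h5 : (x.aut : MulAut ↥S) u = (x.pt)⁻¹ * (s₀ * κ₀ u * s₀⁻¹ * x.pt) := by
          rw [h4]; group
        rw [h5]; group
      have hκ' : (x.aut : MulAut ↥S) = MulAut.conj ((x.pt)⁻¹ * s₀) * κ₀ := MulEquiv.ext hκ
      have hconj : MulAut.conj ((x.pt)⁻¹ * s₀) ∈ K := by
        have : MulAut.conj ((x.pt)⁻¹ * s₀) = (x.aut : MulAut ↥S) * κ₀⁻¹ := by
          rw [hκ']; group
        rw [this]
        exact K.mul_mem x.aut.2 (K.inv_mem hκ₀)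
      have hone := conj_eq_one_of_mem p hS K hK2 _ hconj
      have hcen : s₀⁻¹ * x.pt ∈ Subgroup.center ↥S := by
        rw [Subgroup.mem_center_iff]
        intro g
        have h6 := congrArg (fun a : MulAut ↥S => a g) hone
        simp only [MulAut.conj_apply, MulAut.one_apply] at h6
        have h7 : g * (s₀⁻¹ * x.pt) = ((x.pt)⁻¹ * s₀)⁻¹ * ((x.pt)⁻¹ * s₀ * g * ((x.pt)⁻¹ * s₀)⁻¹) := by
          group
        rw [h7, h6]; group
      refine ⟨⟨s₀⁻¹ * x.pt, hcen⟩, Set.mem_univ _, ?_⟩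
      apply TopSet.ext'
      · apply Subtype.ext
        show κ₀ = (x.aut : MulAut ↥S)
        rw [hκ', hone, one_mul]
      · show s₀ * (s₀⁻¹ * x.pt) = x.pt
        group
    · rintro ⟨z, -, rfl⟩ u
      show (⟨β u, hβS u⟩ : ↥S) * (s₀ * z) * (κ₀ u)⁻¹ = s₀ * z
      rw [hdec']
      have hz := (Subgroup.mem_center_iff.1 z.2) (κ₀ u)
      have h8 : s₀ * κ₀ u * s₀⁻¹ * (s₀ * (z : ↥S)) * (κ₀ u)⁻¹ = s₀ * (κ₀ u * z) * (κ₀ u)⁻¹ := by
        group
      rw [h8, hz]; group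
  rw [mark, himg, Set.ncard_image_of_injective, Set.ncard_univ]
  intro z z' h
  have h9 : s₀ * (z : ↥S) = s₀ * z' := congrArg TopSet.pt h
  exact Subtype.ext (mul_left_cancel h9)

theorem top_stable [Finite S] (p : ℕ) [Fact p.Prime] (hS : IsPGroup p S) (F : FusionSystem S)
    (K : Subgroup (MulAut ↥S))
    (hK1 : ∀ κ ∈ K, S.subtype.comp (κ : MulAut ↥S).toMonoidHom ∈ F.Hom S)
    (hK2 : (Nat.card K).Coprime p)
    (hK3 : ∀ (β : S →* Ω), β ∈ F.Hom S → ∃ s₀ : ↥S, ∃ κ₀ ∈ K,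
      ∀ u : ↥S, β u = (s₀ : Ω) * (κ₀ u : ↥S) * (s₀ : Ω)⁻¹) :
    StableAbove F (TopSet K) (Nat.card S - 1) := by
  intro P ψ₁ ψ₂ h₁ h₂ K' hK'
  have hval : ∀ {ψ : P →* Ω} (h : ψ ∈ F.Hom P), K'.map (tw F h) ∈ Gr F →
      mark (TopSet K) (K'.map (tw F h)) = Nat.card (Subgroup.center ↥S) := by
    intro ψ h hG
    have hc : Nat.card (K'.map (tw F h)) = Nat.card K' := card_map_tw F h K'
    have hdvd := card_Gr_dvd F hG
    have hcS : Nat.card (K'.map (tw F h)) = Nat.card S := by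
      have := Nat.le_of_dvd Nat.card_pos hdvd
      omega
    obtain ⟨R, χ, hχ, hR⟩ := (Gr_iff F).1 hG
    rw [hR] at hcS ⊢
    rw [card_graph] at hcS
    have hRS : R = S := Subgroup.eq_of_le_of_card_ge (F.le_of_mem hχ).1 hcS.ge
    subst hRS
    obtain ⟨s₀, κ₀, hκ₀, hdec⟩ := hK3 χ hχ
    exact mark_top p hS F K hK2 hχ s₀ κ₀ hκ₀ hdec
  by_cases hG : K'.map (tw F h₁) ∈ Gr F
  · rw [hval h₁ hG, hval h₂ (Gr_tw F h₁ h₂ K' hG)]
  · rw [mark_eq_zero_of_not_Gr F (top_stabilizer_mem F K hK1) hG,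
      mark_eq_zero_of_not_Gr F (top_stabilizer_mem F K hK1) (fun h => hG (Gr_tw F h₂ h₁ K' h))]

end Cfsg.Agent.Helper27.Biset
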