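import Cfsg.Agent.Helper27.Biset6
import Cfsg.Agent.Helper26.FusionCenter

set_option autoImplicit false

namespace Cfsg.Agent.Helper27.Biset

open Cfsg Cfsg.FusionSystem Cfsg.Agent.Helper26 Cfsg.Agent.Helper27.Marks MulAction
open scoped Classical

universe u
variable {Ω : Type u} [Group Ω] {S : Subgroup Ω}

theorem free_right (F : FusionSystem S) {X : Type*} [MulAction (↥S × ↥S) X]
    (hgr : ∀ x : X, stabilizer (↥S × ↥S) x ∈ Gr F) (y : X) {s s' : ↥S}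
    (h : ((1, s) : ↥S × ↥S) • y = ((1, s') : ↥S × ↥S) • y) : s = s' := by
  have h1 : ((1, s') : ↥S × ↥S)⁻¹ * (1, s) ∈ stabilizer (↥S × ↥S) y := by
    rw [mem_stabilizer_iff, mul_smul, h, inv_smul_smul]
  obtain ⟨R, χ, hχ, hmem⟩ := hgr y
  obtain ⟨r, hr1, hr2⟩ := (hmem _).1 h1
  have e1 : (((((1, s') : ↥S × ↥S)⁻¹ * (1, s)).1 : ↥S) : Ω) = 1 := by simp
  have e2 : (((((1, s') : ↥S × ↥S)⁻¹ * (1, s)).2 : ↥S) : Ω) = (s' : Ω)⁻¹ * s := by simp
  rw [e1] at hr1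
  rw [e2] at hr2
  have hr : r = 1 := F.injective_of_mem hχ (by rw [hr1, map_one])
  rw [hr] at hr2
  apply Subtype.ext
  have h3 : (s' : Ω)⁻¹ * s = 1 := hr2.symm
  exact (inv_mul_eq_one.1 h3).symm

theorem smul_one_mul {X : Type*} [MulAction (↥S × ↥S) X] (a b : ↥S) (v : X) :
    ((1, a) : ↥S × ↥S) • ((1, b) : ↥S × ↥S) • v = ((1, a * b) : ↥S × ↥S) • v := by
  rw [← mul_smul]
  congr 1
  ext <;> simp

theorem smul_one_one {X : Type*} [MulAction (↥S × ↥S) X] (v : X) :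
    ((1, 1) : ↥S × ↥S) • v = v := one_smul (↥S × ↥S) v

/-- The stabilizer of the right orbit of `x₀` in the automorphism group of the right `S`-set. -/
def orbStab (S : Subgroup Ω) (X : Type*) [MulAction (↥S × ↥S) X] (x₀ : X) :
    Subgroup ↥(autGrp S X) where
  carrier := {g | ∃ s : ↥S, (g : Equiv.Perm X) x₀ = ((1, s) : ↥S × ↥S) • x₀}
  one_mem' := ⟨1, (smul_one_one x₀).symm⟩
  mul_mem' := by
    rintro g g' ⟨s, hs⟩ ⟨s', hs'⟩
    refine ⟨s' * s, ?_⟩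
    show (g : Equiv.Perm X) ((g' : Equiv.Perm X) x₀) = _
    rw [hs', mem_autGrp.1 g.2, hs, smul_one_mul]
  inv_mem' := by
    rintro g ⟨s, hs⟩
    refine ⟨s⁻¹, ?_⟩
    show ((g : Equiv.Perm X))⁻¹ x₀ = _
    rw [Equiv.Perm.inv_eq_iff_eq, mem_autGrp.1 g.2, hs, smul_one_mul, inv_mul_cancel, smul_one_one]

theorem exists_phi0 (F : FusionSystem S) {X : Type*} [MulAction (↥S × ↥S) X]
    (hgr : ∀ x : X, stabilizer (↥S × ↥S) x ∈ Gr F) (x₀ : X) :
    ∃ φ₀ : ↥(orbStab S X x₀) →* Abelianization ↥S, ∀ (h : ↥(orbStab S X x₀)) (s : ↥S),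
      ((h : ↥(autGrp S X)) : Equiv.Perm X) x₀ = ((1, s) : ↥S × ↥S) • x₀ →
        φ₀ h = (Abelianization.of s)⁻¹ := by
  have hspec : ∀ h : ↥(orbStab S X x₀), ((h : ↥(autGrp S X)) : Equiv.Perm X) x₀ =
      ((1, Classical.choose h.2) : ↥S × ↥S) • x₀ := fun h => Classical.choose_spec h.2
  have huniq : ∀ (h : ↥(orbStab S X x₀)) (s : ↥S),
      ((h : ↥(autGrp S X)) : Equiv.Perm X) x₀ = ((1, s) : ↥S × ↥S) • x₀ →
      Classical.choose h.2 = s :=
    fun h s hs => free_right F hgr x₀ ((hspec h).symm.trans hs)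
  refine ⟨MonoidHom.mk' (fun h => (Abelianization.of (Classical.choose h.2))⁻¹)
    (fun a b => ?_), fun h s hs => ?_⟩
  · have hab : Classical.choose (a * b).2 = Classical.choose b.2 * Classical.choose a.2 := by
      apply huniq
      have e1 := hspec b
      have e2 := hspec a
      have e3 := mem_autGrp.1 (a : ↥(autGrp S X)).2 (Classical.choose b.2) x₀
      exact ((congrArg (fun w => ((a : ↥(autGrp S X)) : Equiv.Perm X) w) e1).trans
        (e3.trans ((congrArg (fun w => ((1, Classical.choose b.2) : ↥S × ↥S) • w) e2).trans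
          (smul_one_mul _ _ _))))
    rw [hab, map_mul, mul_inv_rev]
  · show (Abelianization.of (Classical.choose h.2))⁻¹ = _
    rw [huniq h s hs]

/-- The automorphism group of the right `S`-set is transitive on the right orbits. -/
theorem exists_aut_move (F : FusionSystem S) {X : Type*} [MulAction (↥S × ↥S) X]
    (hgr : ∀ x : X, stabilizer (↥S × ↥S) x ∈ Gr F) (x₀ y : X) :
    ∃ g : ↥(autGrp S X), ∃ s : ↥S, (g : Equiv.Perm X) x₀ = ((1, s) : ↥S × ↥S) • y := by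
  by_cases hy : ∃ s : ↥S, x₀ = ((1, s) : ↥S × ↥S) • y
  · obtain ⟨s, hs⟩ := hy
    exact ⟨1, s, hs⟩
  · have hdisj : ∀ s t : ↥S, ((1, s) : ↥S × ↥S) • x₀ ≠ ((1, t) : ↥S × ↥S) • y := by
      intro s t h
      apply hy
      refine ⟨s⁻¹ * t, ?_⟩
      rw [← smul_one_mul, ← h, smul_one_mul, inv_mul_cancel, smul_one_one]
    let f : X → X := fun w =>
      if h : ∃ s : ↥S, w = ((1, s) : ↥S × ↥S) • x₀ then
        ((1, Classical.choose h) : ↥S × ↥S) • y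
      else if h' : ∃ s : ↥S, w = ((1, s) : ↥S × ↥S) • y then
        ((1, Classical.choose h') : ↥S × ↥S) • x₀
      else w
    have hf1 : ∀ s : ↥S, f (((1, s) : ↥S × ↥S) • x₀) = ((1, s) : ↥S × ↥S) • y := by
      intro s
      have h : ∃ s' : ↥S, ((1, s) : ↥S × ↥S) • x₀ = ((1, s') : ↥S × ↥S) • x₀ := ⟨s, rfl⟩
      simp only [f, dif_pos h]
      rw [← free_right F hgr x₀ (Classical.choose_spec h)]
    have hf2 : ∀ s : ↥S, f (((1, s) : ↥S × ↥S) • y) = ((1, s) : ↥S × ↥S) • x₀ := by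
      intro s
      have hn : ¬ ∃ s' : ↥S, ((1, s) : ↥S × ↥S) • y = ((1, s') : ↥S × ↥S) • x₀ :=
        fun ⟨s', h⟩ => hdisj s' s h.symm
      have h : ∃ s' : ↥S, ((1, s) : ↥S × ↥S) • y = ((1, s') : ↥S × ↥S) • y := ⟨s, rfl⟩
      simp only [f, dif_neg hn, dif_pos h]
      rw [← free_right F hgr y (Classical.choose_spec h)]
    have hf3 : ∀ w : X, (¬ ∃ s : ↥S, w = ((1, s) : ↥S × ↥S) • x₀) →
        (¬ ∃ s : ↥S, w = ((1, s) : ↥S × ↥S) • y) → f w = w := by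
      intro w h1 h2
      simp only [f, dif_neg h1, dif_neg h2]
    have hinv : Function.Involutive f := by
      intro w
      by_cases h1 : ∃ s : ↥S, w = ((1, s) : ↥S × ↥S) • x₀
      · obtain ⟨s, rfl⟩ := h1
        rw [hf1, hf2]
      · by_cases h2 : ∃ s : ↥S, w = ((1, s) : ↥S × ↥S) • y
        · obtain ⟨s, rfl⟩ := h2
          rw [hf2, hf1]
        · rw [hf3 w h1 h2, hf3 w h1 h2]
    have hback : ∀ (t : ↥S) (w v : X) (s : ↥S), ((1, t) : ↥S × ↥S) • w = ((1, s) : ↥S × ↥S) • v →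
        w = ((1, t⁻¹ * s) : ↥S × ↥S) • v := by
      intro t w v s hs
      rw [← smul_one_mul, ← hs, smul_one_mul, inv_mul_cancel, smul_one_one]
    have hcomm : ∀ (t : ↥S) (w : X), f (((1, t) : ↥S × ↥S) • w) = ((1, t) : ↥S × ↥S) • f w := by
      intro t w
      by_cases h1 : ∃ s : ↥S, w = ((1, s) : ↥S × ↥S) • x₀
      · obtain ⟨s, rfl⟩ := h1
        rw [smul_one_mul, hf1, hf1, smul_one_mul]
      · by_cases h2 : ∃ s : ↥S, w = ((1, s) : ↥S × ↥S) • y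
        · obtain ⟨s, rfl⟩ := h2
          rw [smul_one_mul, hf2, hf2, smul_one_mul]
        · have h1' : ¬ ∃ s : ↥S, ((1, t) : ↥S × ↥S) • w = ((1, s) : ↥S × ↥S) • x₀ :=
            fun ⟨s, hs⟩ => h1 ⟨_, hback t w x₀ s hs⟩
          have h2' : ¬ ∃ s : ↥S, ((1, t) : ↥S × ↥S) • w = ((1, s) : ↥S × ↥S) • y :=
            fun ⟨s, hs⟩ => h2 ⟨_, hback t w y s hs⟩
          rw [hf3 _ h1' h2', hf3 w h1 h2]
    refine ⟨⟨hinv.toPerm f, mem_autGrp.2 (fun t w => hcomm t w)⟩, 1, ?_⟩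
    show f x₀ = ((1, 1) : ↥S × ↥S) • y
    have h := hf1 1
    rw [smul_one_one] at h
    exact h

/-- The transfer argument: a characteristic biset shows that the focal subgroup meets the
centre of the system inside the derived subgroup. -/
theorem focal_inf_center_le [Finite S] (p : ℕ) [Fact p.Prime] (hS : IsPGroup p S)
    (F : FusionSystem S) (X : Type u) [Finite X] [MulAction (↥S × ↥S) X]
    (hgr : ∀ x : X, stabilizer (↥S × ↥S) x ∈ Gr F) (hst : StableAbove F X 0)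
    (x₀ : X) (hx₀ : stabilizer (↥S × ↥S) x₀ = diag S)
    (r : ℕ) (hr : ¬ p ∣ r) (hcard : Nat.card X ≡ r * Nat.card S [MOD p * Nat.card S]) :
    F.focalSubgroup ⊓ F.center ≤ ⁅S, S⁆ := by
  have hreal : F.IsRealizedBy (leftHom S X) :=
    realized F X hgr ⟨x₀, hx₀⟩ (fun P ψ₁ ψ₂ h₁ h₂ K => by
      have : Finite P := finite_of_le (F.le_of_mem h₁).1
      exact hst P ψ₁ ψ₂ h₁ h₂ K Nat.card_pos)
  obtain ⟨φ₀, hφ₀⟩ := exists_phi0 F hgr x₀
  obtain ⟨t, ht⟩ : ∃ t : ↥S →* Abelianization ↥S,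
      t = (MonoidHom.transfer φ₀).comp (leftHom S X) := ⟨_, rfl⟩
  have hinv : ∀ (P : Subgroup Ω) (φ : P →* Ω) (hφ : φ ∈ F.Hom P) (x : P),
      t ⟨φ x, (F.le_of_mem hφ).2 x⟩ = t ⟨x, (F.le_of_mem hφ).1 x.2⟩ := by
    intro P φ hφ x
    obtain ⟨g, hg⟩ := (hreal.2 P (F.le_of_mem hφ).1 φ (F.le_of_mem hφ).2).1 hφ
    rw [ht, MonoidHom.comp_apply, MonoidHom.comp_apply, hg x, map_mul, map_mul, map_inv,
      mul_comm, inv_mul_cancel_left]
  have hfoc : F.focalSubgroup ≤ t.ker.map S.subtype := by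
    unfold FusionSystem.focalSubgroup
    rw [Subgroup.closure_le]
    rintro y ⟨P, φ, x, hφ, rfl⟩
    have hxS := (F.le_of_mem hφ).1 x.2
    have hφS := (F.le_of_mem hφ).2 x
    refine ⟨(⟨x, hxS⟩ : ↥S)⁻¹ * ⟨φ x, hφS⟩, ?_, rfl⟩
    rw [SetLike.mem_coe, MonoidHom.mem_ker, map_mul, map_inv, hinv P φ hφ x, inv_mul_cancel]
  have hidx : (orbStab S X x₀).index * Nat.card S = Nat.card X := by
    rw [Subgroup.index, ← Nat.card_prod]
    refine Nat.card_congr (Equiv.ofBijective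
      (fun qs : (↥(autGrp S X) ⧸ orbStab S X x₀) × ↥S =>
        ((1, qs.2) : ↥S × ↥S) • ((qs.1.out : ↥(autGrp S X)) : Equiv.Perm X) x₀) ⟨?_, ?_⟩)
    · rintro ⟨q, s⟩ ⟨q', s'⟩ h
      have h' : ((1, s) : ↥S × ↥S) • ((q.out : ↥(autGrp S X)) : Equiv.Perm X) x₀ =
          ((1, s') : ↥S × ↥S) • ((q'.out : ↥(autGrp S X)) : Equiv.Perm X) x₀ := h
      have hq : q = q' := by
        rw [← QuotientGroup.out_eq' q, ← QuotientGroup.out_eq' q', QuotientGroup.eq]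
        refine ⟨s'⁻¹ * s, ?_⟩
        show ((q.out : ↥(autGrp S X)) : Equiv.Perm X)⁻¹
          (((q'.out : ↥(autGrp S X)) : Equiv.Perm X) x₀) = _
        rw [Equiv.Perm.inv_eq_iff_eq, mem_autGrp.1 (q.out).2, ← smul_one_mul, h', smul_one_mul,
          inv_mul_cancel, smul_one_one]
      subst hq
      have hs : s = s' := free_right F hgr _ h'
      rw [hs]
    · intro y
      obtain ⟨g, s, hgs⟩ := exists_aut_move F hgr x₀ y
      obtain ⟨h, hh⟩ := QuotientGroup.mk_out_eq_mul (orbStab S X x₀) g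
      obtain ⟨s₁, hs₁⟩ := h.2
      refine ⟨(QuotientGroup.mk g, (s₁ * s)⁻¹), ?_⟩
      show ((1, (s₁ * s)⁻¹) : ↥S × ↥S) •
        (((QuotientGroup.mk g : ↥(autGrp S X) ⧸ orbStab S X x₀).out : ↥(autGrp S X)) :
          Equiv.Perm X) x₀ = y
      rw [hh]
      show ((1, (s₁ * s)⁻¹) : ↥S × ↥S) • (g : Equiv.Perm X)
        (((h : ↥(autGrp S X)) : Equiv.Perm X) x₀) = y
      have hone : (s₁ * s)⁻¹ * s₁ * s = 1 := by rw [mul_assoc]; exact inv_mul_cancel _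
      rw [hs₁, mem_autGrp.1 g.2, hgs, smul_one_mul, smul_one_mul, hone, smul_one_one]
  have hpidx : ¬ p ∣ (orbStab S X x₀).index := by
    intro hdvd
    rw [← hidx] at hcard
    have h1 := Nat.ModEq.mul_right_cancel' (Nat.card_pos (α := S)).ne' hcard
    exact hr ((Nat.modEq_zero_iff_dvd).1 (h1.symm.trans ((Nat.modEq_zero_iff_dvd).2 hdvd)))
  have hcen := center_isCentral F
  have heval : ∀ (z : Ω) (hz : z ∈ F.center), t ⟨z, hcen.1 hz⟩ =
      (Abelianization.of (⟨z, hcen.1 hz⟩ : ↥S)) ^ (orbStab S X x₀).index := by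
    intro z hz
    have hzS := hcen.1 hz
    have key : ∀ (γ : ↥(autGrp S X)) (k : ℕ)
        (hmem : γ⁻¹ * (leftHom S X ⟨z, hzS⟩) ^ k * γ ∈ orbStab S X x₀),
        φ₀ ⟨_, hmem⟩ = (Abelianization.of (⟨z, hzS⟩ : ↥S)) ^ k := by
      intro γ k hmem
      have hmem' := hmem
      obtain ⟨s, hs⟩ := hmem'
      rw [hφ₀ ⟨_, hmem⟩ s hs]
      have h1 : (((⟨z, hzS⟩ : ↥S) ^ k, 1) : ↥S × ↥S) • (γ : Equiv.Perm X) x₀ =
          ((1, s) : ↥S × ↥S) • (γ : Equiv.Perm X) x₀ := by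
        have h2 : ((γ : Equiv.Perm X))⁻¹ (((leftHom S X ⟨z, hzS⟩ ^ k : ↥(autGrp S X)) :
            Equiv.Perm X) ((γ : Equiv.Perm X) x₀)) = ((1, s) : ↥S × ↥S) • x₀ := hs
        rw [Equiv.Perm.inv_eq_iff_eq, mem_autGrp.1 γ.2, ← map_pow] at h2
        exact h2
      have h3 : ((1, s) : ↥S × ↥S)⁻¹ * ((⟨z, hzS⟩ : ↥S) ^ k, 1) ∈
          stabilizer (↥S × ↥S) ((γ : Equiv.Perm X) x₀) := by
        rw [mem_stabilizer_iff, mul_smul, h1, inv_smul_smul]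
      obtain ⟨R, χ, hχ, hmemG⟩ := hgr ((γ : Equiv.Perm X) x₀)
      obtain ⟨r, hr1, hr2⟩ := (hmemG _).1 h3
      have e1 : ((((1, s) : ↥S × ↥S)⁻¹ * ((⟨z, hzS⟩ : ↥S) ^ k, 1)).1 : Ω) = z ^ k := by simp
      have e2 : ((((1, s) : ↥S × ↥S)⁻¹ * ((⟨z, hzS⟩ : ↥S) ^ k, 1)).2 : Ω) = (s : Ω)⁻¹ := by simp
      rw [e1] at hr1
      rw [e2] at hr2
      obtain ⟨ψ, hψ, hψ'⟩ := F.inv_mem hχ
      have h4 := hψ' r
      have h5 := central_fix F hcen hψ ⟨χ r, ⟨r, rfl⟩⟩ (by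
        show χ r ∈ F.center
        rw [hr1]; exact Subgroup.pow_mem _ hz k)
      have h6 : (s : Ω)⁻¹ = z ^ k := by
        rw [← hr2, ← h4, h5]
        exact hr1
      have h7 : s⁻¹ = (⟨z, hzS⟩ : ↥S) ^ k := Subtype.ext (by simpa using h6)
      rw [← map_inv, h7, map_pow]
    haveI : Fintype (Quotient (MulAction.orbitRel (Subgroup.zpowers (leftHom S X ⟨z, hzS⟩))
      (↥(autGrp S X) ⧸ orbStab S X x₀))) := Fintype.ofFinite _
    rw [ht, MonoidHom.comp_apply, MonoidHom.transfer_eq_prod_quotient_orbitRel_zpowers_quot,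
      Subgroup.index_eq_sum_minimalPeriod (orbStab S X x₀) (leftHom S X ⟨z, hzS⟩),
      ← Finset.prod_pow_eq_pow_sum]
    exact Finset.prod_congr rfl (fun q _ => key _ _ _)
  intro z hz
  obtain ⟨hzf, hzc⟩ := Subgroup.mem_inf.1 hz
  obtain ⟨z', hz'ker, hz'eq⟩ := hfoc hzf
  have hzS : z ∈ S := hcen.1 hzc
  have hz'z : z' = ⟨z, hzS⟩ := Subtype.ext hz'eq
  rw [hz'z] at hz'ker
  have h1 := heval z hzc
  rw [MonoidHom.mem_ker.1 hz'ker] at h1
  have h2 : (⟨z, hzS⟩ : ↥S) ^ (orbStab S X x₀).index ∈ commutator ↥S := by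
    rw [← Abelianization.ker_of, MonoidHom.mem_ker, map_pow]
    exact h1.symm
  have hcop : ((orbStab S X x₀).index).Coprime (orderOf (⟨z, hzS⟩ : ↥S)) := by
    obtain ⟨k, hk⟩ := hS ⟨z, hzS⟩
    have hdvd : orderOf (⟨z, hzS⟩ : ↥S) ∣ p ^ k := orderOf_dvd_of_pow_eq_one hk
    exact Nat.Coprime.coprime_dvd_right hdvd
      (Nat.Coprime.pow_left k ((Nat.Prime.coprime_iff_not_dvd Fact.out).2 hpidx)).symm
  obtain ⟨m, hm⟩ := exists_pow_eq_self_of_coprime hcop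
  have h3 : (⟨z, hzS⟩ : ↥S) ∈ commutator ↥S := by
    rw [← hm]; exact Subgroup.pow_mem _ h2 m
  have h4 : (commutator ↥S).map S.subtype = ⁅S, S⁆ := by
    show (⁅(⊤ : Subgroup ↥S), ⊤⁆ : Subgroup ↥S).map S.subtype = _
    rw [Subgroup.map_commutator, ← MonoidHom.range_eq_map, Subgroup.range_subtype]
  rw [← h4]
  exact ⟨⟨z, hzS⟩, h3, rfl⟩

end Cfsg.Agent.Helper27.Biset
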