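import Cfsg.Agent.Helper27.Biset7

set_option autoImplicit false

namespace Cfsg.Agent.Helper27.Biset

open Cfsg Cfsg.FusionSystem Cfsg.Agent.Helper26 Cfsg.Agent.Helper27.Marks MulAction
open scoped Classical

universe u
variable {Ω : Type u} [Group Ω] {S : Subgroup Ω}

/-- For a saturated fusion system, the focal subgroup meets the centre of the system inside the
derived subgroup (via a characteristic biset and the transfer). -/
theorem focal_center_le_commutator [Finite S] (p : ℕ) [Fact p.Prime] (hS : IsPGroup p S)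
    (F : FusionSystem S) (hF : F.IsSaturated p) :
    F.focalSubgroup ⊓ F.center ≤ ⁅S, S⁆ := by
  obtain ⟨H, hHcop, hHdec⟩ := Cfsg.Agent.Helper27.aut_decomp p hS F hF
  obtain ⟨K, hKdef⟩ : ∃ K : Subgroup (MulAut ↥S), K = H ⊓ F.autGroup S := ⟨_, rfl⟩
  have hK1 : ∀ κ ∈ K, S.subtype.comp (κ : MulAut ↥S).toMonoidHom ∈ F.Hom S := by
    intro κ hκ
    rw [hKdef] at hκ
    exact (mem_autGroup_iff F le_rfl).1 hκ.2
  have hK2 : (Nat.card K).Coprime p := by
    rw [hKdef]
    exact Nat.Coprime.coprime_dvd_left (Subgroup.card_dvd_of_le inf_le_left) hHcop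
  have hconj : ∀ s : ↥S, (MulAut.conj s : MulAut ↥S) ∈ F.autGroup S := by
    intro s
    refine (mem_autGroup_iff F le_rfl).2 (mem_of_eq F (F.conj_mem le_rfl s.2) (fun x => ?_))
    rfl
  have hK3 : ∀ (β : S →* Ω), β ∈ F.Hom S → ∃ s₀ : ↥S, ∃ κ₀ ∈ K,
      ∀ u : ↥S, β u = (s₀ : Ω) * (κ₀ u : ↥S) * (s₀ : Ω)⁻¹ := by
    intro β hβ
    have hinj : Function.Injective (homS F hβ) := by
      intro a b hab
      exact F.injective_of_mem hβ (congrArg Subtype.val hab)
    obtain ⟨α, hα⟩ : ∃ α : MulAut ↥S, ∀ u : ↥S, α u = homS F hβ u :=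
      ⟨MulEquiv.ofBijective (homS F hβ) ⟨hinj, Finite.surjective_of_injective hinj⟩, fun u => rfl⟩
    have hαmem : α ∈ F.autGroup S := by
      refine (mem_autGroup_iff F le_rfl).2 (mem_of_eq F hβ (fun x => ?_))
      show ((α x : ↥S) : Ω) = β x
      rw [hα]; rfl
    obtain ⟨s, h, hh, hαeq⟩ := hHdec α hαmem
    have hhmem : h ∈ F.autGroup S := by
      have : h = (MulAut.conj s)⁻¹ * α := by rw [hαeq, inv_mul_cancel_left]
      rw [this]
      exact Subgroup.mul_mem _ (Subgroup.inv_mem _ (hconj s)) hαmem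
    refine ⟨s, h, by rw [hKdef]; exact ⟨hh, hhmem⟩, fun u => ?_⟩
    have h1 : β u = ((α u : ↥S) : Ω) := by rw [hα]; rfl
    rw [h1, hαeq]
    rfl
  have hgr₀ : ∀ x : TopSet K, stabilizer (↥S × ↥S) x ∈ Gr F := top_stabilizer_mem F K hK1
  have hst₀ : StableAbove F (TopSet K) (Nat.card S - 1) := top_stable p hS F K hK1 hK2 hK3
  have hpos : 0 < Nat.card S := Nat.card_pos
  obtain ⟨X, hXfin, hXact, hXgr, hXst, hXcard, hXpt⟩ :=
    exists_stable p hS F hF (Nat.card S - 1) (by omega) (TopSet K) hgr₀ hst₀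
  obtain ⟨x₀, hx₀⟩ := hXpt ⟨⟨1, 1⟩, top_point K⟩
  rw [top_card] at hXcard
  refine focal_inf_center_le p hS F X hXgr hXst x₀ hx₀ (Nat.card K) ?_ hXcard
  intro hdvd
  have := Nat.Coprime.eq_one_of_dvd hK2.symm hdvd
  exact (Fact.out : p.Prime).one_lt.ne' this

end Cfsg.Agent.Helper27.Biset
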