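import Cfsg.Agent.Helper27.Biset8

set_option autoImplicit false

namespace Cfsg.Agent.Helper27.Biset

open Cfsg Cfsg.FusionSystem Cfsg.Agent.Helper26 Cfsg.Agent.Helper27.Marks MulAction
open scoped Classical

universe u
variable {Ω : Type u} [Group Ω] {S : Subgroup Ω}

/-- A characteristic biset for a saturated fusion system: right-free, left-stable, with a
diagonal point and with `|X| / |S|` prime to `p`. -/
theorem exists_char_biset [Finite S] (p : ℕ) [Fact p.Prime] (hS : IsPGroup p S)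
    (F : FusionSystem S) (hF : F.IsSaturated p) :
    ∃ (X : Type u) (_ : Finite X) (_ : MulAction (↥S × ↥S) X),
      (∀ x : X, stabilizer (↥S × ↥S) x ∈ Gr F) ∧ StableAbove F X 0 ∧
      (∃ x₀ : X, stabilizer (↥S × ↥S) x₀ = diag S) ∧
      ∃ r : ℕ, ¬ p ∣ r ∧ Nat.card X ≡ r * Nat.card S [MOD p * Nat.card S] := by
  obtain ⟨H, hHcop, hHdec⟩ := Cfsg.Agent.Helper27.aut_decomp p hS F hF
  obtain ⟨K, hKdef⟩ : ∃ K : Subgroup (MulAut ↥S), K = H ⊓ F.autGroup S := ⟨_, rfl⟩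
  have hK1 : ∀ κ ∈ K, S.subtype.comp (κ : MulAut ↥S).toMonoidHom ∈ F.Hom S := by
    intro κ hκ
    rw [hKdef] at hκ
    exact (mem_autGroup_iff F le_rfl).1 hκ.2
  have hK2 : (Nat.card K).Coprime p := by
    rw [hKdef]
    exact Nat.Coprime.coprime_dvd_left (Subgroup.card_dvd_of_le inf_le_left) hHcop
  have hconj : ∀ s : ↥S, (MulAut.conj s : MulAut ↥S) ∈ F.autGroup S := by
    intro s
    refine (mem_autGroup_iff F le_rfl).2 (mem_of_eq F (F.conj_mem le_rfl s.2) (fun x => ?_))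
    rfl
  have hK3 : ∀ (β : S →* Ω), β ∈ F.Hom S → ∃ s₀ : ↥S, ∃ κ₀ ∈ K,
      ∀ u : ↥S, β u = (s₀ : Ω) * (κ₀ u : ↥S) * (s₀ : Ω)⁻¹ := by
    intro β hβ
    have hinj : Function.Injective (homS F hβ) := by
      intro a b hab
      exact F.injective_of_mem hβ (congrArg Subtype.val hab)
    obtain ⟨α, hα⟩ : ∃ α : MulAut ↥S, ∀ u : ↥S, α u = homS F hβ u :=
      ⟨MulEquiv.ofBijective (homS F hβ) ⟨hinj, Finite.surjective_of_injective hinj⟩, fun u => rfl⟩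
    have hαmem : α ∈ F.autGroup S := by
      refine (mem_autGroup_iff F le_rfl).2 (mem_of_eq F hβ (fun x => ?_))
      show ((α x : ↥S) : Ω) = β x
      rw [hα]; rfl
    obtain ⟨s, h, hh, hαeq⟩ := hHdec α hαmem
    have hhmem : h ∈ F.autGroup S := by
      have : h = (MulAut.conj s)⁻¹ * α := by rw [hαeq, inv_mul_cancel_left]
      rw [this]
      exact Subgroup.mul_mem _ (Subgroup.inv_mem _ (hconj s)) hαmem
    refine ⟨s, h, by rw [hKdef]; exact ⟨hh, hhmem⟩, fun u => ?_⟩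
    have h1 : β u = ((α u : ↥S) : Ω) := by rw [hα]; rfl
    rw [h1, hαeq]
    rfl
  have hgr₀ : ∀ x : TopSet K, stabilizer (↥S × ↥S) x ∈ Gr F := top_stabilizer_mem F K hK1
  have hst₀ : StableAbove F (TopSet K) (Nat.card S - 1) := top_stable p hS F K hK1 hK2 hK3
  have hpos : 0 < Nat.card S := Nat.card_pos
  obtain ⟨X, hXfin, hXact, hXgr, hXst, hXcard, hXpt⟩ :=
    exists_stable p hS F hF (Nat.card S - 1) (by omega) (TopSet K) hgr₀ hst₀
  obtain ⟨x₀, hx₀⟩ := hXpt ⟨⟨1, 1⟩, top_point K⟩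
  rw [top_card] at hXcard
  refine ⟨X, hXfin, hXact, hXgr, hXst, ⟨x₀, hx₀⟩, Nat.card K, ?_, hXcard⟩
  intro hdvd
  have := Nat.Coprime.eq_one_of_dvd hK2.symm hdvd
  exact (Fact.out : p.Prime).one_lt.ne' this

/-- The transfer of any homomorphism on the orbit stabilizer, pulled back along the left action,
is constant on the classes of the fusion system. -/
theorem transfer_stable [Finite S] (F : FusionSystem S) (X : Type u) [Finite X]
    [MulAction (↥S × ↥S) X] (hgr : ∀ x : X, stabilizer (↥S × ↥S) x ∈ Gr F)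
    (hst : StableAbove F X 0) (x₀ : X) (hx₀ : stabilizer (↥S × ↥S) x₀ = diag S)
    {C : Type*} [CommGroup C] (ϕ : ↥(orbStab S X x₀) →* C)
    (P : Subgroup Ω) (φ : P →* Ω) (hφ : φ ∈ F.Hom P) (x : P) :
    MonoidHom.transfer ϕ (leftHom S X ⟨φ x, (F.le_of_mem hφ).2 x⟩) =
      MonoidHom.transfer ϕ (leftHom S X ⟨x, (F.le_of_mem hφ).1 x.2⟩) := by
  have hreal : F.IsRealizedBy (leftHom S X) :=
    realized F X hgr ⟨x₀, hx₀⟩ (fun P ψ₁ ψ₂ h₁ h₂ K => by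
      have : Finite P := finite_of_le (F.le_of_mem h₁).1
      exact hst P ψ₁ ψ₂ h₁ h₂ K Nat.card_pos)
  obtain ⟨g, hg⟩ := (hreal.2 P (F.le_of_mem hφ).1 φ (F.le_of_mem hφ).2).1 hφ
  rw [hg x, map_mul, map_mul, map_inv, mul_comm, inv_mul_cancel_left]

theorem exists_phi_theta (F : FusionSystem S) {X : Type*} [MulAction (↥S × ↥S) X]
    (hgr : ∀ x : X, stabilizer (↥S × ↥S) x ∈ Gr F) (x₀ : X)
    {C : Type*} [CommGroup C] (θ : ↥S →* C) :
    ∃ ϕ : ↥(orbStab S X x₀) →* C, ∀ (h : ↥(orbStab S X x₀)) (s : ↥S),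
      ((h : ↥(autGrp S X)) : Equiv.Perm X) x₀ = ((1, s) : ↥S × ↥S) • x₀ →
        ϕ h = (θ s)⁻¹ := by
  obtain ⟨φ₀, hφ₀⟩ := exists_phi0 F hgr x₀
  refine ⟨(Abelianization.lift θ).comp φ₀, fun h s hs => ?_⟩
  rw [MonoidHom.comp_apply, hφ₀ h s hs, map_inv, Abelianization.lift_apply_of]

theorem smul_left_right {X : Type*} [MulAction (↥S × ↥S) X] (u a : ↥S) (x : X) :
    ((u, 1) : ↥S × ↥S) • ((1, a) : ↥S × ↥S) • x = ((1, a) : ↥S × ↥S) • ((u, 1) : ↥S × ↥S) • x := by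
  rw [← mul_smul, ← mul_smul]
  congr 1
  ext <;> simp

theorem conj_apply {X : Type*} [MulAction (↥S × ↥S) X] (x₀ : X) (γ : ↥(autGrp S X)) (u s : ↥S)
    (h : ((u, 1) : ↥S × ↥S) • ((γ : Equiv.Perm X) x₀) =
      ((1, s) : ↥S × ↥S) • ((γ : Equiv.Perm X) x₀)) :
    ((γ⁻¹ * leftHom S X u * γ : ↥(autGrp S X)) : Equiv.Perm X) x₀ = ((1, s) : ↥S × ↥S) • x₀ := by
  show ((γ⁻¹ : ↥(autGrp S X)) : Equiv.Perm X)
    ((leftHom S X u : Equiv.Perm X) ((γ : Equiv.Perm X) x₀)) = _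
  rw [leftHom_apply, h, mem_autGrp.1 (γ⁻¹).2]
  show ((1, s) : ↥S × ↥S) • ((γ : Equiv.Perm X)).symm ((γ : Equiv.Perm X) x₀) = _
  rw [Equiv.symm_apply_apply]

theorem conj_apply' {X : Type*} [MulAction (↥S × ↥S) X] (x₀ : X) (γ : ↥(autGrp S X)) (u s : ↥S)
    (h : ((γ⁻¹ * leftHom S X u * γ : ↥(autGrp S X)) : Equiv.Perm X) x₀ =
      ((1, s) : ↥S × ↥S) • x₀) :
    ((u, 1) : ↥S × ↥S) • ((γ : Equiv.Perm X) x₀) =
      ((1, s) : ↥S × ↥S) • ((γ : Equiv.Perm X) x₀) := by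
  have h' : ((γ : Equiv.Perm X))⁻¹
      ((leftHom S X u : Equiv.Perm X) ((γ : Equiv.Perm X) x₀)) = ((1, s) : ↥S × ↥S) • x₀ := h
  rw [Equiv.Perm.inv_eq_iff_eq, mem_autGrp.1 γ.2, leftHom_apply] at h'
  exact h'

theorem orbStab_index [Finite S] (F : FusionSystem S) (X : Type u) [Finite X]
    [MulAction (↥S × ↥S) X] (hgr : ∀ x : X, stabilizer (↥S × ↥S) x ∈ Gr F) (x₀ : X) :
    (orbStab S X x₀).index * Nat.card S = Nat.card X := by
  rw [Subgroup.index, ← Nat.card_prod]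
  refine Nat.card_congr (Equiv.ofBijective
    (fun qs : (↥(autGrp S X) ⧸ orbStab S X x₀) × ↥S =>
      ((1, qs.2) : ↥S × ↥S) • ((qs.1.out : ↥(autGrp S X)) : Equiv.Perm X) x₀) ⟨?_, ?_⟩)
  · rintro ⟨q, s⟩ ⟨q', s'⟩ h
    have h' : ((1, s) : ↥S × ↥S) • ((q.out : ↥(autGrp S X)) : Equiv.Perm X) x₀ =
        ((1, s') : ↥S × ↥S) • ((q'.out : ↥(autGrp S X)) : Equiv.Perm X) x₀ := h
    have hq : q = q' := by
      rw [← QuotientGroup.out_eq' q, ← QuotientGroup.out_eq' q', QuotientGroup.eq]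
      refine ⟨s'⁻¹ * s, ?_⟩
      show ((q.out : ↥(autGrp S X)) : Equiv.Perm X)⁻¹
        (((q'.out : ↥(autGrp S X)) : Equiv.Perm X) x₀) = _
      rw [Equiv.Perm.inv_eq_iff_eq, mem_autGrp.1 (q.out).2, ← smul_one_mul, h', smul_one_mul,
        inv_mul_cancel, smul_one_one]
    subst hq
    have hs : s = s' := free_right F hgr _ h'
    rw [hs]
  · intro y
    obtain ⟨g, s, hgs⟩ := exists_aut_move F hgr x₀ y
    obtain ⟨h, hh⟩ := QuotientGroup.mk_out_eq_mul (orbStab S X x₀) g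
    obtain ⟨s₁, hs₁⟩ := h.2
    refine ⟨(QuotientGroup.mk g, (s₁ * s)⁻¹), ?_⟩
    show ((1, (s₁ * s)⁻¹) : ↥S × ↥S) •
      (((QuotientGroup.mk g : ↥(autGrp S X) ⧸ orbStab S X x₀).out : ↥(autGrp S X)) :
        Equiv.Perm X) x₀ = y
    rw [hh]
    show ((1, (s₁ * s)⁻¹) : ↥S × ↥S) • (g : Equiv.Perm X)
      (((h : ↥(autGrp S X)) : Equiv.Perm X) x₀) = y
    have hone : (s₁ * s)⁻¹ * s₁ * s = 1 := by rw [mul_assoc]; exact inv_mul_cancel _
    rw [hs₁, mem_autGrp.1 g.2, hgs, smul_one_mul, smul_one_mul, hone, smul_one_one]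

end Cfsg.Agent.Helper27.Biset
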