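import Mathlib

set_option autoImplicit false

namespace Cfsg.Agent.Helper27.CI

section grp
variable {E : Type*} [Group E]

/-- Fixed points of an automorphism. -/
def fixSub (φ : MulAut E) : Subgroup E where
  carrier := {e | φ e = e}
  mul_mem' := by
    intro a b ha hb
    show φ (a * b) = a * b
    rw [map_mul, ha, hb]
  one_mem' := map_one φ
  inv_mem' := by
    intro a ha
    show φ a⁻¹ = a⁻¹
    rw [map_inv, ha]

theorem mem_fixSub {φ : MulAut E} {e : E} : e ∈ fixSub φ ↔ φ e = e := Iff.rfl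

theorem fixSub_conj (g φ : MulAut E) :
    fixSub (g * φ * g⁻¹) = (fixSub φ).map g.toMonoidHom := by
  ext e
  rw [mem_fixSub, Subgroup.mem_map]
  constructor
  · intro h
    refine ⟨g⁻¹ e, ?_, by simp⟩
    rw [mem_fixSub]
    have h2 : g⁻¹ ((g * φ * g⁻¹) e) = g⁻¹ e := by rw [h]
    simpa [MulAut.mul_apply] using h2
  · rintro ⟨y, hy, rfl⟩
    rw [mem_fixSub] at hy
    simp [MulAut.mul_apply, hy]

theorem index_fixSub_conj (g φ : MulAut E) :
    (fixSub (g * φ * g⁻¹)).index = (fixSub φ).index := by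
  rw [fixSub_conj]
  exact Subgroup.index_map_equiv (fixSub φ) g

/-- A `p`-element `c` of `G ≤ Aut(E)` generating a Sylow subgroup, with fixed points of index `p`
and acting trivially on its commutator. -/
structure Good (p : ℕ) (G : Subgroup (MulAut E)) (c : MulAut E) : Prop where
  mem : c ∈ G
  ne : c ≠ 1
  maxP : ∀ H : Subgroup (MulAut E), H ≤ G → IsPGroup p H → c ∈ H → H ≤ Subgroup.zpowers c
  idx : (fixSub c).index = p
  fix : ∀ e, c (e⁻¹ * c e) = e⁻¹ * c e

theorem Good.conj {p : ℕ} {G : Subgroup (MulAut E)} {c : MulAut E} (hc : Good p G c)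
    {g : MulAut E} (hg : g ∈ G) : Good p G (g * c * g⁻¹) where
  mem := G.mul_mem (G.mul_mem hg hc.mem) (G.inv_mem hg)
  ne := by
    intro h
    apply hc.ne
    have h2 : g⁻¹ * (g * c * g⁻¹) * g = g⁻¹ * 1 * g := by rw [h]
    simpa [mul_assoc] using h2
  maxP := by
    intro H hHG hHp hcH x hx
    have h1 : g⁻¹ * x * g ∈ Subgroup.zpowers c := by
      refine hc.maxP (H.map (MulAut.conj g⁻¹).toMonoidHom) ?_ (hHp.map _) ?_ ?_
      · rintro _ ⟨y, hy, rfl⟩
        have e1 : (MulAut.conj g⁻¹).toMonoidHom y = g⁻¹ * y * g := by simp [MulAut.conj_apply]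
        rw [e1]
        exact G.mul_mem (G.mul_mem (G.inv_mem hg) (hHG hy)) hg
      · refine ⟨g * c * g⁻¹, hcH, ?_⟩
        simp [MulAut.conj_apply, mul_assoc]
      · exact ⟨x, hx, by simp [MulAut.conj_apply]⟩
    obtain ⟨k, hk⟩ := Subgroup.mem_zpowers_iff.1 h1
    refine Subgroup.mem_zpowers_iff.2 ⟨k, ?_⟩
    rw [conj_zpow, hk]
    group
  idx := by rw [index_fixSub_conj]; exact hc.idx
  fix := by
    intro e
    have h := hc.fix (g⁻¹ e)
    simp only [MulAut.mul_apply, map_mul, map_inv, MulAut.inv_apply_self, MulAut.apply_inv_self]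
    have h2 := congrArg g h
    simp only [map_mul, map_inv, MulAut.apply_inv_self] at h2
    exact h2

end grp

section comm
variable {E : Type*} [CommGroup E]

/-- The commutator homomorphism `e ↦ e⁻¹ φ(e)`. -/
def kap (φ : MulAut E) : E →* E where
  toFun e := e⁻¹ * φ e
  map_one' := by simp
  map_mul' := by
    intro a b
    rw [map_mul]
    apply Additive.ofMul.injective
    simp only [ofMul_mul, ofMul_inv]
    abel

theorem kap_apply (φ : MulAut E) (e : E) : kap φ e = e⁻¹ * φ e := rfl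

theorem apply_eq (φ : MulAut E) (e : E) : φ e = e * kap φ e := by
  rw [kap_apply, mul_inv_cancel_left]

theorem kap_eq_one {φ : MulAut E} {e : E} : kap φ e = 1 ↔ φ e = e := by
  rw [kap_apply, inv_mul_eq_one]; exact eq_comm

theorem kap_conj' (g φ : MulAut E) (e : E) : kap (g * φ * g⁻¹) e = g (kap φ (g⁻¹ e)) := by
  simp [kap_apply, MulAut.mul_apply]

theorem card_range_kap (φ : MulAut E) : Nat.card (kap φ).range = (fixSub φ).index := by
  have h : (kap φ).ker = fixSub φ := by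
    ext e
    rw [MonoidHom.mem_ker, kap_eq_one, mem_fixSub]
  rw [← h, Subgroup.index_ker]

theorem pow_apply_of_fix (φ : MulAut E) (hfix : ∀ e, φ (kap φ e) = kap φ e) (n : ℕ) (e : E) :
    (φ ^ n) e = e * (kap φ e) ^ n := by
  induction n with
  | zero => simp
  | succ n ih =>
    rw [pow_succ', MulAut.mul_apply, ih, map_mul, map_pow, hfix, apply_eq φ e, pow_succ',
      mul_assoc]

variable {p : ℕ} {G : Subgroup (MulAut E)}

theorem Good.fix' {c : MulAut E} (hc : Good p G c) (e : E) : c (kap c e) = kap c e := hc.fix e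

theorem Good.card {c : MulAut E} (hc : Good p G c) : Nat.card (kap c).range = p := by
  rw [card_range_kap, hc.idx]

theorem pow_card_range {c : MulAut E} (hc : Good p G c) {l : E} (hl : l ∈ (kap c).range) :
    l ^ p = 1 := by
  have h : (⟨l, hl⟩ : (kap c).range) ^ Nat.card (kap c).range = 1 := pow_card_eq_one'
  rw [hc.card] at h
  have h2 := congrArg Subtype.val h
  simpa using h2

/-- The stability group of `E ≥ L ≥ 1`. -/
def stab (L : Subgroup E) : Subgroup (MulAut E) where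
  carrier := {φ | (∀ e, e⁻¹ * φ e ∈ L) ∧ ∀ l ∈ L, φ l = l}
  mul_mem' := by
    rintro φ ψ ⟨h1, h2⟩ ⟨h3, h4⟩
    refine ⟨fun e => ?_, fun l hl => ?_⟩
    · have e1 : e⁻¹ * (φ * ψ) e = (e⁻¹ * ψ e) * ((ψ e)⁻¹ * φ (ψ e)) := by
        rw [MulAut.mul_apply]; group
      rw [e1]; exact L.mul_mem (h3 e) (h1 _)
    · rw [MulAut.mul_apply, h4 l hl, h2 l hl]
  one_mem' := ⟨fun e => by simp, fun l _ => rfl⟩
  inv_mem' := by
    rintro φ ⟨h1, h2⟩
    refine ⟨fun e => ?_, fun l hl => ?_⟩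
    · have h := h1 (φ⁻¹ e)
      rw [MulAut.apply_inv_self] at h
      have e1 : e⁻¹ * φ⁻¹ e = ((φ⁻¹ e)⁻¹ * e)⁻¹ := by group
      rw [e1]; exact L.inv_mem h
    · calc φ⁻¹ l = φ⁻¹ (φ l) := by rw [h2 l hl]
        _ = l := MulAut.inv_apply_self _ _ _

theorem stab_pow {L : Subgroup E} (hL : ∀ l ∈ L, l ^ p = 1) {φ : MulAut E} (hφ : φ ∈ stab L) :
    φ ^ p = 1 := by
  obtain ⟨h1, h2⟩ := hφ
  ext e
  have h3 : (kap φ e) ^ p = 1 := hL _ (h1 e)
  rw [pow_apply_of_fix φ (fun e => h2 _ (h1 e)) p e, h3]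
  simp

theorem isPGroup_of_pow {H : Subgroup (MulAut E)} (h : ∀ φ ∈ H, φ ^ p = 1) : IsPGroup p H := by
  rintro ⟨φ, hφ⟩
  refine ⟨1, ?_⟩
  apply Subtype.ext
  simp [h φ hφ]

theorem Good.pow_p {c : MulAut E} (hc : Good p G c) : c ^ p = 1 := by
  apply stab_pow (L := (kap c).range) (fun l hl => pow_card_range hc hl)
  exact ⟨fun e => ⟨e, rfl⟩, fun l hl => by obtain ⟨e, rfl⟩ := hl; exact hc.fix e⟩

theorem Good.isPGroup {c : MulAut E} (hc : Good p G c) : IsPGroup p (Subgroup.zpowers c) := by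
  apply isPGroup_of_pow
  intro φ hφ
  obtain ⟨k, rfl⟩ := Subgroup.mem_zpowers_iff.1 hφ
  rw [← zpow_natCast, ← zpow_mul, mul_comm, zpow_mul, zpow_natCast, hc.pow_p, one_zpow]

theorem mem_of_normalizes {x y : MulAut E} (hx : Good p G x) (hy : y ∈ G)
    (hyp : IsPGroup p (Subgroup.zpowers y)) (h1 : y * x * y⁻¹ ∈ Subgroup.zpowers x)
    (h2 : y⁻¹ * x * y ∈ Subgroup.zpowers x) : y ∈ Subgroup.zpowers x := by
  have hnorm : Subgroup.zpowers y ≤ Subgroup.normalizer (Subgroup.zpowers x : Set (MulAut E)) := by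
    rw [Subgroup.zpowers_le, Subgroup.mem_normalizer_iff]
    intro h
    constructor
    · intro hh
      obtain ⟨k, rfl⟩ := Subgroup.mem_zpowers_iff.1 hh
      rw [← conj_zpow]
      exact Subgroup.zpow_mem _ h1 k
    · intro hh
      obtain ⟨k, hk⟩ := Subgroup.mem_zpowers_iff.1 hh
      have e1 : h = (y⁻¹ * x * y) ^ k := by
        have e2 : (y⁻¹ * x * y) ^ k = y⁻¹ * x ^ k * y := by
          have := conj_zpow (a := y⁻¹) (b := x) (i := k)
          rw [inv_inv] at this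
          exact this
        rw [e2, hk]; group
      rw [e1]
      exact Subgroup.zpow_mem _ h2 k
  have hp := IsPGroup.to_sup_of_normal_left' hx.isPGroup hyp hnorm
  exact hx.maxP _ (sup_le (Subgroup.zpowers_le.2 hx.mem) (Subgroup.zpowers_le.2 hy)) hp
    (le_sup_left (a := Subgroup.zpowers x) (Subgroup.mem_zpowers x))
    (le_sup_right (a := Subgroup.zpowers x) (Subgroup.mem_zpowers y))

theorem conj_mem_stab {L : Subgroup E} {x u : MulAut E} (hx : x ∈ stab L)
    (hu : ∀ l ∈ L, u l = l) (hu' : ∀ l ∈ L, u⁻¹ l = l) : u * x * u⁻¹ ∈ stab L := by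
  refine ⟨fun e => ?_, fun l hl => ?_⟩
  · have e1 : e⁻¹ * (u * x * u⁻¹) e = u ((u⁻¹ e)⁻¹ * x (u⁻¹ e)) := by
      simp [MulAut.mul_apply]
    rw [e1, hu _ (hx.1 _)]
    exact hx.1 _
  · simp only [MulAut.mul_apply]
    rw [hu' l hl, hx.2 l hl, hu l hl]

theorem lemX {x y : MulAut E} (hx : Good p G x) (hy : y ∈ G)
    (hyp : IsPGroup p (Subgroup.zpowers y)) (hfix : ∀ e, y (kap x e) = kap x e) :
    y ∈ Subgroup.zpowers x := by
  have hLp : ∀ l ∈ (kap x).range, l ^ p = 1 := fun l hl => pow_card_range hx hl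
  have hxs : x ∈ stab (kap x).range :=
    ⟨fun e => ⟨e, rfl⟩, fun l hl => by obtain ⟨e, rfl⟩ := hl; exact hx.fix e⟩
  have hfix' : ∀ l ∈ (kap x).range, y l = l := fun l hl => by
    obtain ⟨e, rfl⟩ := hl; exact hfix e
  have hyinv : ∀ l ∈ (kap x).range, y⁻¹ l = l := fun l hl => by
    calc y⁻¹ l = y⁻¹ (y l) := by rw [hfix' l hl]
      _ = l := MulAut.inv_apply_self _ _ _
  have hH1 : stab (kap x).range ⊓ G ≤ Subgroup.zpowers x :=
    hx.maxP _ inf_le_right (isPGroup_of_pow (fun φ hφ => stab_pow hLp hφ.1)) ⟨hxs, hx.mem⟩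
  have hys : y * x * y⁻¹ ∈ stab (kap x).range := conj_mem_stab hxs hfix' hyinv
  have hys' : y⁻¹ * x * y ∈ stab (kap x).range := by
    have := conj_mem_stab (u := y⁻¹) hxs hyinv (by rw [inv_inv]; exact hfix')
    rwa [inv_inv] at this
  exact mem_of_normalizes hx hy hyp
    (hH1 ⟨hys, G.mul_mem (G.mul_mem hy hx.mem) (G.inv_mem hy)⟩)
    (hH1 ⟨hys', G.mul_mem (G.mul_mem (G.inv_mem hy) hx.mem) hy⟩)

theorem good_commute {x y : MulAut E} (hx : Good p G x) (hy : Good p G y)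
    (hc : x * y = y * x) : y ∈ Subgroup.zpowers x := by
  apply mem_of_normalizes hx hy.mem hy.isPGroup
  · have : y * x * y⁻¹ = x := by rw [← hc]; group
    rw [this]; exact Subgroup.mem_zpowers x
  · have : y⁻¹ * x * y = x := by rw [mul_assoc, hc]; group
    rw [this]; exact Subgroup.mem_zpowers x

theorem not_mem_symm {x y : MulAut E} (hx : Good p G x) (hy : Good p G y)
    (hne : y ∉ Subgroup.zpowers x) : x ∉ Subgroup.zpowers y := by
  intro h
  apply hne
  exact hx.maxP (Subgroup.zpowers y) (Subgroup.zpowers_le.2 hy.mem) hy.isPGroup h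
    (Subgroup.mem_zpowers y)

variable [Fact p.Prime] [Finite E]

theorem gen_of_prime_card {L : Subgroup E} (hL : Nat.card L = p) {l : E} (hl : l ∈ L)
    (hl1 : l ≠ 1) : ∀ x ∈ L, ∃ k : ℕ, x = l ^ k := by
  have hle : Subgroup.zpowers l ≤ L := Subgroup.zpowers_le.2 hl
  have hz : Subgroup.zpowers l = L := by
    apply Subgroup.eq_of_le_of_card_ge hle
    have hd : Nat.card (Subgroup.zpowers l) ∣ p := hL ▸ Subgroup.card_dvd_of_le hle
    rcases (Nat.dvd_prime Fact.out).1 hd with h1 | h1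
    · exfalso; apply hl1
      have := Subgroup.eq_bot_of_card_eq _ h1
      rwa [Subgroup.zpowers_eq_bot] at this
    · rw [hL, h1]
  intro x hx
  rw [← hz] at hx
  obtain ⟨k, hk⟩ := mem_powers_iff_mem_zpowers.2 hx
  exact ⟨k, hk.symm⟩

theorem exists_ne_one {x : MulAut E} (hx : Good p G x) : ∃ l ∈ (kap x).range, l ≠ 1 := by
  by_contra h
  push_neg at h
  have hb : (kap x).range = ⊥ := (Subgroup.eq_bot_iff_forall _).2 h
  have h2 := hx.card
  rw [hb, Subgroup.card_bot] at h2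
  exact (Fact.out : p.Prime).one_lt.ne h2

theorem disj {x y : MulAut E} (hx : Good p G x) (hy : Good p G y)
    (hne : y ∉ Subgroup.zpowers x) {l : E} (hl : l ∈ (kap x).range) (hyl : y l = l) : l = 1 := by
  by_contra hl1
  apply hne
  apply lemX hx hy.mem hy.isPGroup
  intro e
  obtain ⟨k, hk⟩ := gen_of_prime_card hx.card hl hl1 (kap x e) ⟨e, rfl⟩
  rw [hk, map_pow, hyl]

theorem exists_shift {x y : MulAut E} (hx : Good p G x) (hy : Good p G y)
    (hne : y ∉ Subgroup.zpowers x) (e : E) :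
    ∃ l ∈ (kap x).range, y (e * l⁻¹) = e * l⁻¹ := by
  obtain ⟨l₀, hl₀, hl₀1⟩ := exists_ne_one hx
  have h1 : kap y l₀ ≠ 1 := fun h => hl₀1 (disj hx hy hne hl₀ (kap_eq_one.1 h))
  obtain ⟨k, hk⟩ := gen_of_prime_card hy.card ⟨l₀, rfl⟩ h1 (kap y e) ⟨e, rfl⟩
  refine ⟨l₀ ^ k, Subgroup.pow_mem _ hl₀ k, ?_⟩
  rw [← kap_eq_one, map_mul, map_inv, map_pow, hk, mul_inv_cancel]

theorem decomp_fix {x y : MulAut E} (hx : Good p G x) (hy : Good p G y)
    (hne : y ∉ Subgroup.zpowers x) {ζ : E} (hζ : x ζ = ζ) :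
    ∃ m l, x m = m ∧ y m = m ∧ l ∈ (kap x).range ∧ ζ = m * l := by
  obtain ⟨l, hl, hyl⟩ := exists_shift hx hy hne ζ
  refine ⟨ζ * l⁻¹, l, ?_, hyl, hl, by simp⟩
  obtain ⟨e, rfl⟩ := hl
  rw [map_mul, map_inv, hx.fix', hζ]

theorem decomp_all {x y : MulAut E} (hx : Good p G x) (hy : Good p G y)
    (hne : y ∉ Subgroup.zpowers x) (e : E) :
    ∃ m l₁ l₂, x m = m ∧ y m = m ∧ l₁ ∈ (kap x).range ∧ l₂ ∈ (kap y).range ∧
      e = m * l₁ * l₂ := by
  obtain ⟨l₂, hl₂, h⟩ := exists_shift hy hx (not_mem_symm hx hy hne) e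
  obtain ⟨m, l₁, hm1, hm2, hl₁, hd⟩ := decomp_fix hx hy hne h
  exact ⟨m, l₁, l₂, hm1, hm2, hl₁, hl₂, by rw [← hd]; simp⟩

end comm

end Cfsg.Agent.Helper27.CI
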