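import Cfsg.Agent.Helper27.CIa

set_option autoImplicit false

namespace Cfsg.Agent.Helper27.CI

section comm
variable {E : Type*} [CommGroup E] {p : ℕ} {G : Subgroup (MulAut E)} [Fact p.Prime] [Finite E]

theorem exists_h {x y : MulAut E} (hx : Good p G x) (hy : Good p G y)
    (hne : y ∉ Subgroup.zpowers x) :
    ∃ h ∈ G, h * x = x * h ∧ (∀ m, x m = m → y m = m → h m = m) ∧
      ∀ l ∈ (kap x).range, h l = l⁻¹ := by
  have hne' := not_mem_symm hx hy hne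
  obtain ⟨z, hz, hz1⟩ := exists_ne_one hx
  have hxz : x z = z := by obtain ⟨e, rfl⟩ := hz; exact hx.fix e
  obtain ⟨z', hz'⟩ : ∃ z' : E, z' = (kap y z)⁻¹ := ⟨_, rfl⟩
  have hz'L : z' ∈ (kap y).range := by rw [hz']; exact Subgroup.inv_mem _ ⟨z, rfl⟩
  have hyz' : y z' = z' := by obtain ⟨e, he⟩ := hz'L; rw [← he]; exact hy.fix e
  have hyz : y z = z * z'⁻¹ := by rw [hz', inv_inv]; exact apply_eq y z
  have hz'1 : z' ≠ 1 := by
    intro h
    have h2 : kap y z = 1 := by rw [hz'] at h; exact inv_eq_one.1 h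
    exact hz1 (disj hx hy hne hz (kap_eq_one.1 h2))
  have hk1 : kap x z' ≠ 1 := fun h => hz'1 (disj hy hx hne' hz'L (kap_eq_one.1 h))
  obtain ⟨i, hi⟩ := gen_of_prime_card hx.card ⟨z', rfl⟩ hk1 z hz
  obtain ⟨x₀, hx₀⟩ : ∃ x₀ : MulAut E, x₀ = x ^ i := ⟨_, rfl⟩
  have hx₀z' : x₀ z' = z' * z := by rw [hx₀, pow_apply_of_fix x hx.fix', ← hi]
  have hx₀fix : ∀ m, x m = m → x₀ m = m := by
    intro m hm
    rw [hx₀, pow_apply_of_fix x hx.fix', kap_eq_one.2 hm, one_pow, mul_one]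
  have hx₀z : x₀ z = z := hx₀fix z hxz
  obtain ⟨w, hw⟩ : ∃ w : MulAut E, w = x₀ * y * x₀ := ⟨_, rfl⟩
  have hwz : w z = z'⁻¹ := by
    rw [hw, MulAut.mul_apply, MulAut.mul_apply, hx₀z, hyz, map_mul, map_inv, hx₀z, hx₀z']
    apply Additive.ofMul.injective
    simp only [ofMul_mul, ofMul_inv]
    abel
  have hwz' : w z' = z := by
    rw [hw, MulAut.mul_apply, MulAut.mul_apply, hx₀z', map_mul, hyz', hyz, map_mul, map_mul,
      map_inv, hx₀z', hx₀z]
    apply Additive.ofMul.injective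
    simp only [ofMul_mul, ofMul_inv]
    abel
  have hwG : w ∈ G := by
    rw [hw, hx₀]
    exact G.mul_mem (G.mul_mem (G.pow_mem hx.mem i) hy.mem) (G.pow_mem hx.mem i)
  have hhz : (w * w) z = z⁻¹ := by rw [MulAut.mul_apply, hwz, map_inv, hwz']
  have hhz' : (w * w) z' = z'⁻¹ := by rw [MulAut.mul_apply, hwz', hwz]
  have hhm : ∀ m, x m = m → y m = m → (w * w) m = m := by
    intro m h1 h2
    have h3 : w m = m := by
      rw [hw, MulAut.mul_apply, MulAut.mul_apply, hx₀fix m h1, h2, hx₀fix m h1]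
    rw [MulAut.mul_apply, h3, h3]
  have hhL : ∀ l ∈ (kap x).range, (w * w) l = l⁻¹ := by
    intro l hl
    obtain ⟨k, rfl⟩ := gen_of_prime_card hx.card hz hz1 l hl
    rw [map_pow, hhz, inv_pow]
  have hhL' : ∀ l ∈ (kap y).range, (w * w) l = l⁻¹ := by
    intro l hl
    obtain ⟨k, rfl⟩ := gen_of_prime_card hy.card hz'L hz'1 l hl
    rw [map_pow, hhz', inv_pow]
  refine ⟨w * w, G.mul_mem hwG hwG, ?_, hhm, hhL⟩
  ext e
  obtain ⟨m, l₁, l₂, hm1, hm2, hl₁, hl₂, rfl⟩ := decomp_all hx hy hne e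
  have hxl₁ : x l₁ = l₁ := by obtain ⟨e, rfl⟩ := hl₁; exact hx.fix e
  have hk : (w * w) (kap x l₂) = (kap x l₂)⁻¹ := hhL _ ⟨l₂, rfl⟩
  have hx3 : x (m * l₁ * l₂) = m * l₁ * (l₂ * kap x l₂) := by
    rw [map_mul, map_mul, hm1, hxl₁, ← apply_eq x l₂]
  have e1 : (w * w * x) (m * l₁ * l₂) = m * l₁⁻¹ * (l₂⁻¹ * (kap x l₂)⁻¹) := by
    rw [MulAut.mul_apply _ (w * w) x, hx3]
    have h5 : (w * w) (m * l₁ * (l₂ * kap x l₂)) =
        (w * w) m * (w * w) l₁ * ((w * w) l₂ * (w * w) (kap x l₂)) := by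
      simp only [map_mul]
    rw [h5, hhm m hm1 hm2, hhL l₁ hl₁, hhL' l₂ hl₂, hk]
  have hw3 : (w * w) (m * l₁ * l₂) = m * l₁⁻¹ * l₂⁻¹ := by
    have h5 : (w * w) (m * l₁ * l₂) = (w * w) m * (w * w) l₁ * (w * w) l₂ := by
      simp only [map_mul]
    rw [h5, hhm m hm1 hm2, hhL l₁ hl₁, hhL' l₂ hl₂]
  have e2 : (x * (w * w)) (m * l₁ * l₂) = m * l₁⁻¹ * (l₂ * kap x l₂)⁻¹ := by
    rw [MulAut.mul_apply _ x (w * w), hw3]
    have h5 : x (m * l₁⁻¹ * l₂⁻¹) = x m * (x l₁)⁻¹ * (x l₂)⁻¹ := by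
      simp only [map_mul, map_inv]
    rw [h5, hm1, hxl₁, apply_eq x l₂]
  rw [e1, e2]
  apply Additive.ofMul.injective
  simp only [ofMul_mul, ofMul_inv]
  abel

theorem decomp_pow {x y : MulAut E} (hx : Good p G x) (hy : Good p G y)
    (hne : y ∉ Subgroup.zpowers x) (e : E) :
    ∃ m w, x m = m ∧ y m = m ∧ e = m * w ∧ w ^ p = 1 := by
  obtain ⟨m, l₁, l₂, hm1, hm2, hl₁, hl₂, rfl⟩ := decomp_all hx hy hne e
  exact ⟨m, l₁ * l₂, hm1, hm2, by rw [mul_assoc],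
    by rw [mul_pow, pow_card_range hx hl₁, pow_card_range hy hl₂, one_mul]⟩

end comm

section two
variable {E : Type*} [CommGroup E] {G : Subgroup (MulAut E)} [Finite E]

theorem two_unique {x : MulAut E} (hx : Good 2 G x) {l l' : E} (hl : l ∈ (kap x).range)
    (hl' : l' ∈ (kap x).range) (h1 : l ≠ 1) (h1' : l' ≠ 1) : l = l' := by
  obtain ⟨k, hk⟩ := gen_of_prime_card hx.card hl h1 l' hl'
  have h2 : l ^ 2 = 1 := pow_card_range hx hl
  rcases Nat.even_or_odd k with ⟨j, hj⟩ | ⟨j, hj⟩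
  · exfalso; apply h1'
    rw [hk, hj, ← two_mul, pow_mul, h2, one_pow]
  · rw [hk, hj, pow_succ, pow_mul, h2, one_pow, one_mul]

theorem two_sq {x : MulAut E} (hx : Good 2 G x) : x * x = 1 := by
  have := hx.pow_p; rwa [pow_two] at this

theorem two_inv {x : MulAut E} (hx : Good 2 G x) : x⁻¹ = x :=
  inv_eq_of_mul_eq_one_left (two_sq hx)

theorem two_not_mem {x y : MulAut E} (hx : Good 2 G x) (hy : Good 2 G y) (hne : y ≠ x) :
    y ∉ Subgroup.zpowers x := by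
  intro h
  obtain ⟨k, hk⟩ := mem_powers_iff_mem_zpowers.2 h
  have h2 : x ^ 2 = 1 := hx.pow_p
  rcases Nat.even_or_odd k with ⟨j, hj⟩ | ⟨j, hj⟩
  · apply hy.ne
    show y = 1
    rw [← hk]
    show x ^ k = 1
    rw [hj, ← two_mul, pow_mul, h2, one_pow]
  · apply hne
    rw [← hk]
    show x ^ k = x
    rw [hj, pow_succ, pow_mul, h2, one_pow, one_mul]

theorem kap_two {x y : MulAut E} (hx : Good 2 G x) (hy : Good 2 G y) (hne : y ≠ x) {l d : E}
    (hl : l ∈ (kap y).range) (hl1 : l ≠ 1) (hd : d ∈ (kap x).range) (hd1 : d ≠ 1) :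
    x l = l * d := by
  have h1 : kap x l ≠ 1 := fun h =>
    hl1 (disj hy hx (two_not_mem hy hx (Ne.symm hne)) hl (kap_eq_one.1 h))
  rw [apply_eq x l, two_unique hx ⟨l, rfl⟩ hd h1 hd1]

theorem comm_of_fix (u v : MulAut E) (h1 : ∀ e, u (kap v e) = kap v e)
    (h2 : ∀ e, v (kap u e) = kap u e) : u * v = v * u := by
  ext e
  rw [MulAut.mul_apply, MulAut.mul_apply, apply_eq v e, map_mul, h1, apply_eq u e, map_mul, h2,
    apply_eq v e]
  apply Additive.ofMul.injective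
  simp only [ofMul_mul]
  abel

theorem triple {x₁ x₂ x₃ : MulAut E} (h₁ : Good 2 G x₁) (h₂ : Good 2 G x₂) (h₃ : Good 2 G x₃)
    (n12 : x₁ ≠ x₂) (n13 : x₁ ≠ x₃) (n23 : x₂ ≠ x₃) : x₃ * x₂ * x₃⁻¹ = x₁ := by
  obtain ⟨d₁, hd₁, hd₁1⟩ := exists_ne_one h₁
  obtain ⟨d₂, hd₂, hd₂1⟩ := exists_ne_one h₂
  obtain ⟨d₃, hd₃, hd₃1⟩ := exists_ne_one h₃
  have hy : Good 2 G (x₃ * x₂ * x₃⁻¹) := h₂.conj h₃.mem
  have sq1 : d₁ * d₁ = 1 := by have := pow_card_range h₁ hd₁; rwa [pow_two] at this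
  have sq2 : d₂ * d₂ = 1 := by have := pow_card_range h₂ hd₂; rwa [pow_two] at this
  have sq3 : d₃ * d₃ = 1 := by have := pow_card_range h₃ hd₃; rwa [pow_two] at this
  have x3d3 : x₃ d₃ = d₃ := by obtain ⟨e, rfl⟩ := hd₃; exact h₃.fix e
  have x3d1 : x₃ d₁ = d₁ * d₃ := kap_two h₃ h₁ n13 hd₁ hd₁1 hd₃ hd₃1
  have x1d3 : x₁ d₃ = d₃ * d₁ := kap_two h₁ h₃ (Ne.symm n13) hd₃ hd₃1 hd₁ hd₁1
  have x2d1 : x₂ d₁ = d₁ * d₂ := kap_two h₂ h₁ n12 hd₁ hd₁1 hd₂ hd₂1
  have x2d3 : x₂ d₃ = d₃ * d₂ := kap_two h₂ h₃ (Ne.symm n23) hd₃ hd₃1 hd₂ hd₂1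
  have hcomm : x₁ * (x₃ * x₂ * x₃⁻¹) = (x₃ * x₂ * x₃⁻¹) * x₁ := by
    apply comm_of_fix
    · intro e
      rw [kap_conj']
      by_cases hl : kap x₂ (x₃⁻¹ e) = 1
      · rw [hl, map_one, map_one]
      · have hlL : kap x₂ (x₃⁻¹ e) ∈ (kap x₂).range := ⟨_, rfl⟩
        generalize kap x₂ (x₃⁻¹ e) = l at hl hlL
        have a1 : x₃ l = l * d₃ := kap_two h₃ h₂ n23 hlL hl hd₃ hd₃1
        have a2 : x₁ l = l * d₁ := kap_two h₁ h₂ (Ne.symm n12) hlL hl hd₁ hd₁1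
        rw [a1, map_mul, a2, x1d3]
        calc l * d₁ * (d₃ * d₁) = l * d₃ * (d₁ * d₁) := by
              apply Additive.ofMul.injective
              simp only [ofMul_mul]
              abel
          _ = l * d₃ := by rw [sq1, mul_one]
    · intro e
      by_cases hl : kap x₁ e = 1
      · rw [hl, map_one]
      · have hlL : kap x₁ e ∈ (kap x₁).range := ⟨_, rfl⟩
        have h5 : kap x₁ e = d₁ := two_unique h₁ hlL hd₁ hl hd₁1
        rw [h5]
        simp only [MulAut.mul_apply]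
        rw [two_inv h₃, x3d1, map_mul, x2d1, x2d3, map_mul, map_mul, map_mul, x3d1, x3d3]
        have x3d2 : x₃ d₂ = d₂ * d₃ := kap_two h₃ h₂ n23 hd₂ hd₂1 hd₃ hd₃1
        rw [x3d2]
        calc d₁ * d₃ * (d₂ * d₃) * (d₃ * (d₂ * d₃)) = d₁ * (d₂ * d₂) * (d₃ * d₃) * (d₃ * d₃) := by
              apply Additive.ofMul.injective
              simp only [ofMul_mul]
              abel
          _ = d₁ := by rw [sq2, sq3]; simp
  by_contra hne
  exact two_not_mem h₁ hy hne (good_commute h₁ hy hcomm)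

theorem class_two {x y w : MulAut E} (hx : Good 2 G x) (hy : Good 2 G y) (hw : Good 2 G w)
    (hne : x ≠ y) : w = x ∨ w = y ∨ w = x * y * x⁻¹ := by
  by_cases h1 : w = x
  · exact Or.inl h1
  by_cases h2 : w = y
  · exact Or.inr (Or.inl h2)
  exact Or.inr (Or.inr (triple hw hy hx h2 h1 (Ne.symm hne)).symm)

theorem braid_two {x y : MulAut E} (hx : Good 2 G x) (hy : Good 2 G y) (hne : x ≠ y) :
    y * x * y⁻¹ = x * y * x⁻¹ := by
  have hw : Good 2 G (y * x * y⁻¹) := hx.conj hy.mem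
  rcases class_two hx hy hw hne with h | h | h
  · exfalso
    have hc : x * y = y * x := by
      calc x * y = (y * x * y⁻¹) * y := by rw [h]
        _ = y * x := by group
    exact two_not_mem hx hy (Ne.symm hne) (good_commute hx hy hc)
  · exfalso; apply hne
    have e1 : x = y⁻¹ * (y * x * y⁻¹) * y := by group
    rw [e1, h]; group
  · exact h

theorem decomp_two {x y : MulAut E} (hx : Good 2 G x) (hy : Good 2 G y) (hne : x ≠ y)
    {g : MulAut E} (hg : g ∈ G) :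
    ∃ l n, g = l * n ∧ n ∈ G ∧ n * x = x * n ∧ (l = 1 ∨ l = y ∨ l = x * y) := by
  have hw := hx.conj hg
  have hb0 := braid_two hx hy hne
  have hb : y * x * y = x * y * x := by
    rw [two_inv hx, two_inv hy] at hb0; exact hb0
  rcases class_two hx hy hw hne with h | h | h
  · refine ⟨1, g, by simp, hg, ?_, Or.inl rfl⟩
    calc g * x = (g * x * g⁻¹) * g := by group
      _ = x * g := by rw [h]
  · refine ⟨x * y, (x * y)⁻¹ * g, by group, G.mul_mem (G.inv_mem (G.mul_mem hx.mem hy.mem)) hg,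
      ?_, Or.inr (Or.inr rfl)⟩
    calc (x * y)⁻¹ * g * x = (x * y)⁻¹ * (g * x * g⁻¹) * g := by group
      _ = (x * y)⁻¹ * y * g := by rw [h]
      _ = y * x * y * g := by rw [mul_inv_rev, two_inv hx, two_inv hy]
      _ = x * y * x * g := by rw [hb]
      _ = x * ((x * y)⁻¹ * g) := by rw [mul_inv_rev, two_inv hx, two_inv hy]; group
  · refine ⟨y, y⁻¹ * g, by group, G.mul_mem (G.inv_mem hy.mem) hg, ?_, Or.inr (Or.inl rfl)⟩
    calc y⁻¹ * g * x = y⁻¹ * (g * x * g⁻¹) * g := by group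
      _ = y⁻¹ * (y * x * y⁻¹) * g := by rw [h, ← hb0]
      _ = x * (y⁻¹ * g) := by group

theorem two_main {x y : MulAut E} (hx : Good 2 G x) (hy : Good 2 G y) (hne : x ≠ y) :
    ∃ a : E, x a ≠ a ∧ a * a = 1 ∧
      (∀ g ∈ G, ∀ m, x m = m → y m = m → x (g m) = g m ∧ y (g m) = g m) ∧
      (∀ g ∈ G, ∃ l n, g = l * n ∧ n ∈ G ∧ n * x = x * n ∧
        (∀ m, x m = m → y m = m → l m = m) ∧
        ∀ e, ∃ e', e⁻¹ * l e = e'⁻¹ * x e' ∨ e⁻¹ * l e = e'⁻¹ * x e' * a) := by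
  have hnm : y ∉ Subgroup.zpowers x := two_not_mem hx hy (Ne.symm hne)
  obtain ⟨a, ha, ha1⟩ := exists_ne_one hy
  have hxa : x a ≠ a := fun h => ha1 (disj hy hx (not_mem_symm hx hy hnm) ha h)
  have hasq : a * a = 1 := by have := pow_card_range hy ha; rwa [pow_two] at this
  refine ⟨a, hxa, hasq, ?_, ?_⟩
  · intro g hg m hm1 hm2
    have key : ∀ w, Good 2 G w → w m = m := by
      intro w hw
      rcases class_two hx hy hw hne with h | h | h
      · rw [h]; exact hm1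
      · rw [h]; exact hm2
      · rw [h, MulAut.mul_apply, MulAut.mul_apply, two_inv hx, hm1, hm2, hm1]
    have h1 := key _ (hx.conj (G.inv_mem hg))
    have h2 := key _ (hy.conj (G.inv_mem hg))
    simp only [MulAut.mul_apply, inv_inv] at h1 h2
    constructor
    · have := congrArg g h1; simpa using this
    · have := congrArg g h2; simpa using this
  · intro g hg
    obtain ⟨l, n, hgl, hn, hnx, hl⟩ := decomp_two hx hy hne hg
    refine ⟨l, n, hgl, hn, hnx, ?_, ?_⟩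
    · intro m hm1 hm2
      rcases hl with rfl | rfl | rfl
      · rfl
      · exact hm2
      · rw [MulAut.mul_apply, hm2, hm1]
    · intro e
      have hky : kap y e = 1 ∨ kap y e = a := by
        by_cases h : kap y e = 1
        · exact Or.inl h
        · exact Or.inr (two_unique hy ⟨e, rfl⟩ ha h ha1)
      rcases hl with rfl | rfl | rfl
      · exact ⟨1, Or.inl (by simp)⟩
      · rcases hky with h | h
        · exact ⟨1, Or.inl (by rw [← kap_apply, h]; simp)⟩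
        · exact ⟨1, Or.inr (by rw [← kap_apply, h]; simp)⟩
      · have e1 : e⁻¹ * (x * y) e = (y e)⁻¹ * x (y e) * kap y e := by
          rw [MulAut.mul_apply, kap_apply]
          apply Additive.ofMul.injective
          simp only [ofMul_mul, ofMul_inv]
          abel
        rcases hky with h | h
        · exact ⟨y e, Or.inl (by rw [e1, h, mul_one])⟩
        · exact ⟨y e, Or.inr (by rw [e1, h])⟩

end two

section wrap
variable {E : Type*} [Group E] [Finite E]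

/-- The commutative group structure from commutativity. -/
abbrev commInst (hcomm : ∀ a b : E, a * b = b * a) : CommGroup E :=
  { ‹Group E› with mul_comm := hcomm }

theorem odd_main (hcomm : ∀ a b : E, a * b = b * a) {p : ℕ} [Fact p.Prime]
    {G : Subgroup (MulAut E)} {x y : MulAut E} (hx : Good p G x) (hy : Good p G y)
    (hne : y ∉ Subgroup.zpowers x) :
    ∃ h ∈ G, h * x = x * h ∧ (∀ m, x m = m → y m = m → h m = m) ∧
      ∀ e, h (e⁻¹ * x e) = (e⁻¹ * x e)⁻¹ := by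
  obtain ⟨h, hG, h1, h2, h3⟩ := @exists_h E (commInst hcomm) p G _ _ x y hx hy hne
  exact ⟨h, hG, h1, h2, fun e => h3 _ ⟨e, rfl⟩⟩

theorem decomp_fix_w (hcomm : ∀ a b : E, a * b = b * a) {p : ℕ} [Fact p.Prime]
    {G : Subgroup (MulAut E)} {x y : MulAut E} (hx : Good p G x) (hy : Good p G y)
    (hne : y ∉ Subgroup.zpowers x) {ζ : E} (hζ : x ζ = ζ) :
    ∃ m e, x m = m ∧ y m = m ∧ ζ = m * (e⁻¹ * x e) := by
  obtain ⟨m, l, h1, h2, ⟨e, rfl⟩, h4⟩ := @decomp_fix E (commInst hcomm) p G _ _ x y hx hy hne ζ hζ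
  exact ⟨m, e, h1, h2, h4⟩

theorem disj_w (hcomm : ∀ a b : E, a * b = b * a) {p : ℕ} [Fact p.Prime]
    {G : Subgroup (MulAut E)} {x y : MulAut E} (hx : Good p G x) (hy : Good p G y)
    (hne : y ∉ Subgroup.zpowers x) (e : E) (h : y (e⁻¹ * x e) = e⁻¹ * x e) : e⁻¹ * x e = 1 :=
  @disj E (commInst hcomm) p G _ _ x y hx hy hne _ ⟨e, rfl⟩ h

theorem decomp_pow_w (hcomm : ∀ a b : E, a * b = b * a) {p : ℕ} [Fact p.Prime]
    {G : Subgroup (MulAut E)} {x y : MulAut E} (hx : Good p G x) (hy : Good p G y)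
    (hne : y ∉ Subgroup.zpowers x) (e : E) :
    ∃ m w, x m = m ∧ y m = m ∧ e = m * w ∧ w ^ p = 1 :=
  @decomp_pow E (commInst hcomm) p G _ _ x y hx hy hne e

theorem pow_range_w (hcomm : ∀ a b : E, a * b = b * a) {p : ℕ}
    {G : Subgroup (MulAut E)} {x : MulAut E} (hx : Good p G x) (e : E) :
    (e⁻¹ * x e) ^ p = 1 :=
  @pow_card_range E (commInst hcomm) p G x hx _ ⟨e, rfl⟩

theorem range_w (hcomm : ∀ a b : E, a * b = b * a) {p : ℕ}
    {G : Subgroup (MulAut E)} {x : MulAut E} (hx : Good p G x) :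
    ∃ L : Subgroup E, Nat.card L = p ∧ ∀ l, l ∈ L ↔ ∃ e, l = e⁻¹ * x e :=
  ⟨(@kap E (commInst hcomm) x).range, @Good.card E (commInst hcomm) p G x hx,
    fun l => ⟨fun ⟨e, he⟩ => ⟨e, he.symm⟩, fun ⟨e, he⟩ => ⟨e, he.symm⟩⟩⟩

theorem not_mem_symm_w (hcomm : ∀ a b : E, a * b = b * a) {p : ℕ}
    {G : Subgroup (MulAut E)} {x y : MulAut E} (hx : Good p G x) (hy : Good p G y)
    (hne : y ∉ Subgroup.zpowers x) : x ∉ Subgroup.zpowers y :=
  @not_mem_symm E (commInst hcomm) p G x y hx hy hne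

theorem two_not_mem_w (hcomm : ∀ a b : E, a * b = b * a)
    {G : Subgroup (MulAut E)} {x y : MulAut E} (hx : Good 2 G x) (hy : Good 2 G y)
    (hne : y ≠ x) : y ∉ Subgroup.zpowers x :=
  @two_not_mem E (commInst hcomm) G _ x y hx hy hne

theorem two_main_w (hcomm : ∀ a b : E, a * b = b * a)
    {G : Subgroup (MulAut E)} {x y : MulAut E} (hx : Good 2 G x) (hy : Good 2 G y)
    (hne : x ≠ y) :
    ∃ a : E, x a ≠ a ∧ a * a = 1 ∧
      (∀ g ∈ G, ∀ m, x m = m → y m = m → x (g m) = g m ∧ y (g m) = g m) ∧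
      (∀ g ∈ G, ∃ l n, g = l * n ∧ n ∈ G ∧ n * x = x * n ∧
        (∀ m, x m = m → y m = m → l m = m) ∧
        ∀ e, ∃ e', e⁻¹ * l e = e'⁻¹ * x e' ∨ e⁻¹ * l e = e'⁻¹ * x e' * a) :=
  @two_main E (commInst hcomm) G _ x y hx hy hne

end wrap

end Cfsg.Agent.Helper27.CI
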