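import Cfsg.Agent.Helper27.CIb
import Cfsg.Agent.Helper26.FusionNormal
import Cfsg.Agent.Helper26.FusionEss
import Cfsg.Agent.Helper26.FusionSat2
import Cfsg.Agent.Helper27.EssOmit

set_option autoImplicit false

namespace Cfsg.Agent.Helper27.CI

open Cfsg Cfsg.FusionSystem Cfsg.Agent.Helper26

variable {Ω : Type*} [Group Ω] {S : Subgroup Ω}

theorem normal_of_inv [Finite S] (p : ℕ) [Fact p.Prime] (hS : IsPGroup p S)
    (F : FusionSystem S) (hF : F.IsSaturated p) {Q : Subgroup Ω}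
    (h : ∀ P : Subgroup Ω, (P = S ∨ F.IsEssential p P) →
      (Q ≤ P ∧ ∀ α ∈ F.autGroup P, ∀ x : P, (x : Ω) ∈ Q → ((α x : P) : Ω) ∈ Q)) :
    F.IsNormal Q := by
  apply normal_of_invariant p hS F hF
  intro P hP
  obtain ⟨hQP, hinv⟩ := h P hP
  refine ⟨hQP, fun α hα => ?_⟩
  ext y
  rw [Subgroup.mem_map, Subgroup.mem_subgroupOf]
  constructor
  · rintro ⟨x, hx, rfl⟩
    exact hinv α hα x (Subgroup.mem_subgroupOf.1 hx)
  · intro hy
    refine ⟨α⁻¹ y, Subgroup.mem_subgroupOf.2 (hinv α⁻¹ ((F.autGroup P).inv_mem hα) y hy), ?_⟩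
    simp

theorem eq_bot_of_normal (F : FusionSystem S) (hcore : F.core = ⊥) {Q : Subgroup Ω}
    (hQ : F.IsNormal Q) : Q = ⊥ := by
  rw [eq_bot_iff, ← hcore]
  exact le_sSup hQ

theorem not_comm [Finite S] (p : ℕ) [Fact p.Prime] (hS : IsPGroup p S)
    (F : FusionSystem S) (hF : F.IsSaturated p) (hS1 : S ≠ ⊥) (hcore : F.core = ⊥) :
    ¬ ∀ x ∈ S, ∀ y ∈ S, x * y = y * x := by
  intro hab
  apply hS1
  apply eq_bot_of_normal F hcore
  apply normal_of_inv p hS F hF
  intro P hP
  have hPS : P ≤ S := hP.elim (fun h => le_of_eq h) (fun h => h.1.1)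
  have hSP : S ≤ P := hP.elim (fun h => le_of_eq h.symm) (fun hP => by
    have hcen := hP.1.2 P (isConj_refl F hP.1.1)
    intro s hs
    exact hcen (mem_centralizerIn.2 ⟨hs, fun x hx => hab x (hP.1.1 hx) s hs⟩))
  exact ⟨hSP, fun α _ x _ => hPS (α x).2⟩

/-- The centre of `S` inside `Ω`. -/
def ZS (S : Subgroup Ω) : Subgroup Ω := centralizerIn S S

theorem mem_ZS {x : Ω} : x ∈ ZS S ↔ x ∈ S ∧ ∀ y ∈ S, y * x = x * y := mem_centralizerIn

theorem ZS_le : ZS S ≤ S := centralizerIn_le S S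

theorem ZS_eq_map : ZS S = (Subgroup.center S).map S.subtype := by
  ext x
  rw [mem_ZS, Subgroup.mem_map]
  constructor
  · rintro ⟨hx, h⟩
    refine ⟨⟨x, hx⟩, ?_, rfl⟩
    rw [Subgroup.mem_center_iff]
    intro g
    exact Subtype.ext (h g g.2)
  · rintro ⟨y, hy, rfl⟩
    rw [Subgroup.mem_center_iff] at hy
    exact ⟨y.2, fun g hg => congrArg Subtype.val (hy ⟨g, hg⟩)⟩

theorem card_ZS : Nat.card (ZS S) = Nat.card (Subgroup.center S) := by
  rw [ZS_eq_map]; exact Subgroup.card_map_of_injective (Subgroup.subtype_injective _)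

theorem card_le_ZS [Finite S] {p : ℕ} (hZ : (Subgroup.center ↥S).index ≤ p ^ 2) :
    Nat.card S ≤ p ^ 2 * Nat.card (ZS S) := by
  rw [card_ZS, ← Subgroup.index_mul_card (Subgroup.center S)]
  exact Nat.mul_le_mul_right _ hZ

theorem comm_mem_center {P : Type*} [Group P] [Finite P] {p : ℕ} [Fact p.Prime]
    (hP : IsPGroup p P) (hZ : (Subgroup.center P).index ≤ p ^ 2) (a b : P) :
    a * b * a⁻¹ * b⁻¹ ∈ Subgroup.center P := by
  have hpp : p.Prime := Fact.out
  have hq : IsPGroup p (P ⧸ Subgroup.center P) := hP.to_quotient _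
  obtain ⟨k, hk⟩ := IsPGroup.iff_card.1 hq
  have hk' : (Subgroup.center P).index = p ^ k := hk
  have hk2 : k ≤ 2 := by
    rw [hk'] at hZ
    exact (Nat.pow_le_pow_iff_right hpp.one_lt).1 hZ
  have hcommQ : ∀ a b : P ⧸ Subgroup.center P, a * b = b * a := by
    rcases Nat.lt_or_ge k 2 with h2 | h2
    · haveI : IsCyclic (P ⧸ Subgroup.center P) := by
        rcases Nat.lt_or_ge k 1 with h1 | h1
        · have h0 : k = 0 := by omega
          rw [h0, pow_zero] at hk
          haveI : Subsingleton (P ⧸ Subgroup.center P) := (Nat.card_eq_one_iff_unique.1 hk).1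
          exact isCyclic_of_subsingleton
        · have h1' : k = 1 := by omega
          rw [h1', pow_one] at hk
          exact isCyclic_of_prime_card hk
      have hab : IsMulCommutative P :=
        MonoidHom.isMulCommutative_of_isCyclic_of_ker_le_center
          (QuotientGroup.mk' (Subgroup.center P)) (by rw [QuotientGroup.ker_mk'])
      intro x y
      obtain ⟨x, rfl⟩ := QuotientGroup.mk_surjective x
      obtain ⟨y, rfl⟩ := QuotientGroup.mk_surjective y
      rw [← QuotientGroup.mk_mul, ← QuotientGroup.mk_mul, hab.is_comm.comm x y]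
    · have h2' : k = 2 := by omega
      rw [h2'] at hk
      have := IsPGroup.isMulCommutative_of_card_eq_prime_sq hk
      exact fun a b => this.is_comm.comm a b
  rw [← QuotientGroup.eq_one_iff]
  simp only [QuotientGroup.mk_mul, QuotientGroup.mk_inv]
  rw [hcommQ (a : P ⧸ _) b]
  group

theorem comm_mem_ZS [Finite S] {p : ℕ} [Fact p.Prime] (hS : IsPGroup p S)
    (hZ : (Subgroup.center ↥S).index ≤ p ^ 2) {a b : Ω} (ha : a ∈ S) (hb : b ∈ S) :
    a * b * a⁻¹ * b⁻¹ ∈ ZS S := by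
  have h := comm_mem_center hS hZ ⟨a, ha⟩ ⟨b, hb⟩
  rw [ZS_eq_map]
  exact ⟨_, h, rfl⟩

theorem card_lt_of_lt {A B : Subgroup Ω} [Finite B] (h : A < B) : Nat.card A < Nat.card B := by
  by_contra hcon
  exact h.ne (Subgroup.eq_of_le_of_card_ge h.le (not_lt.1 hcon))

theorem eq_of_prime_step {p : ℕ} [Fact p.Prime] {A B C : Subgroup Ω} [Finite C]
    (hAB : A < B) (hBC : B ≤ C) (hcard : Nat.card C = p * Nat.card A) : B = C := by
  have hpp : p.Prime := Fact.out
  haveI : Finite B := Finite.of_injective (Subgroup.inclusion hBC) (Subgroup.inclusion_injective hBC)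
  have h1 := card_lt_of_lt hAB
  obtain ⟨k, hk⟩ := Subgroup.card_dvd_of_le hAB.le
  obtain ⟨j, hj⟩ := Subgroup.card_dvd_of_le hBC
  haveI : Finite A := Finite.of_injective (Subgroup.inclusion hAB.le)
    (Subgroup.inclusion_injective hAB.le)
  have hA0 : 0 < Nat.card A := Nat.card_pos
  rw [hk] at hj h1
  rw [hj, mul_assoc, mul_comm p] at hcard
  have hkj : k * j = p := Nat.eq_of_mul_eq_mul_left hA0 hcard
  have hk1 : k ≠ 1 := by
    rintro rfl
    omega
  have hkp : k = p := by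
    rcases (Nat.dvd_prime hpp).1 (Dvd.intro j hkj) with h | h
    · exact absurd h hk1
    · exact h
  apply Subgroup.eq_of_le_of_card_ge hBC
  rw [hj, hk, hkp]
  have hj1 : j = 1 := by
    rw [hkp] at hkj
    have := Nat.eq_of_mul_eq_mul_left hpp.pos (hkj.trans (mul_one p).symm)
    exact this
  rw [hj1, mul_one]

end Cfsg.Agent.Helper27.CI
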