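import Cfsg.Agent.Helper27.CIc

set_option autoImplicit false

namespace Cfsg.Agent.Helper27.CI

open Cfsg Cfsg.FusionSystem Cfsg.Agent.Helper26

variable {Ω : Type*} [Group Ω] {S : Subgroup Ω}

theorem ess_basic [Finite S] (p : ℕ) [Fact p.Prime] (hS : IsPGroup p S) (F : FusionSystem S)
    (hF : F.IsSaturated p) {E : Subgroup Ω} (hE : F.IsEssential p E) : ZS S < E ∧ E < S := by
  have hES : E ≤ S := hE.1.1
  have hcen : centralizerIn S E ≤ E := hE.1.2 E (isConj_refl F hES)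
  have hlt : E < S := essential_lt p hS F hF hE
  have hZE : ZS S ≤ E := fun x hx =>
    hcen (mem_centralizerIn.2 ⟨(mem_ZS.1 hx).1, fun y hy => (mem_ZS.1 hx).2 y (hES hy)⟩)
  refine ⟨lt_of_le_of_ne hZE ?_, hlt⟩
  intro h
  apply hlt.ne
  apply le_antisymm hES
  intro s hs
  apply hcen
  rw [mem_centralizerIn]
  refine ⟨hs, fun x hx => ?_⟩
  rw [← h] at hx
  exact ((mem_ZS.1 hx).2 s hs).symm

theorem ess_card [Finite S] {p : ℕ} [Fact p.Prime] (hS : IsPGroup p S)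
    (hZ : (Subgroup.center ↥S).index ≤ p ^ 2) {E : Subgroup Ω} (h1 : ZS S < E) (h2 : E < S) :
    Nat.card E = p * Nat.card (ZS S) ∧ Nat.card S = p * Nat.card E := by
  have hpp : p.Prime := Fact.out
  haveI : Finite E := finite_of_le h2.le
  haveI : Finite (ZS S) := finite_of_le ZS_le
  obtain ⟨a, ha⟩ := IsPGroup.iff_card.1 (hS.to_le ZS_le : IsPGroup p (ZS S))
  obtain ⟨b, hb⟩ := IsPGroup.iff_card.1 (hS.to_le h2.le : IsPGroup p E)
  obtain ⟨c, hc⟩ := IsPGroup.iff_card.1 hS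
  have l1 := card_lt_of_lt h1
  have l2 := card_lt_of_lt h2
  have l3 := card_le_ZS hZ
  rw [ha, hb] at l1
  rw [hb, hc] at l2
  rw [ha, hc, ← pow_add] at l3
  have i1 : a < b := (Nat.pow_lt_pow_iff_right hpp.one_lt).1 l1
  have i2 : b < c := (Nat.pow_lt_pow_iff_right hpp.one_lt).1 l2
  have i3 : c ≤ 2 + a := (Nat.pow_le_pow_iff_right hpp.one_lt).1 l3
  have hb' : b = a + 1 := by omega
  have hc' : c = a + 2 := by omega
  rw [hb, ha, hc, hb', hc']
  constructor <;> ring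

theorem ess_comm [Finite S] {p : ℕ} [Fact p.Prime] {E : Subgroup Ω} (h1 : ZS S < E)
    (h2 : E ≤ S) (hcard : Nat.card E = p * Nat.card (ZS S)) :
    ∀ x ∈ E, ∀ y ∈ E, x * y = y * x := by
  haveI : Finite E := finite_of_le h2
  obtain ⟨e₀, he₀E, he₀Z⟩ := SetLike.exists_of_lt h1
  have hK : ZS S ⊔ Subgroup.zpowers e₀ = E := by
    apply eq_of_prime_step (p := p) (A := ZS S) ?_ (sup_le h1.le (Subgroup.zpowers_le.2 he₀E)) hcard
    refine lt_of_le_of_ne le_sup_left (fun h => he₀Z ?_)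
    rw [h]; exact le_sup_right (a := ZS S) (Subgroup.mem_zpowers e₀)
  have hc1 : E ≤ Subgroup.centralizer ({e₀} : Set Ω) := by
    have h3 : ZS S ⊔ Subgroup.zpowers e₀ ≤ Subgroup.centralizer ({e₀} : Set Ω) := by
      apply sup_le
      · intro z hz
        rw [Subgroup.mem_centralizer_iff]
        rintro _ rfl
        exact (mem_ZS.1 hz).2 _ (h2 he₀E)
      · rw [Subgroup.zpowers_le, Subgroup.mem_centralizer_iff]
        rintro _ rfl; rfl
    intro x hx
    exact h3 (hK.ge hx)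
  have hc2 : ZS S ⊔ Subgroup.zpowers e₀ ≤ Subgroup.centralizer (E : Set Ω) := by
    apply sup_le
    · intro z hz
      rw [Subgroup.mem_centralizer_iff]
      intro h hh
      exact (mem_ZS.1 hz).2 h (h2 hh)
    · rw [Subgroup.zpowers_le, Subgroup.mem_centralizer_iff]
      intro h hh
      have := Subgroup.mem_centralizer_iff.1 (hc1 hh) e₀ rfl
      exact this.symm
  intro x hx y hy
  exact Subgroup.mem_centralizer_iff.1 (hc2 (hK.ge hy)) x hx

theorem ess_conj_mem [Finite S] {p : ℕ} [Fact p.Prime] (hS : IsPGroup p S)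
    (hZ : (Subgroup.center ↥S).index ≤ p ^ 2) {E : Subgroup Ω} (h1 : ZS S ≤ E) (hES : E ≤ S)
    {s x : Ω} (hs : s ∈ S) (hx : x ∈ E) : s * x * s⁻¹ ∈ E := by
  have h := comm_mem_ZS hS hZ hs (hES hx)
  have e : s * x * s⁻¹ = (s * x * s⁻¹ * x⁻¹) * x := by group
  rw [e]; exact E.mul_mem (h1 h) hx

theorem ess_normalizer [Finite S] {p : ℕ} [Fact p.Prime] (hS : IsPGroup p S)
    (hZ : (Subgroup.center ↥S).index ≤ p ^ 2) {E : Subgroup Ω} (h1 : ZS S ≤ E) (hES : E ≤ S) :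
    S ≤ Subgroup.normalizer (E : Set Ω) := by
  intro s hs
  rw [Subgroup.mem_normalizer_iff]
  intro x
  constructor
  · intro hx; exact ess_conj_mem hS hZ h1 hES hs hx
  · intro hx
    have h := ess_conj_mem hS hZ h1 hES (S.inv_mem hs) hx
    have e : s⁻¹ * (s * x * s⁻¹) * s⁻¹⁻¹ = x := by group
    rwa [e] at h

theorem ess_gen [Finite S] {p : ℕ} [Fact p.Prime] {E : Subgroup Ω} (hES : E ≤ S)
    (hcard : Nat.card S = p * Nat.card E) {t : Ω} (htS : t ∈ S) (htE : t ∉ E) :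
    E ⊔ Subgroup.zpowers t = S := by
  apply eq_of_prime_step (p := p) (A := E) ?_ (sup_le hES (Subgroup.zpowers_le.2 htS)) hcard
  refine lt_of_le_of_ne le_sup_left (fun h => htE ?_)
  rw [h]; exact le_sup_right (a := E) (Subgroup.mem_zpowers t)

/-- Conjugation by a normalizing element, as an automorphism. -/
def cAut (E : Subgroup Ω) (t : Ω) (ht : t ∈ Subgroup.normalizer (E : Set Ω)) : MulAut E :=
  E.normalizerMonoidHom ⟨t, ht⟩

theorem cAut_coe (E : Subgroup Ω) (t : Ω) (ht : t ∈ Subgroup.normalizer (E : Set Ω)) (x : E) :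
    ((cAut E t ht x : E) : Ω) = t * x * t⁻¹ := rfl

theorem cAut_fix_iff {E : Subgroup Ω} (hES : E ≤ S)
    (hcomm : ∀ x ∈ E, ∀ y ∈ E, x * y = y * x) {t : Ω} (htS : t ∈ S)
    (ht : t ∈ Subgroup.normalizer (E : Set Ω)) (hgen : E ⊔ Subgroup.zpowers t = S) (x : E) :
    cAut E t ht x = x ↔ (x : Ω) ∈ ZS S := by
  constructor
  · intro h
    have h' : t * (x : Ω) * t⁻¹ = x := congrArg Subtype.val h
    have hc : S ≤ Subgroup.centralizer ({(x : Ω)} : Set Ω) := by
      rw [← hgen]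
      apply sup_le
      · intro y hy
        rw [Subgroup.mem_centralizer_iff]
        rintro _ rfl
        exact hcomm _ x.2 y hy
      · rw [Subgroup.zpowers_le, Subgroup.mem_centralizer_iff]
        rintro _ rfl
        calc (x : Ω) * t = (t * (x : Ω) * t⁻¹) * t := by rw [h']
          _ = t * x := by group
    refine mem_ZS.2 ⟨hES x.2, fun y hy => ?_⟩
    exact (Subgroup.mem_centralizer_iff.1 (hc hy) x rfl).symm
  · intro h
    apply Subtype.ext
    rw [cAut_coe, (mem_ZS.1 h).2 t htS]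
    group

theorem cAut_ne_one (F : FusionSystem S) {E : Subgroup Ω} (hES : E ≤ S)
    (hcen : centralizerIn S E ≤ E) {t : Ω} (htS : t ∈ S) (htE : t ∉ E)
    (ht : t ∈ Subgroup.normalizer (E : Set Ω)) : cAut E t ht ≠ 1 := by
  intro h
  apply htE
  apply hcen
  rw [mem_centralizerIn]
  refine ⟨htS, fun x hx => ?_⟩
  have h1 : cAut E t ht ⟨x, hx⟩ = ⟨x, hx⟩ := by rw [h]; rfl
  have h2 : t * x * t⁻¹ = x := congrArg Subtype.val h1
  calc x * t = (t * x * t⁻¹) * t := by rw [h2]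
    _ = t * x := by group

theorem aut_eq_pow {E : Subgroup Ω}
    (hcomm : ∀ x ∈ E, ∀ y ∈ E, x * y = y * x) {t : Ω}
    (ht : t ∈ Subgroup.normalizer (E : Set Ω)) (hgen : E ⊔ Subgroup.zpowers t = S) {s : Ω}
    (hs : s ∈ S) (hsN : s ∈ Subgroup.normalizer (E : Set Ω)) :
    ∃ k : ℤ, E.normalizerMonoidHom ⟨s, hsN⟩ = cAut E t ht ^ k := by
  have hs' : s ∈ Subgroup.zpowers t ⊔ E := by rw [sup_comm, hgen]; exact hs
  obtain ⟨a, ha, e, he, rfl⟩ := mem_sup_of_le_normalizer (Subgroup.zpowers_le.2 ht) hs'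
  obtain ⟨k, rfl⟩ := Subgroup.mem_zpowers_iff.1 ha
  have hpow : cAut E t ht ^ k = E.normalizerMonoidHom (⟨t, ht⟩ ^ k) := (map_zpow _ _ _).symm
  refine ⟨k, MulEquiv.ext fun x => Subtype.ext ?_⟩
  rw [hpow]
  show t ^ k * e * (x : Ω) * (t ^ k * e)⁻¹ = t ^ k * (x : Ω) * (t ^ k)⁻¹
  have h1 : e * (x : Ω) * e⁻¹ = x := by rw [hcomm e he x x.2]; group
  calc t ^ k * e * (x : Ω) * (t ^ k * e)⁻¹ = t ^ k * (e * (x : Ω) * e⁻¹) * (t ^ k)⁻¹ := by group
    _ = _ := by rw [h1]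

theorem cAut_good [Finite S] (p : ℕ) [Fact p.Prime] (hS : IsPGroup p S) (F : FusionSystem S)
    (hF : F.IsSaturated p) (hZ : (Subgroup.center ↥S).index ≤ p ^ 2) {E : Subgroup Ω}
    (hE : F.IsEssential p E) {t : Ω} (htS : t ∈ S) (htE : t ∉ E)
    (ht : t ∈ Subgroup.normalizer (E : Set Ω)) : Good p (F.autGroup E) (cAut E t ht) := by
  obtain ⟨h1, h2⟩ := ess_basic p hS F hF hE
  obtain ⟨hc1, hc2⟩ := ess_card hS hZ h1 h2
  have hES : E ≤ S := h2.le
  haveI : Finite E := finite_of_le hES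
  have hcomm := ess_comm (p := p) h1 hES hc1
  have hgen := ess_gen (p := p) hES hc2 htS htE
  have hcen : centralizerIn S E ≤ E := hE.1.2 E (isConj_refl F hES)
  have hind : ∀ α ∈ autInducedBy S E, α ∈ Subgroup.zpowers (cAut E t ht) := by
    intro α hα
    obtain ⟨s, hs, hsx⟩ := mem_autInducedBy_iff.1 hα
    have hsN : s ∈ Subgroup.normalizer (E : Set Ω) := ess_normalizer hS hZ h1.le hES hs
    obtain ⟨k, hk⟩ := aut_eq_pow hcomm ht hgen hs hsN
    have e : α = E.normalizerMonoidHom ⟨s, hsN⟩ := MulEquiv.ext fun x => Subtype.ext (hsx x)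
    rw [e, hk]
    exact Subgroup.zpow_mem _ (Subgroup.mem_zpowers _) k
  refine ⟨?_, cAut_ne_one F hES hcen htS htE ht, ?_, ?_, ?_⟩
  · exact autInducedBy_le_autGroup F hES (mem_autInducedBy_iff.2 ⟨t, htS, fun x => rfl⟩)
  · intro H hHG hHp hcH x hx
    obtain ⟨-, -, R, hR⟩ := sat_fullyNormalized p hS F hF hE.2.1
    have hle : (R : Subgroup (F.autGroup E)) ≤ H.subgroupOf (F.autGroup E) := by
      rw [hR]
      intro y hy
      rw [Subgroup.mem_subgroupOf] at hy ⊢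
      obtain ⟨k, hk⟩ := Subgroup.mem_zpowers_iff.1 (hind _ hy)
      rw [← hk]
      exact Subgroup.zpow_mem _ hcH k
    have heq : H.subgroupOf (F.autGroup E) = (R : Subgroup (F.autGroup E)) :=
      R.is_maximal' (hHp.comap_subtype) hle
    have hx' : (⟨x, hHG hx⟩ : F.autGroup E) ∈ H.subgroupOf (F.autGroup E) :=
      Subgroup.mem_subgroupOf.2 hx
    rw [heq, hR, Subgroup.mem_subgroupOf] at hx'
    exact hind _ hx'
  · have hfix : fixSub (cAut E t ht) = (ZS S).subgroupOf E := by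
      ext x
      rw [mem_fixSub, Subgroup.mem_subgroupOf]
      exact cAut_fix_iff hES hcomm htS ht hgen x
    have hcard : Nat.card ((ZS S).subgroupOf E) = Nat.card (ZS S) :=
      Nat.card_congr (Subgroup.subgroupOfEquivOfLe h1.le).toEquiv
    have h3 := Subgroup.card_mul_index ((ZS S).subgroupOf E)
    rw [hcard, hc1] at h3
    rw [hfix]
    have hpos : 0 < Nat.card (ZS S) := by
      haveI : Finite (ZS S) := finite_of_le ZS_le
      exact Nat.card_pos
    rw [mul_comm p] at h3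
    exact Nat.eq_of_mul_eq_mul_left hpos h3
  · intro e
    rw [cAut_fix_iff hES hcomm htS ht hgen]
    have h3 := comm_mem_ZS hS hZ (hES (E.inv_mem e.2)) htS
    have e1 : ((e⁻¹ * cAut E t ht e : E) : Ω) = (e : Ω)⁻¹ * t * ((e : Ω)⁻¹)⁻¹ * t⁻¹ := by
      show (e : Ω)⁻¹ * (t * (e : Ω) * t⁻¹) = _
      group
    rw [e1]; exact h3

end Cfsg.Agent.Helper27.CI
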