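import Cfsg.Agent.Helper27.CId
import Cfsg.Agent.Helper26.FusionIso
import Cfsg.Agent.Helper26.FusionSat

set_option autoImplicit false

namespace Cfsg.Agent.Helper27.CI

open Cfsg Cfsg.FusionSystem Cfsg.Agent.Helper26

variable {Ω : Type*} [Group Ω] {S : Subgroup Ω}

theorem exists_nonnormal [Finite S] (p : ℕ) [Fact p.Prime] (hS : IsPGroup p S)
    (F : FusionSystem S) (hF : F.IsSaturated p) (hZ : (Subgroup.center ↥S).index ≤ p ^ 2)
    {E : Subgroup Ω} (hE : F.IsEssential p E) {t : Ω} (htS : t ∈ S) (htE : t ∉ E)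
    (ht : t ∈ Subgroup.normalizer (E : Set Ω)) :
    ∃ g ∈ F.autGroup E, g * cAut E t ht * g⁻¹ ∉ Subgroup.zpowers (cAut E t ht) := by
  by_contra hcon
  push_neg at hcon
  obtain ⟨h1, h2⟩ := ess_basic p hS F hF hE
  obtain ⟨hc1, hc2⟩ := ess_card hS hZ h1 h2
  have hES : E ≤ S := h2.le
  have hcomm := ess_comm (p := p) h1 hES hc1
  have hG := cAut_good p hS F hF hZ hE htS htE ht
  have hrad := radical_of_essential p hS F hE
  have hcT : cAut E t ht ∈ autInducedBy S E := mem_autInducedBy_iff.2 ⟨t, htS, fun x => rfl⟩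
  have hN : ((Subgroup.zpowers (cAut E t ht)).subgroupOf (F.autGroup E)).Normal := by
    constructor
    intro n hn g
    rw [Subgroup.mem_subgroupOf] at hn ⊢
    obtain ⟨k, hk⟩ := Subgroup.mem_zpowers_iff.1 hn
    show (g : MulAut E) * (n : MulAut E) * (g : MulAut E)⁻¹ ∈ _
    rw [← hk, ← conj_zpow]
    exact Subgroup.zpow_mem _ (hcon g g.2) k
  have hNp : IsPGroup p ((Subgroup.zpowers (cAut E t ht)).subgroupOf (F.autGroup E)) :=
    ((isPGroup_autInducedBy hS E).to_le (Subgroup.zpowers_le.2 hcT)).comap_subtype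
  have hle : (Subgroup.zpowers (cAut E t ht)).subgroupOf (F.autGroup E) ≤ pCore p (F.autGroup E) :=
    le_sSup ⟨hN, hNp⟩
  have hc_in : cAut E t ht ∈ (pCore p (F.autGroup E)).map (F.autGroup E).subtype :=
    ⟨⟨_, hG.mem⟩, hle (Subgroup.mem_subgroupOf.2 (Subgroup.mem_zpowers _)), rfl⟩
  rw [hrad.2] at hc_in
  obtain ⟨e₀, he₀⟩ := hc_in
  apply hG.ne
  rw [← he₀]
  ext x
  show (e₀ : Ω) * x * (e₀ : Ω)⁻¹ = x
  rw [hcomm e₀ e₀.2 x x.2]; group

theorem extend_aut [Finite S] (p : ℕ) [Fact p.Prime] (hS : IsPGroup p S)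
    (F : FusionSystem S) (hF : F.IsSaturated p) (hZ : (Subgroup.center ↥S).index ≤ p ^ 2)
    {E : Subgroup Ω} (hE : F.IsEssential p E) {t : Ω} (htS : t ∈ S) (htE : t ∉ E)
    (ht : t ∈ Subgroup.normalizer (E : Set Ω)) {n : MulAut E} (hn : n ∈ F.autGroup E)
    (hnc : n * cAut E t ht = cAut E t ht * n) :
    ∃ β ∈ F.autGroup S, ∀ x : E, ((β ⟨x, hE.1.1 x.2⟩ : S) : Ω) = n x := by
  obtain ⟨h1, h2⟩ := ess_basic p hS F hF hE
  obtain ⟨hc1, hc2⟩ := ess_card hS hZ h1 h2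
  have hES : E ≤ S := h2.le
  have hcomm := ess_comm (p := p) h1 hES hc1
  have hgen := ess_gen (p := p) hES hc2 htS htE
  obtain ⟨hfc, -⟩ := sat_fullyNormalized p hS F hF hE.2.1
  have hrec := receptive_of_fullyCentralized p hS F hF hfc
  have hφ : E.subtype.comp n.toMonoidHom ∈ F.Hom E := (mem_autGroup_iff F hES).1 hn
  obtain ⟨ψ, hψ, hψe⟩ := hrec.2 E _ hφ (range_iso n)
  have hle : S ≤ extender S E (E.subtype.comp n.toMonoidHom) := by
    intro s hs
    have hsN := ess_normalizer hS hZ h1.le hES hs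
    apply mem_extender_of_conj_mem n hs hsN
    obtain ⟨k, hk⟩ := aut_eq_pow hcomm ht hgen hs hsN
    rw [hk]
    have e : n * cAut E t ht ^ k * n⁻¹ = cAut E t ht ^ k := by
      have hc : Commute n (cAut E t ht) := hnc
      rw [(hc.zpow_right k).eq, mul_inv_cancel_right]
    rw [e]
    exact Subgroup.zpow_mem _ (mem_autInducedBy_iff.2 ⟨t, htS, fun x => rfl⟩) k
  have hχ : ψ.comp (Subgroup.inclusion hle) ∈ F.Hom S := restrict_mem F hψ hle (fun _ => rfl)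
  have hinj := F.injective_of_mem hχ
  have hval := (F.le_of_mem hχ).2
  have hinj' : Function.Injective ((ψ.comp (Subgroup.inclusion hle)).codRestrict S hval) := by
    intro x y hxy
    apply hinj
    exact congrArg Subtype.val hxy
  refine ⟨MulEquiv.ofBijective ((ψ.comp (Subgroup.inclusion hle)).codRestrict S hval)
    ⟨hinj', Finite.injective_iff_surjective.mp hinj'⟩, ?_, ?_⟩
  · apply Subgroup.subset_closure
    exact mem_of_eq F hχ (fun x => rfl)
  · intro x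
    exact hψe x x.2 (hle (hES x.2))

theorem restrict_aut [Finite S] (F : FusionSystem S) {E : Subgroup Ω} (hES : E ≤ S)
    {β : MulAut S} (hβ : β ∈ F.autGroup S)
    (hβE : ∀ x : S, (x : Ω) ∈ E → ((β x : S) : Ω) ∈ E) :
    ∃ n ∈ F.autGroup E, ∀ x : E, ((n x : E) : Ω) = β ⟨x, hES x.2⟩ := by
  haveI : Finite E := finite_of_le hES
  have he : S.subtype.comp β.toMonoidHom ∈ F.Hom S := (mem_autGroup_iff F le_rfl).1 hβ
  have hB : (E.subgroupOf S).map (S.subtype.comp β.toMonoidHom) = E := by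
    apply Subgroup.eq_of_le_of_card_ge
    · rintro _ ⟨x, hx, rfl⟩
      exact hβE x (Subgroup.mem_subgroupOf.1 hx)
    · have hinj : Function.Injective (S.subtype.comp β.toMonoidHom) := F.injective_of_mem he
      rw [Subgroup.card_map_of_injective hinj]
      exact (Nat.card_congr (Subgroup.subgroupOfEquivOfLe hES).toEquiv).ge
  obtain ⟨e₀, he₀, h⟩ := exists_restrict_iso F β he hES hB
  exact ⟨e₀, (mem_autGroup_iff F hES).2 he₀, h⟩

/-- The derived subgroup of `S` inside `Ω`. -/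
def DS (S : Subgroup Ω) : Subgroup Ω := ⁅S, S⁆

theorem comm_mem_DS {a b : Ω} (ha : a ∈ S) (hb : b ∈ S) : a * b * a⁻¹ * b⁻¹ ∈ DS S := by
  have := Subgroup.commutator_mem_commutator ha hb
  rwa [commutatorElement_def] at this

theorem DS_le_ZS [Finite S] {p : ℕ} [Fact p.Prime] (hS : IsPGroup p S)
    (hZ : (Subgroup.center ↥S).index ≤ p ^ 2) : DS S ≤ ZS S := by
  unfold DS
  rw [Subgroup.commutator_le]
  intro a ha b hb
  rw [commutatorElement_def]
  exact comm_mem_ZS hS hZ ha hb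

theorem DS_char (β : MulAut S) (d : S) (hd : (d : Ω) ∈ DS S) : ((β d : S) : Ω) ∈ DS S := by
  unfold DS at hd ⊢
  rw [← Subgroup.map_subtype_commutator] at hd ⊢
  obtain ⟨y, hy, hyd⟩ := hd
  have hyd' : y = d := Subtype.ext hyd
  subst hyd'
  refine ⟨β y, ?_, rfl⟩
  have hchar : (commutator S).Characteristic := by rw [commutator_def]; infer_instance
  exact (Subgroup.characteristic_iff_map_le.1 hchar β) ⟨y, hy, rfl⟩

theorem comm_mem_of_gens {L : Subgroup Ω} {k : Set Ω}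
    (hcen : ∀ l ∈ L, ∀ y ∈ Subgroup.closure k, y * l * y⁻¹ = l)
    (hgen : ∀ a ∈ k, ∀ b ∈ k, a * b * a⁻¹ * b⁻¹ ∈ L) :
    ∀ a ∈ Subgroup.closure k, ∀ b ∈ Subgroup.closure k, a * b * a⁻¹ * b⁻¹ ∈ L := by
  intro a ha b hb
  refine Subgroup.closure_induction₂ (p := fun a b _ _ => a * b * a⁻¹ * b⁻¹ ∈ L)
    ?_ ?_ ?_ ?_ ?_ ?_ ?_ ha hb
  · intro x y hx hy; exact hgen x hx y hy
  · intro x _; simp
  · intro x _; simp
  · intro x y z hx _ _ h1 h2
    have e : x * y * z * (x * y)⁻¹ * z⁻¹ =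
        (x * (y * z * y⁻¹ * z⁻¹) * x⁻¹) * (x * z * x⁻¹ * z⁻¹) := by group
    rw [e, hcen _ h2 x hx]; exact L.mul_mem h2 h1
  · intro y z x hy _ _ h1 h2
    have e : x * (y * z) * x⁻¹ * (y * z)⁻¹ =
        (x * y * x⁻¹ * y⁻¹) * (y * (x * z * x⁻¹ * z⁻¹) * y⁻¹) := by group
    rw [e, hcen _ h2 y hy]; exact L.mul_mem h1 h2
  · intro x y hx _ h
    have e : x⁻¹ * y * x⁻¹⁻¹ * y⁻¹ = x⁻¹ * (x * y * x⁻¹ * y⁻¹)⁻¹ * x⁻¹⁻¹ := by group
    rw [e, hcen _ (L.inv_mem h) x⁻¹ (Subgroup.inv_mem _ hx)]; exact L.inv_mem h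
  · intro x y _ hy h
    have e : x * y⁻¹ * x⁻¹ * y⁻¹⁻¹ = y⁻¹ * (x * y * x⁻¹ * y⁻¹)⁻¹ * y⁻¹⁻¹ := by group
    rw [e, hcen _ (L.inv_mem h) y⁻¹ (Subgroup.inv_mem _ hy)]; exact L.inv_mem h

theorem ess_D [Finite S] (p : ℕ) [Fact p.Prime] (hS : IsPGroup p S)
    (F : FusionSystem S) (hF : F.IsSaturated p) (hZ : (Subgroup.center ↥S).index ≤ p ^ 2)
    {E : Subgroup Ω} (hE : F.IsEssential p E) {t : Ω} (htS : t ∈ S) (htE : t ∉ E)
    (ht : t ∈ Subgroup.normalizer (E : Set Ω)) :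
    (∀ e : E, ((e⁻¹ * cAut E t ht e : E) : Ω) ∈ DS S) ∧
    (∀ d ∈ DS S, ∃ e : E, d = ((e⁻¹ * cAut E t ht e : E) : Ω)) ∧ Nat.card (DS S) = p := by
  obtain ⟨h1, h2⟩ := ess_basic p hS F hF hE
  obtain ⟨hc1, hc2⟩ := ess_card hS hZ h1 h2
  have hES : E ≤ S := h2.le
  haveI : Finite E := finite_of_le hES
  have hcomm := ess_comm (p := p) h1 hES hc1
  have hgen := ess_gen (p := p) hES hc2 htS htE
  have hG := cAut_good p hS F hF hZ hE htS htE ht
  have hcommE : ∀ a b : E, a * b = b * a := fun a b => Subtype.ext (hcomm a a.2 b b.2)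
  obtain ⟨L, hLcard, hL⟩ := range_w hcommE hG
  have hD1 : ∀ e : E, ((e⁻¹ * cAut E t ht e : E) : Ω) ∈ DS S := by
    intro e
    have h3 := comm_mem_DS (hES (E.inv_mem e.2)) htS
    have e1 : ((e⁻¹ * cAut E t ht e : E) : Ω) = (e : Ω)⁻¹ * t * ((e : Ω)⁻¹)⁻¹ * t⁻¹ := by
      show (e : Ω)⁻¹ * (t * (e : Ω) * t⁻¹) = _
      group
    rw [e1]; exact h3
  have hLmem : ∀ y : Ω, y ∈ L.map E.subtype ↔ ∃ e : E, y = ((e⁻¹ * cAut E t ht e : E) : Ω) := by
    intro y
    constructor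
    · rintro ⟨l, hl, rfl⟩
      obtain ⟨e, he⟩ := (hL l).1 hl
      exact ⟨e, by rw [he]; rfl⟩
    · rintro ⟨e, rfl⟩
      exact ⟨_, (hL _).2 ⟨e, rfl⟩, rfl⟩
  have hLD : L.map E.subtype ≤ DS S := by
    intro y hy
    obtain ⟨e, rfl⟩ := (hLmem y).1 hy
    exact hD1 e
  have hclos : Subgroup.closure ((E : Set Ω) ∪ {t}) = S := by
    rw [Subgroup.closure_union, Subgroup.closure_eq, ← Subgroup.zpowers_eq_closure, hgen]
  have hDL : DS S ≤ L.map E.subtype := by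
    unfold DS
    rw [Subgroup.commutator_le]
    intro a ha b hb
    rw [commutatorElement_def]
    rw [← hclos] at ha hb
    refine comm_mem_of_gens ?_ ?_ a ha b hb
    · intro l hl y hy
      rw [hclos] at hy
      have hlZ := DS_le_ZS hS hZ (hLD hl)
      rw [(mem_ZS.1 hlZ).2 y hy]; group
    · intro u hu v hv
      rcases hu with hu | hu <;> rcases hv with hv | hv
      · have h6 : u * v * u⁻¹ * v⁻¹ = 1 := by rw [hcomm u hu v hv]; group
        rw [h6]; exact Subgroup.one_mem _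
      · rw [Set.mem_singleton_iff] at hv
        rw [hv, hLmem]
        refine ⟨⟨u⁻¹, E.inv_mem hu⟩, ?_⟩
        show u * t * u⁻¹ * t⁻¹ = (u⁻¹)⁻¹ * (t * u⁻¹ * t⁻¹)
        group
      · rw [Set.mem_singleton_iff] at hu
        rw [hu, hLmem]
        refine ⟨⟨v, hv⟩, ?_⟩
        show t * v * t⁻¹ * v⁻¹ = v⁻¹ * (t * v * t⁻¹)
        have h5 : t * v * t⁻¹ ∈ E := ess_conj_mem hS hZ h1.le hES htS hv
        rw [hcomm _ (E.inv_mem hv) _ h5]
      · rw [Set.mem_singleton_iff] at hu hv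
        rw [hu, hv]
        have h6 : t * t * t⁻¹ * t⁻¹ = 1 := by group
        rw [h6]; exact Subgroup.one_mem _
  refine ⟨hD1, fun d hd => (hLmem d).1 (hDL hd), ?_⟩
  rw [le_antisymm hDL hLD, Subgroup.card_map_of_injective (Subgroup.subtype_injective _), hLcard]

theorem exists_pow_inner [Finite S] (p : ℕ) [Fact p.Prime] (hS : IsPGroup p S)
    (F : FusionSystem S) (hF : F.IsSaturated p) :
    ∃ m : ℕ, ¬ p ∣ m ∧ ∀ β ∈ F.autGroup S, ∃ s ∈ S, ∀ x : S,
      (((β ^ m) x : S) : Ω) = s * x * s⁻¹ := by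
  obtain ⟨-, R, hR⟩ := ((saturated_iff' p hS F).mp hF).1
  have h1 : autInducedBy S S = Cfsg.Inn S := by
    apply le_antisymm
    · intro α hα
      obtain ⟨g, hg, h⟩ := mem_autInducedBy_iff.1 hα
      exact ⟨⟨g, hg⟩, MulEquiv.ext fun x => Subtype.ext (h x).symm⟩
    · rintro _ ⟨g, rfl⟩
      exact mem_autInducedBy_iff.2 ⟨g, g.2, fun x => rfl⟩
  have hnorm : ((autInducedBy S S).subgroupOf (F.autGroup S)).Normal := by
    rw [h1]
    infer_instance
  refine ⟨((autInducedBy S S).subgroupOf (F.autGroup S)).index, ?_, ?_⟩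
  · rw [← hR]; exact R.not_dvd_index
  · intro β hβ
    have h2 := Subgroup.pow_index_mem ((autInducedBy S S).subgroupOf (F.autGroup S))
      (⟨β, hβ⟩ : F.autGroup S)
    rw [Subgroup.mem_subgroupOf] at h2
    simp only [Subgroup.coe_pow] at h2
    obtain ⟨s, hs, hsx⟩ := mem_autInducedBy_iff.1 h2
    exact ⟨s, hs, fun x => hsx x⟩

end Cfsg.Agent.Helper27.CI
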