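import Mathlib
import Cfsg.Agent.Helper17.Extra3
import Cfsg.Agent.Helper16.FrattiniResidual
import Cfsg.Agent.Helper24.Critical

set_option autoImplicit false

namespace Cfsg.Agent.Helper27.CI

open scoped commutatorElement

theorem fix_zpow {E : Type*} [Group E] (φ : MulAut E) {x : E} (h : φ x = x) (k : ℤ) :
    (φ ^ k) x = x := by
  have h1 : φ ∈ MulAction.stabilizer (MulAut E) x := MulAction.mem_stabilizer_iff.2 h
  exact MulAction.mem_stabilizer_iff.1 (Subgroup.zpow_mem _ h1 k)

theorem class2_pow {P : Type*} [Group P] (x y c : P) (hc : y * x = c * (x * y))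
    (hcen : ∀ g : P, g * c = c * g) (n : ℕ) :
    (x * y) ^ n = c ^ (∑ i ∈ Finset.range n, i) * (x ^ n * y ^ n) := by
  have hcc : ∀ (k : ℕ) (g : P), g * c ^ k = c ^ k * g := by
    intro k g
    exact ((Commute.pow_right (hcen g) k)).eq
  have h1 : ∀ k : ℕ, y ^ k * x = c ^ k * (x * y ^ k) := by
    intro k
    induction k with
    | zero => simp
    | succ k ih =>
      calc y ^ (k + 1) * x = y * (y ^ k * x) := by rw [pow_succ']; group
        _ = y * (c ^ k * (x * y ^ k)) := by rw [ih]
        _ = c ^ k * ((y * x) * y ^ k) := by rw [← mul_assoc, hcc k y]; group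
        _ = c ^ k * (c * (x * y) * y ^ k) := by rw [hc]
        _ = c ^ (k + 1) * (x * y ^ (k + 1)) := by rw [pow_succ, pow_succ']; group
  induction n with
  | zero => simp
  | succ n ih =>
    rw [Finset.sum_range_succ]
    calc (x * y) ^ (n + 1) = (x * y) ^ n * (x * y) := pow_succ _ _
      _ = c ^ (∑ i ∈ Finset.range n, i) * (x ^ n * y ^ n) * (x * y) := by rw [ih]
      _ = c ^ (∑ i ∈ Finset.range n, i) * (x ^ n * (y ^ n * x) * y) := by group
      _ = c ^ (∑ i ∈ Finset.range n, i) * (x ^ n * (c ^ n * (x * y ^ n)) * y) := by rw [h1 n]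
      _ = c ^ (∑ i ∈ Finset.range n, i) * (c ^ n * (x ^ n * (x * y ^ n)) * y) := by
          rw [← mul_assoc (x ^ n) (c ^ n), hcc n (x ^ n)]; group
      _ = c ^ (∑ i ∈ Finset.range n, i + n) * (x ^ (n + 1) * y ^ (n + 1)) := by
          rw [pow_add, pow_succ, pow_succ]; group

theorem class2_pow_odd {P : Type*} [Group P] {p : ℕ} (hodd : Odd p) (x y c : P)
    (hc : y * x = c * (x * y)) (hcen : ∀ g : P, g * c = c * g) (hcp : c ^ p = 1) :
    (x * y) ^ p = x ^ p * y ^ p := by
  rw [class2_pow x y c hc hcen p]
  obtain ⟨j, hj⟩ := hodd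
  have h2 : (∑ i ∈ Finset.range p, i) = p * j := by
    have h3 := Finset.sum_range_id_mul_two p
    have h4 : p * (p - 1) = p * j * 2 := by
      rw [hj]; simp; ring
    rw [h4] at h3
    exact Nat.eq_of_mul_eq_mul_right (by norm_num) h3
  rw [h2, pow_mul, hcp, one_pow, one_mul]

theorem extraspecial_of_card {P : Type*} [Group P] [Finite P] {p : ℕ} [Fact p.Prime]
    (hP : IsPGroup p P) (hcard : Nat.card P = p ^ 3) (hZ : Nat.card (Subgroup.center P) = p) :
    Cfsg.IsExtraspecial p P := by
  have hpp : p.Prime := Fact.out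
  obtain ⟨hcomm, hpow⟩ := Cfsg.Agent.Helper17.order_p_cube_facts hcard hZ
  have hcle : commutator P ≤ Subgroup.center P := by
    rw [commutator_def, Subgroup.commutator_le]
    intro a _ b _
    rw [commutatorElement_def]
    exact hcomm a b
  have hcne : commutator P ≠ ⊥ := by
    intro h
    have hab : ∀ a b : P, a * b = b * a := by
      intro a b
      have h1 : ⁅a, b⁆ ∈ commutator P := by
        rw [commutator_def]
        exact Subgroup.commutator_mem_commutator (Subgroup.mem_top a) (Subgroup.mem_top b)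
      rw [h, Subgroup.mem_bot, commutatorElement_def] at h1
      calc a * b = (a * b * a⁻¹ * b⁻¹) * (b * a) := by group
        _ = b * a := by rw [h1, one_mul]
    have htop : Subgroup.center P = ⊤ := by
      rw [eq_top_iff]
      intro g _
      rw [Subgroup.mem_center_iff]
      intro h'
      exact hab h' g
    rw [htop, Subgroup.card_top, hcard] at hZ
    have h3 : p ^ 3 = p ^ 1 := by rw [hZ, pow_one]
    have := Nat.pow_right_injective hpp.two_le h3
    omega
  have hceq : commutator P = Subgroup.center P := by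
    apply Subgroup.eq_of_le_of_card_ge hcle
    have hd : Nat.card (commutator P) ∣ p := hZ ▸ Subgroup.card_dvd_of_le hcle
    rcases (Nat.dvd_prime hpp).1 hd with h1 | h1
    · exact absurd (Subgroup.eq_bot_of_card_eq _ h1) hcne
    · rw [hZ, h1]
  haveI : Group.IsNilpotent P := hP.isNilpotent
  have hfr1 : Subgroup.center P ≤ frattini P := by
    rw [← hceq]
    exact Cfsg.Agent.Helper16.commutator_le_frattini_of_nilpotent
  have hfr2 : frattini P ≤ Subgroup.center P := by
    apply Cfsg.Agent.Helper24.frattini_le_of_elementary_quotient hpp (Subgroup.center P)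
    · intro x y
      rw [commutatorElement_def]
      exact hcomm x y
    · exact hpow
  exact ⟨⟨hP, le_antisymm hfr2 hfr1, hceq⟩, hZ⟩

end Cfsg.Agent.Helper27.CI
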