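import Cfsg.Agent.Helper27.CIe
import Cfsg.Agent.Helper27.CIf

set_option autoImplicit false

namespace Cfsg.Agent.Helper27.CI

open Cfsg Cfsg.FusionSystem Cfsg.Agent.Helper26

variable {Ω : Type*} [Group Ω] {S : Subgroup Ω}

theorem ess_setup [Finite S] (p : ℕ) [Fact p.Prime] (hS : IsPGroup p S)
    (F : FusionSystem S) (hF : F.IsSaturated p) (hZ : (Subgroup.center ↥S).index ≤ p ^ 2)
    {E : Subgroup Ω} (hE : F.IsEssential p E) :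
    ∃ c : MulAut E, Good p (F.autGroup E) c ∧ (∀ x : E, c x = x ↔ (x : Ω) ∈ ZS S) ∧
      (∀ e : E, ((e⁻¹ * c e : E) : Ω) ∈ DS S) ∧
      (∀ d ∈ DS S, ∃ e : E, d = ((e⁻¹ * c e : E) : Ω)) ∧
      (∃ g ∈ F.autGroup E, g * c * g⁻¹ ∉ Subgroup.zpowers c) ∧
      (∀ n ∈ F.autGroup E, n * c = c * n →
        ∃ β ∈ F.autGroup S, ∀ x : E, ((β ⟨x, hE.1.1 x.2⟩ : S) : Ω) = n x) := by
  obtain ⟨h1, h2⟩ := ess_basic p hS F hF hE
  obtain ⟨hc1, hc2⟩ := ess_card hS hZ h1 h2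
  have hES : E ≤ S := h2.le
  have hcomm := ess_comm (p := p) h1 hES hc1
  obtain ⟨t, htS, htE⟩ := SetLike.exists_of_lt h2
  have ht : t ∈ Subgroup.normalizer (E : Set Ω) := ess_normalizer hS hZ h1.le hES htS
  have hgen := ess_gen (p := p) hES hc2 htS htE
  obtain ⟨hD1, hD2, -⟩ := ess_D p hS F hF hZ hE htS htE ht
  exact ⟨cAut E t ht, cAut_good p hS F hF hZ hE htS htE ht,
    cAut_fix_iff hES hcomm htS ht hgen, hD1, hD2,
    exists_nonnormal p hS F hF hZ hE htS htE ht,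
    fun n hn hnc => extend_aut p hS F hF hZ hE htS htE ht hn hnc⟩

theorem card_DS [Finite S] (p : ℕ) [Fact p.Prime] (hS : IsPGroup p S)
    (F : FusionSystem S) (hF : F.IsSaturated p) (hZ : (Subgroup.center ↥S).index ≤ p ^ 2)
    {E : Subgroup Ω} (hE : F.IsEssential p E) : Nat.card (DS S) = p := by
  obtain ⟨h1, h2⟩ := ess_basic p hS F hF hE
  have hES : E ≤ S := h2.le
  obtain ⟨t, htS, htE⟩ := SetLike.exists_of_lt h2
  have ht : t ∈ Subgroup.normalizer (E : Set Ω) := ess_normalizer hS hZ h1.le hES htS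
  exact (ess_D p hS F hF hZ hE htS htE ht).2.2

theorem exists_essential [Finite S] (p : ℕ) [Fact p.Prime] (hS : IsPGroup p S)
    (F : FusionSystem S) (hF : F.IsSaturated p) (hS1 : S ≠ ⊥) (hcore : F.core = ⊥) :
    ∃ E₀, F.IsEssential p E₀ := by
  by_contra hno
  push_neg at hno
  apply hS1
  apply eq_bot_of_normal F hcore
  apply normal_of_inv p hS F hF
  intro P hP
  rcases hP with hP | hP
  · rw [hP]; exact ⟨le_rfl, fun α _ x _ => (α x).2⟩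
  · exact absurd hP (hno P)

theorem ZS_char (β : MulAut S) (ζ : S) (h : (ζ : Ω) ∈ ZS S) : ((β ζ : S) : Ω) ∈ ZS S := by
  refine mem_ZS.2 ⟨(β ζ).2, fun y hy => ?_⟩
  have h1 : β⁻¹ ⟨y, hy⟩ * ζ = ζ * β⁻¹ ⟨y, hy⟩ :=
    Subtype.ext ((mem_ZS.1 h).2 _ (β⁻¹ ⟨y, hy⟩).2)
  have h2 := congrArg β h1
  rw [map_mul, map_mul, MulAut.apply_inv_self] at h2
  exact congrArg Subtype.val h2

/-- An automorphism inverting `S'` and acting trivially on `Z(S)/S'`. -/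
def InvAct (α : MulAut S) : Prop :=
  (∀ d : S, (d : Ω) ∈ DS S → α d = d⁻¹) ∧
    (∀ ζ : S, (ζ : Ω) ∈ ZS S → ((ζ⁻¹ * α ζ : S) : Ω) ∈ DS S)

theorem InvAct.conj {α : MulAut S} (hα : InvAct α) (β : MulAut S) : InvAct (β * α * β⁻¹) := by
  refine ⟨fun d hd => ?_, fun ζ hζ => ?_⟩
  · rw [MulAut.mul_apply, MulAut.mul_apply, hα.1 _ (DS_char β⁻¹ d hd), map_inv,
      MulAut.apply_inv_self]
  · have h1 := DS_char β _ (hα.2 _ (ZS_char β⁻¹ ζ hζ))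
    have e : β ((β⁻¹ ζ)⁻¹ * α (β⁻¹ ζ)) = ζ⁻¹ * (β * α * β⁻¹) ζ := by
      rw [map_mul, map_inv, MulAut.apply_inv_self, MulAut.mul_apply, MulAut.mul_apply]
    rw [e] at h1
    exact h1

theorem indep [Finite S] (p : ℕ) [Fact p.Prime] (hS : IsPGroup p S)
    (F : FusionSystem S) (hF : F.IsSaturated p) (hZ : (Subgroup.center ↥S).index ≤ p ^ 2)
    (hD : Nat.card (DS S) = p) {α₁ α₂ : MulAut S} (h₁ : α₁ ∈ F.autGroup S)
    (h₂ : α₂ ∈ F.autGroup S) (i₁ : InvAct α₁) (i₂ : InvAct α₂) :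
    ∀ ζ : S, (ζ : Ω) ∈ ZS S → α₁ ζ = α₂ ζ := by
  obtain ⟨m, hm, hinn⟩ := exists_pow_inner p hS F hF
  intro ζ hζ
  have hγ : α₁⁻¹ * α₂ ∈ F.autGroup S :=
    (F.autGroup S).mul_mem ((F.autGroup S).inv_mem h₁) h₂
  have hγD : ∀ d : S, (d : Ω) ∈ DS S → (α₁⁻¹ * α₂) d = d := by
    intro d hd
    rw [MulAut.mul_apply, i₂.1 d hd, ← i₁.1 d hd, MulAut.inv_apply_self]
  have hδ : ((ζ⁻¹ * (α₁⁻¹ * α₂) ζ : S) : Ω) ∈ DS S := by
    have e1 : ζ⁻¹ * (α₁⁻¹ * α₂) ζ =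
        ((α₁⁻¹ ζ)⁻¹ * α₁ (α₁⁻¹ ζ))⁻¹ * α₁⁻¹ (ζ⁻¹ * α₂ ζ) := by
      rw [MulAut.apply_inv_self, MulAut.mul_apply, map_mul, map_inv]; group
    rw [e1]
    exact (DS S).mul_mem ((DS S).inv_mem (i₁.2 _ (ZS_char α₁⁻¹ ζ hζ)))
      (DS_char α₁⁻¹ _ (i₂.2 ζ hζ))
  obtain ⟨δ, hδdef⟩ : ∃ δ : S, δ = ζ⁻¹ * (α₁⁻¹ * α₂) ζ := ⟨_, rfl⟩
  rw [← hδdef] at hδ
  have hγζ : (α₁⁻¹ * α₂) ζ = ζ * δ := by rw [hδdef]; group
  have hγδ : (α₁⁻¹ * α₂) δ = δ := hγD δ hδ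
  have hpow : ∀ k : ℕ, ((α₁⁻¹ * α₂) ^ k) ζ = ζ * δ ^ k := by
    intro k
    induction k with
    | zero => simp
    | succ k ih =>
      rw [pow_succ', MulAut.mul_apply, ih, map_mul, map_pow, hγζ, hγδ, pow_succ']; group
  obtain ⟨s, hs, hsx⟩ := hinn _ hγ
  have hδm : δ ^ m = 1 := by
    have h3 := hpow m
    have h4 : ((α₁⁻¹ * α₂) ^ m) ζ = ζ := by
      apply Subtype.ext
      rw [hsx ζ, (mem_ZS.1 hζ).2 s hs]; group
    rw [h4] at h3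
    exact mul_eq_left.1 h3.symm
  have hδp : δ ^ p = 1 := by
    have h5 : (⟨(δ : Ω), hδ⟩ : DS S) ^ Nat.card (DS S) = 1 := pow_card_eq_one'
    rw [hD] at h5
    apply Subtype.ext
    have h6 := congrArg Subtype.val h5
    simpa using h6
  have hδ1 : δ = 1 := by
    have h6 : δ ^ Nat.gcd m p = 1 := pow_gcd_eq_one.2 ⟨hδm, hδp⟩
    have h7 : Nat.gcd m p = 1 := by
      rw [Nat.gcd_comm]; exact (Nat.Prime.coprime_iff_not_dvd Fact.out).2 hm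
    rwa [h7, pow_one] at h6
  rw [hδ1, mul_one] at hγζ
  have h8 := congrArg α₁ hγζ
  rw [MulAut.mul_apply, MulAut.apply_inv_self] at h8
  exact h8.symm

theorem odd_alpha [Finite S] (p : ℕ) [Fact p.Prime] (hp2 : p ≠ 2) (hS : IsPGroup p S)
    (F : FusionSystem S) (hF : F.IsSaturated p) (hZ : (Subgroup.center ↥S).index ≤ p ^ 2)
    {E : Subgroup Ω} (hE : F.IsEssential p E) {c : MulAut E} (hG : Good p (F.autGroup E) c)
    (hfix : ∀ x : E, c x = x ↔ (x : Ω) ∈ ZS S)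
    (hD1 : ∀ e : E, ((e⁻¹ * c e : E) : Ω) ∈ DS S)
    (hD2 : ∀ d ∈ DS S, ∃ e : E, d = ((e⁻¹ * c e : E) : Ω))
    (hext : ∀ n ∈ F.autGroup E, n * c = c * n →
      ∃ β ∈ F.autGroup S, ∀ x : E, ((β ⟨x, hE.1.1 x.2⟩ : S) : Ω) = n x)
    {g : MulAut E} (hg : g ∈ F.autGroup E) (hgc : g * c * g⁻¹ ∉ Subgroup.zpowers c) :
    ∃ α ∈ F.autGroup S, InvAct α ∧ ∀ x : E, c x = x →
      (α ⟨x, hE.1.1 x.2⟩ = ⟨x, hE.1.1 x.2⟩ ↔ (g * c * g⁻¹) x = x) := by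
  have hES := hE.1.1
  obtain ⟨h1, h2⟩ := ess_basic p hS F hF hE
  obtain ⟨hc1, hc2⟩ := ess_card hS hZ h1 h2
  have hcomm := ess_comm (p := p) h1 hES hc1
  have hcommE : ∀ a b : E, a * b = b * a := fun a b => Subtype.ext (hcomm a a.2 b b.2)
  haveI : Finite E := finite_of_le hES
  have hGy := hG.conj hg
  obtain ⟨h, hhG, hhc, hhm, hhL⟩ := odd_main hcommE hG hGy hgc
  obtain ⟨α, hαA, hα⟩ := hext h hhG hhc
  refine ⟨α, hαA, ⟨?_, ?_⟩, ?_⟩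
  · intro d hd
    obtain ⟨e, he⟩ := hD2 _ hd
    have hd' : d = ⟨((e⁻¹ * c e : E) : Ω), hES (e⁻¹ * c e).2⟩ := Subtype.ext he
    rw [hd']
    apply Subtype.ext
    rw [hα (e⁻¹ * c e), hhL e]
    rfl
  · intro ζ hζ
    have hζE : (ζ : Ω) ∈ E := h1.le hζ
    obtain ⟨m, e, hm1, hm2, hdec⟩ :=
      decomp_fix_w hcommE hG hGy hgc (ζ := ⟨ζ, hζE⟩) ((hfix _).2 hζ)
    have hαζ : ((α ζ : S) : Ω) = (m : Ω) * ((e⁻¹ * c e : E) : Ω)⁻¹ := by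
      have h3 : ((α ζ : S) : Ω) = ((h ⟨ζ, hζE⟩ : E) : Ω) := hα ⟨ζ, hζE⟩
      rw [hdec, map_mul, hhm m hm1 hm2, hhL e] at h3
      exact h3
    have hζv : (ζ : Ω) = (m : Ω) * ((e⁻¹ * c e : E) : Ω) := congrArg Subtype.val hdec
    show (ζ : Ω)⁻¹ * ((α ζ : S) : Ω) ∈ DS S
    rw [hαζ, hζv]
    have e2 : ((m : Ω) * ((e⁻¹ * c e : E) : Ω))⁻¹ * ((m : Ω) * ((e⁻¹ * c e : E) : Ω)⁻¹) =
        ((e⁻¹ * c e : E) : Ω)⁻¹ * ((e⁻¹ * c e : E) : Ω)⁻¹ := by group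
    rw [e2]
    exact (DS S).mul_mem ((DS S).inv_mem (hD1 e)) ((DS S).inv_mem (hD1 e))
  · intro x hx
    have hαx : α ⟨x, hES x.2⟩ = ⟨x, hES x.2⟩ ↔ h x = x := by
      constructor
      · intro h3; apply Subtype.ext; rw [← hα x, h3]
      · intro h3; apply Subtype.ext; rw [hα x, h3]
    rw [hαx]
    constructor
    · intro h3
      obtain ⟨m, e, hm1, hm2, hdec⟩ := decomp_fix_w hcommE hG hGy hgc hx
      rw [hdec, map_mul, hhm m hm1 hm2, hhL e] at h3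
      have h4 : (e⁻¹ * c e)⁻¹ = e⁻¹ * c e := mul_left_cancel h3
      have h5 : (e⁻¹ * c e) * (e⁻¹ * c e) = 1 := by
        have h6 := inv_mul_cancel (e⁻¹ * c e)
        rwa [h4] at h6
      have h6 : (e⁻¹ * c e) ^ p = 1 := pow_range_w hcommE hG e
      have h7 : e⁻¹ * c e = 1 := by
        obtain ⟨j, hj⟩ := (Nat.Prime.eq_two_or_odd' Fact.out).resolve_left hp2
        rw [hj, pow_succ, pow_mul, pow_two, h5, one_pow, one_mul] at h6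
        exact h6
      rw [hdec, h7, mul_one]
      exact hm2
    · intro h3
      exact hhm x hx h3

end Cfsg.Agent.Helper27.CI
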