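import Cfsg.Agent.Helper27.CIg

set_option autoImplicit false

namespace Cfsg.Agent.Helper27.CI

open Cfsg Cfsg.FusionSystem Cfsg.Agent.Helper26

variable {Ω : Type*} [Group Ω] {S : Subgroup Ω}

theorem odd_case [Finite S] (p : ℕ) [Fact p.Prime] (hp2 : p ≠ 2) (hS : IsPGroup p S)
    (F : FusionSystem S) (hF : F.IsSaturated p) (hS1 : S ≠ ⊥) (hcore : F.core = ⊥)
    (hZ : (Subgroup.center ↥S).index ≤ p ^ 2) :
    Nat.card S = p ^ 3 ∧ Nat.card (ZS S) = p ∧ ∀ x ∈ S, x ^ p = 1 := by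
  have hpp : p.Prime := Fact.out
  obtain ⟨E₀, hE₀⟩ := exists_essential p hS F hF hS1 hcore
  obtain ⟨c₀, hG₀, hfix₀, hD1₀, hD2₀, ⟨g₀, hg₀, hgc₀⟩, hext₀⟩ := ess_setup p hS F hF hZ hE₀
  have hDcard : Nat.card (DS S) = p := card_DS p hS F hF hZ hE₀
  obtain ⟨α₀, hα₀A, hα₀I, hα₀fix⟩ :=
    odd_alpha p hp2 hS F hF hZ hE₀ hG₀ hfix₀ hD1₀ hD2₀ hext₀ hg₀ hgc₀
  obtain ⟨M, hM⟩ : ∃ M : Subgroup Ω, ∀ x : Ω, x ∈ M ↔
      ∃ hx : x ∈ S, x ∈ ZS S ∧ α₀ ⟨x, hx⟩ = ⟨x, hx⟩ := by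
    refine ⟨(fixSub α₀ ⊓ (ZS S).subgroupOf S).map S.subtype, fun x => ?_⟩
    constructor
    · rintro ⟨y, ⟨hy1, hy2⟩, rfl⟩
      exact ⟨y.2, Subgroup.mem_subgroupOf.1 hy2, hy1⟩
    · rintro ⟨hx, hx1, hx2⟩
      exact ⟨⟨x, hx⟩, ⟨hx2, Subgroup.mem_subgroupOf.2 hx1⟩, rfl⟩
  have hMZ : M ≤ ZS S := fun x hx => by
    obtain ⟨_, h, _⟩ := (hM x).1 hx; exact h
  have hME : ∀ (E : Subgroup Ω) (hE : F.IsEssential p E) (c : MulAut E),
      Good p (F.autGroup E) c → (∀ x : E, c x = x ↔ (x : Ω) ∈ ZS S) →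
      (∀ e : E, ((e⁻¹ * c e : E) : Ω) ∈ DS S) →
      (∀ d ∈ DS S, ∃ e : E, d = ((e⁻¹ * c e : E) : Ω)) →
      (∀ n ∈ F.autGroup E, n * c = c * n →
        ∃ β ∈ F.autGroup S, ∀ x : E, ((β ⟨x, hE.1.1 x.2⟩ : S) : Ω) = n x) →
      ∀ g ∈ F.autGroup E, g * c * g⁻¹ ∉ Subgroup.zpowers c →
      ∀ x : E, (x : Ω) ∈ M ↔ (c x = x ∧ (g * c * g⁻¹) x = x) := by
    intro E hE c hG hfix hD1 hD2 hext g hg hgc x
    obtain ⟨α, hαA, hαI, hαfix⟩ := odd_alpha p hp2 hS F hF hZ hE hG hfix hD1 hD2 hext hg hgc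
    have hind := indep p hS F hF hZ hDcard hα₀A hαA hα₀I hαI
    rw [hM]
    constructor
    · rintro ⟨hx, hxZ, hxα⟩
      have hcx : c x = x := (hfix x).2 hxZ
      refine ⟨hcx, (hαfix x hcx).1 ?_⟩
      rw [← hind ⟨x, hx⟩ hxZ]; exact hxα
    · rintro ⟨hcx, hyx⟩
      have hxZ := (hfix x).1 hcx
      refine ⟨hE.1.1 x.2, hxZ, ?_⟩
      rw [hind ⟨x, _⟩ hxZ]; exact (hαfix x hcx).2 hyx
  have hMnormal : F.IsNormal M := by
    apply normal_of_inv p hS F hF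
    intro P hP
    rcases hP with hP | hP
    · rw [hP]
      refine ⟨hMZ.trans ZS_le, fun β hβ x hx => ?_⟩
      obtain ⟨hxS, hxZ, hxα⟩ := (hM _).1 hx
      rw [hM]
      refine ⟨(β x).2, ZS_char β x hxZ, ?_⟩
      have hI' : InvAct (β * α₀ * β⁻¹) := hα₀I.conj β
      have hA' : β * α₀ * β⁻¹ ∈ F.autGroup S :=
        (F.autGroup S).mul_mem ((F.autGroup S).mul_mem hβ hα₀A) ((F.autGroup S).inv_mem hβ)
      have hind := indep p hS F hF hZ hDcard hα₀A hA' hα₀I hI' (β x) (ZS_char β x hxZ)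
      have hxα' : α₀ x = x := hxα
      show α₀ (β x) = β x
      rw [hind, MulAut.mul_apply, MulAut.mul_apply, MulAut.inv_apply_self, hxα']
    · have hES : P ≤ S := hP.1.1
      obtain ⟨h1, h2⟩ := ess_basic p hS F hF hP
      refine ⟨hMZ.trans h1.le, fun g' hg' x hx => ?_⟩
      obtain ⟨c, hG, hfix, hD1, hD2, ⟨g, hg, hgc⟩, hext⟩ := ess_setup p hS F hF hZ hP
      have key := hME P hP c hG hfix hD1 hD2 hext
      have hK : ∀ g'' ∈ F.autGroup P, ∀ x : P, (x : Ω) ∈ M → (g'' * c * g''⁻¹) x = x := by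
        intro g'' hg'' x hx
        by_cases hz : g'' * c * g''⁻¹ ∈ Subgroup.zpowers c
        · obtain ⟨k, hk⟩ := Subgroup.mem_zpowers_iff.1 hz
          rw [← hk]; exact fix_zpow c ((key g hg hgc x).1 hx).1 k
        · exact ((key g'' hg'' hz x).1 hx).2
      rw [key g hg hgc]
      constructor
      · have h3 := hK g'⁻¹ ((F.autGroup P).inv_mem hg') x hx
        simp only [MulAut.mul_apply, inv_inv] at h3
        have h4 := congrArg g' h3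
        simpa using h4
      · have h3 := hK (g'⁻¹ * g) ((F.autGroup P).mul_mem ((F.autGroup P).inv_mem hg') hg) x hx
        simp only [MulAut.mul_apply, mul_inv_rev, inv_inv] at h3
        have h4 := congrArg g' h3
        simpa [MulAut.mul_apply] using h4
  have hMbot : M = ⊥ := eq_bot_of_normal F hcore hMnormal
  have hMtriv : ∀ (E : Subgroup Ω) (hE : F.IsEssential p E) (c : MulAut E),
      Good p (F.autGroup E) c → (∀ x : E, c x = x ↔ (x : Ω) ∈ ZS S) →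
      (∀ e : E, ((e⁻¹ * c e : E) : Ω) ∈ DS S) →
      (∀ d ∈ DS S, ∃ e : E, d = ((e⁻¹ * c e : E) : Ω)) →
      (∀ n ∈ F.autGroup E, n * c = c * n →
        ∃ β ∈ F.autGroup S, ∀ x : E, ((β ⟨x, hE.1.1 x.2⟩ : S) : Ω) = n x) →
      ∀ g ∈ F.autGroup E, g * c * g⁻¹ ∉ Subgroup.zpowers c →
      ∀ m : E, c m = m → (g * c * g⁻¹) m = m → m = 1 := by
    intro E hE c hG hfix hD1 hD2 hext g hg hgc m hm1 hm2
    have h3 : (m : Ω) ∈ M := (hME E hE c hG hfix hD1 hD2 hext g hg hgc m).2 ⟨hm1, hm2⟩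
    rw [hMbot, Subgroup.mem_bot] at h3
    exact Subtype.ext h3
  -- structure of essentials
  have hexpE : ∀ (E : Subgroup Ω), F.IsEssential p E → ∀ x ∈ E, x ^ p = 1 := by
    intro E hE x hx
    obtain ⟨c, hG, hfix, hD1, hD2, ⟨g, hg, hgc⟩, hext⟩ := ess_setup p hS F hF hZ hE
    obtain ⟨h1, h2⟩ := ess_basic p hS F hF hE
    obtain ⟨hc1, hc2⟩ := ess_card hS hZ h1 h2
    have hcomm := ess_comm (p := p) h1 h2.le hc1
    have hcommE : ∀ a b : E, a * b = b * a := fun a b => Subtype.ext (hcomm a a.2 b b.2)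
    haveI : Finite E := finite_of_le h2.le
    obtain ⟨m, w, hm1, hm2, hdec, hw⟩ := decomp_pow_w hcommE hG (hG.conj hg) hgc ⟨x, hx⟩
    have hm := hMtriv E hE c hG hfix hD1 hD2 hext g hg hgc m hm1 hm2
    rw [hm, one_mul] at hdec
    have h5 : (⟨x, hx⟩ : E) ^ p = 1 := by rw [hdec]; exact hw
    have h6 := congrArg Subtype.val h5
    simpa using h6
  obtain ⟨h1₀, h2₀⟩ := ess_basic p hS F hF hE₀
  obtain ⟨hc1₀, hc2₀⟩ := ess_card hS hZ h1₀ h2₀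
  have hES₀ : E₀ ≤ S := h2₀.le
  have hcomm₀ := ess_comm (p := p) h1₀ hES₀ hc1₀
  have hcommE₀ : ∀ a b : E₀, a * b = b * a := fun a b => Subtype.ext (hcomm₀ a a.2 b b.2)
  haveI : Finite E₀ := finite_of_le hES₀
  have hZD : ZS S ≤ DS S := by
    intro ζ hζ
    have hζE : ζ ∈ E₀ := h1₀.le hζ
    obtain ⟨m, e, hm1, hm2, hdec⟩ :=
      decomp_fix_w hcommE₀ hG₀ (hG₀.conj hg₀) hgc₀ (ζ := ⟨ζ, hζE⟩) ((hfix₀ _).2 hζ)
    have hm := hMtriv E₀ hE₀ c₀ hG₀ hfix₀ hD1₀ hD2₀ hext₀ g₀ hg₀ hgc₀ m hm1 hm2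
    rw [hm, one_mul] at hdec
    have h3 := hD1₀ e
    rw [← hdec] at h3
    exact h3
  have hZcard : Nat.card (ZS S) = p := by
    rw [le_antisymm hZD (DS_le_ZS hS hZ), hDcard]
  have hScard : Nat.card S = p ^ 3 := by
    rw [hc2₀, hc1₀, hZcard]; ring
  refine ⟨hScard, hZcard, ?_⟩
  -- exponent
  by_contra hexp
  push_neg at hexp
  obtain ⟨x₀, hx₀S, hx₀⟩ := hexp
  have hodd : Odd p := (Nat.Prime.eq_two_or_odd' hpp).resolve_left hp2
  have hmulp : ∀ x ∈ S, ∀ y ∈ S, x ^ p = 1 → y ^ p = 1 → (x * y) ^ p = 1 := by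
    intro x hx y hy hxp hyp
    have hcS : y * x * y⁻¹ * x⁻¹ ∈ DS S := comm_mem_DS hy hx
    have hcZ := DS_le_ZS hS hZ hcS
    have hcp : (⟨y * x * y⁻¹ * x⁻¹, (mem_ZS.1 hcZ).1⟩ : S) ^ p = 1 := by
      have h5 : (⟨y * x * y⁻¹ * x⁻¹, hcS⟩ : DS S) ^ Nat.card (DS S) = 1 := pow_card_eq_one'
      rw [hDcard] at h5
      apply Subtype.ext
      have h6 := congrArg Subtype.val h5
      simpa using h6
    have h7 := class2_pow_odd hodd (⟨x, hx⟩ : S) ⟨y, hy⟩ ⟨y * x * y⁻¹ * x⁻¹, (mem_ZS.1 hcZ).1⟩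
      (by apply Subtype.ext; show y * x = y * x * y⁻¹ * x⁻¹ * (x * y); group)
      (fun g => Subtype.ext ((mem_ZS.1 hcZ).2 g g.2)) hcp
    have h8 := congrArg Subtype.val h7
    simp only [Subgroup.coe_pow, Subgroup.coe_mul] at h8
    rw [h8, hxp, hyp, one_mul]
  obtain ⟨W, hW⟩ : ∃ W : Subgroup Ω, ∀ x, x ∈ W ↔ x ∈ S ∧ x ^ p = 1 :=
    ⟨{ carrier := {x | x ∈ S ∧ x ^ p = 1}
       mul_mem' := fun {a b} ha hb => ⟨S.mul_mem ha.1 hb.1, hmulp a ha.1 b hb.1 ha.2 hb.2⟩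
       one_mem' := ⟨S.one_mem, one_pow p⟩
       inv_mem' := fun {a} ha => ⟨S.inv_mem ha.1, by rw [inv_pow, ha.2, inv_one]⟩ },
      fun x => Iff.rfl⟩
  have hWS : W ≤ S := fun x hx => ((hW x).1 hx).1
  have hWE : ∀ E, F.IsEssential p E → E = W := by
    intro E hE
    obtain ⟨h1, h2⟩ := ess_basic p hS F hF hE
    obtain ⟨hc1, hc2⟩ := ess_card hS hZ h1 h2
    have hEW : E ≤ W := fun x hx => (hW x).2 ⟨h2.le hx, hexpE E hE x hx⟩
    by_contra hne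
    have hlt : E < W := lt_of_le_of_ne hEW hne
    have hWeq : W = S := eq_of_prime_step (p := p) hlt hWS hc2
    have h9 : x₀ ∈ W := by rw [hWeq]; exact hx₀S
    exact hx₀ ((hW x₀).1 h9).2
  have hWnormal : F.IsNormal W := by
    apply normal_of_inv p hS F hF
    intro P hP
    rcases hP with hP | hP
    · rw [hP]
      refine ⟨hWS, fun β _ x hx => ?_⟩
      rw [hW] at hx ⊢
      refine ⟨(β x).2, ?_⟩
      have h5 : x ^ p = 1 := Subtype.ext (by simpa using hx.2)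
      have h6 : (β x) ^ p = 1 := by rw [← map_pow, h5, map_one]
      have h7 := congrArg Subtype.val h6
      simpa using h7
    · have hPW := hWE P hP
      refine ⟨hPW.ge, fun α _ x _ => ?_⟩
      rw [← hPW]; exact (α x).2
  have hWbot : W = ⊥ := eq_bot_of_normal F hcore hWnormal
  have hE₀W := hWE E₀ hE₀
  have hZbot : ZS S = ⊥ := by
    rw [eq_bot_iff, ← hWbot, ← hE₀W]; exact h1₀.le
  rw [hZbot, Subgroup.card_bot] at hZcard
  exact hpp.one_lt.ne hZcard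

end Cfsg.Agent.Helper27.CI
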