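import Cfsg.Agent.Helper27.CIg
import Cfsg.Agent.Helper26.FusionAlperin

set_option autoImplicit false

namespace Cfsg.Agent.Helper27.CI

open Cfsg Cfsg.FusionSystem Cfsg.Agent.Helper26

variable {Ω : Type*} [Group Ω] {S : Subgroup Ω}

/-- Maps of `F` moving every element within its coset of `N`. -/
def modHom (F : FusionSystem S) (N : Subgroup Ω) (P : Subgroup Ω) : Set (P →* Ω) :=
  {φ | φ ∈ F.Hom P ∧ ∀ x : P, (x : Ω)⁻¹ * φ x ∈ N}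

/-- The subsystem of maps acting trivially modulo `N`. -/
def modSystem (F : FusionSystem S) (N : Subgroup Ω)
    (hN : ∀ s ∈ S, ∀ x ∈ S, x⁻¹ * (s * x * s⁻¹) ∈ N) : FusionSystem S where
  Hom := modHom F N
  le_of_mem := fun h => F.le_of_mem h.1
  injective_of_mem := fun h => F.injective_of_mem h.1
  conj_mem := by
    intro P g hP hg
    exact ⟨F.conj_mem hP hg, fun x => hN g hg x (hP x.2)⟩
  comp_mem := by
    intro P Q φ ψ hφ hψ h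
    refine ⟨F.comp_mem hφ.1 hψ.1 h, fun x => ?_⟩
    have e : (x : Ω)⁻¹ * ψ ⟨φ x, h x⟩ = ((x : Ω)⁻¹ * φ x) * ((φ x)⁻¹ * ψ ⟨φ x, h x⟩) := by group
    show (x : Ω)⁻¹ * ψ ⟨φ x, h x⟩ ∈ N
    rw [e]; exact N.mul_mem (hφ.2 x) (hψ.2 ⟨φ x, h x⟩)
  inv_mem := by
    intro P φ hφ
    obtain ⟨χ, hχ, hχφ⟩ := F.inv_mem hφ.1
    refine ⟨χ, ⟨hχ, ?_⟩, hχφ⟩
    rintro ⟨_, x, rfl⟩
    have e : (φ x)⁻¹ * (x : Ω) = ((x : Ω)⁻¹ * φ x)⁻¹ := by group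
    show (φ x)⁻¹ * χ ⟨φ x, ⟨x, rfl⟩⟩ ∈ N
    rw [hχφ, e]; exact N.inv_mem (hφ.2 x)

theorem hyp_le_of_aut [Finite S] (p : ℕ) [Fact p.Prime] (hS : IsPGroup p S)
    (F : FusionSystem S) (hF : F.IsSaturated p) (N : Subgroup Ω)
    (hN : ∀ s ∈ S, ∀ x ∈ S, x⁻¹ * (s * x * s⁻¹) ∈ N)
    (h : ∀ P : Subgroup Ω, (P = S ∨ F.IsEssential p P) → ∀ α ∈ F.autGroup P, ∀ x : P,
      (x : Ω)⁻¹ * ((α x : P) : Ω) ∈ N) :
    F.hyperfocalSubgroup p ≤ N := by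
  have hle : F ≤ modSystem F N hN := by
    apply alperin p hS F hF
    intro P hP α hα
    have hPS : P ≤ S := hP.elim (fun h => le_of_eq h) (fun h => h.1.1)
    rw [mem_autGroup_iff (modSystem F N hN) hPS]
    exact ⟨(mem_autGroup_iff F hPS).1 hα, fun x => h P hP α hα x⟩
  unfold hyperfocalSubgroup
  rw [Subgroup.closure_le]
  rintro _ ⟨P, α, x, hPS, -, rfl⟩
  have h1 : P.subtype.comp (α : MulAut P).toMonoidHom ∈ F.Hom P :=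
    (mem_autGroup_iff F hPS).1 α.2
  exact (hle P h1).2 x

theorem index_two_of_card {A B : Subgroup Ω} [Finite B] (hAB : A ≤ B)
    (h : Nat.card B = 2 * Nat.card A) {x y : Ω} (hx : x ∈ B) (hy : y ∈ B) (hxA : x ∉ A)
    (hyA : y ∉ A) : x⁻¹ * y ∈ A := by
  have hcard : Nat.card (A.subgroupOf B) = Nat.card A :=
    Nat.card_congr (Subgroup.subgroupOfEquivOfLe hAB).toEquiv
  have h3 := Subgroup.card_mul_index (A.subgroupOf B)
  rw [hcard, h, mul_comm 2] at h3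
  haveI : Finite A := Finite.of_injective (Subgroup.inclusion hAB) (Subgroup.inclusion_injective hAB)
  have hpos : 0 < Nat.card A := Nat.card_pos
  have hidx : (A.subgroupOf B).index = 2 := Nat.eq_of_mul_eq_mul_left hpos h3
  have h4 := Subgroup.mul_mem_iff_of_index_two hidx (a := (⟨x, hx⟩ : B)⁻¹) (b := ⟨y, hy⟩)
  have h5 : (⟨x, hx⟩ : B)⁻¹ * ⟨y, hy⟩ ∈ A.subgroupOf B :=
    h4.2 ⟨fun h => absurd ((Subgroup.inv_mem_iff _).1 (Subgroup.mem_subgroupOf.1 h)) hxA,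
      fun h => absurd (Subgroup.mem_subgroupOf.1 h) hyA⟩
  exact Subgroup.mem_subgroupOf.1 h5

theorem DS_unique (hD : Nat.card (DS S) = 2) {d d' : Ω} (hd : d ∈ DS S) (hd' : d' ∈ DS S)
    (h1 : d ≠ 1) (h1' : d' ≠ 1) : d = d' := by
  haveI : Finite (DS S) := Nat.finite_of_card_ne_zero (by rw [hD]; norm_num)
  have h2 : (⟨d, hd⟩ : DS S) ^ Nat.card (DS S) = 1 := pow_card_eq_one'
  rw [hD] at h2
  have h3 : d ^ 2 = 1 := by
    have := congrArg Subtype.val h2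
    simpa using this
  have hmem : d' ∈ Subgroup.zpowers d := by
    have hz : Subgroup.zpowers d = DS S := by
      apply Subgroup.eq_of_le_of_card_ge (Subgroup.zpowers_le.2 hd)
      have hd2 : Nat.card (Subgroup.zpowers d) ∣ 2 := hD ▸ Subgroup.card_dvd_of_le (Subgroup.zpowers_le.2 hd)
      rcases (Nat.dvd_prime Nat.prime_two).1 hd2 with h | h
      · exfalso; apply h1
        have := Subgroup.eq_bot_of_card_eq _ h
        rwa [Subgroup.zpowers_eq_bot] at this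
      · rw [hD, h]
    rw [hz]; exact hd'
  obtain ⟨k, hk⟩ := Subgroup.mem_zpowers_iff.1 hmem
  rcases Int.even_or_odd k with ⟨j, hj⟩ | ⟨j, hj⟩
  · exfalso; apply h1'
    rw [← hk, hj, ← two_mul, zpow_mul, zpow_ofNat, h3, one_zpow]
  · rw [← hk, hj, zpow_add, zpow_mul, zpow_ofNat, h3, one_zpow, one_mul, zpow_one]

theorem DS_sq (hD : Nat.card (DS S) = 2) {d : Ω} (hd : d ∈ DS S) : d * d = 1 := by
  have h2 : (⟨d, hd⟩ : DS S) ^ Nat.card (DS S) = 1 := pow_card_eq_one'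
  rw [hD] at h2
  have := congrArg Subtype.val h2
  simpa [pow_two] using this

theorem DS_fix (hD : Nat.card (DS S) = 2) (β : MulAut S) (d : S) (hd : (d : Ω) ∈ DS S) :
    β d = d := by
  by_cases h1 : d = 1
  · rw [h1, map_one]
  · apply Subtype.ext
    apply DS_unique hD (DS_char β d hd) hd
    · intro h; apply h1
      have h2 : β d = 1 := Subtype.ext h
      rwa [map_eq_one_iff β β.injective] at h2
    · intro h; exact h1 (Subtype.ext h)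

theorem two_ess [Finite S] (hS : IsPGroup 2 S) (F : FusionSystem S) (hF : F.IsSaturated 2)
    (hZ : (Subgroup.center ↥S).index ≤ 2 ^ 2) {E : Subgroup Ω} (hE : F.IsEssential 2 E) :
    ∃ (M : Subgroup E) (a : E),
      (a : Ω) ∉ ZS S ∧ a * a = 1 ∧
      (∀ m ∈ M, (m : Ω) ∈ ZS S) ∧
      (∀ g' ∈ F.autGroup E, ∀ m ∈ M, g' m ∈ M) ∧
      (∀ ζ : E, (ζ : Ω) ∈ ZS S → ∃ m ∈ M, ∃ d : E, (d : Ω) ∈ DS S ∧ ζ = m * d) ∧
      (∀ m ∈ M, (m : Ω) ∈ DS S → m = 1) ∧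
      (∀ g' ∈ F.autGroup E, ∃ l n : MulAut E, g' = l * n ∧
        (∃ β ∈ F.autGroup S, ∀ x : E, ((β ⟨x, hE.1.1 x.2⟩ : S) : Ω) = n x) ∧
        (∀ m ∈ M, l m = m) ∧
        ∀ e : E, ∃ d : E, (d : Ω) ∈ DS S ∧ (e⁻¹ * l e = d ∨ e⁻¹ * l e = d * a)) := by
  obtain ⟨c, hG, hfix, hD1, hD2, ⟨g, hg, hgc⟩, hext⟩ := ess_setup 2 hS F hF hZ hE
  obtain ⟨h1, h2⟩ := ess_basic 2 hS F hF hE
  obtain ⟨hc1, hc2⟩ := ess_card hS hZ h1 h2
  have hES : E ≤ S := h2.le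
  have hcomm := ess_comm (p := 2) h1 hES hc1
  have hcommE : ∀ a b : E, a * b = b * a := fun a b => Subtype.ext (hcomm a a.2 b b.2)
  haveI : Finite E := finite_of_le hES
  have hGy := hG.conj hg
  have hne : c ≠ g * c * g⁻¹ := fun h => hgc (h ▸ Subgroup.mem_zpowers c)
  obtain ⟨a, ha1, ha2, hMinv, hdec⟩ := two_main_w hcommE hG hGy hne
  refine ⟨fixSub c ⊓ fixSub (g * c * g⁻¹), a, ?_, ha2, ?_, ?_, ?_, ?_, ?_⟩
  · intro h; exact ha1 ((hfix a).2 h)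
  · intro m hm; exact (hfix m).1 hm.1
  · intro g' hg' m hm
    exact hMinv g' hg' m hm.1 hm.2
  · intro ζ hζ
    obtain ⟨m, e, hm1, hm2, hd⟩ := decomp_fix_w hcommE hG hGy hgc ((hfix ζ).2 hζ)
    exact ⟨m, ⟨hm1, hm2⟩, e⁻¹ * c e, hD1 e, hd⟩
  · intro m hm hmD
    obtain ⟨e, he⟩ := hD2 _ hmD
    have h5 : m = e⁻¹ * c e := Subtype.ext he
    rw [h5] at hm ⊢
    exact disj_w hcommE hG hGy hgc e hm.2
  · intro g' hg'
    obtain ⟨l, n, hgl, hn, hnc, hlM, hle⟩ := hdec g' hg'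
    obtain ⟨β, hβ, hβn⟩ := hext n hn hnc
    refine ⟨l, n, hgl, ⟨β, hβ, hβn⟩, fun m hm => hlM m hm.1 hm.2, fun e => ?_⟩
    obtain ⟨e', h | h⟩ := hle e
    · exact ⟨e'⁻¹ * c e', hD1 e', Or.inl h⟩
    · exact ⟨e'⁻¹ * c e', hD1 e', Or.inr h⟩

theorem no_sq [Finite S] (hS : IsPGroup 2 S) (F : FusionSystem S) (hF : F.IsSaturated 2)
    (hZ : (Subgroup.center ↥S).index ≤ 2 ^ 2) {E : Subgroup Ω} (hE : F.IsEssential 2 E) :
    ∀ ζ ∈ ZS S, ∀ d ∈ DS S, d * (ζ * ζ) = 1 → d = 1 := by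
  obtain ⟨M, a, -, -, hMZ, -, hdecZ, hMD, -⟩ := two_ess hS F hF hZ hE
  obtain ⟨h1, h2⟩ := ess_basic 2 hS F hF hE
  obtain ⟨hc1, hc2⟩ := ess_card hS hZ h1 h2
  have hES : E ≤ S := h2.le
  have hcomm := ess_comm (p := 2) h1 hES hc1
  have hDcard := card_DS 2 hS F hF hZ hE
  intro ζ hζ d hd h
  have hdE : d ∈ E := h1.le (DS_le_ZS hS hZ hd)
  obtain ⟨m, hm, d₁, hd₁, hx⟩ := hdecZ ⟨ζ, h1.le hζ⟩ hζ
  have hζv : ζ = (m : Ω) * (d₁ : Ω) := congrArg Subtype.val hx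
  have hsq : ζ * ζ = (m : Ω) * (m : Ω) := by
    rw [hζv]
    calc (m : Ω) * (d₁ : Ω) * ((m : Ω) * (d₁ : Ω)) = (m : Ω) * ((d₁ : Ω) * (m : Ω)) * (d₁ : Ω) := by group
      _ = (m : Ω) * ((m : Ω) * (d₁ : Ω)) * (d₁ : Ω) := by rw [hcomm _ d₁.2 _ m.2]
      _ = (m : Ω) * (m : Ω) * ((d₁ : Ω) * (d₁ : Ω)) := by group
      _ = (m : Ω) * (m : Ω) := by rw [DS_sq hDcard hd₁, mul_one]
  rw [hsq] at h
  have h6 : (⟨d, hdE⟩ : E) = (m * m)⁻¹ := by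
    apply Subtype.ext
    show d = ((m : Ω) * (m : Ω))⁻¹
    exact eq_inv_of_mul_eq_one_left h
  have h7 : (⟨d, hdE⟩ : E) ∈ M := by rw [h6]; exact M.inv_mem (M.mul_mem hm hm)
  have h8 := hMD _ h7 hd
  exact congrArg Subtype.val h8

theorem three_invol {E : Subgroup Ω} (hES : E ≤ S) (hcen : centralizerIn S E ≤ E)
    (I1 : ∀ x ∈ E, ∀ y ∈ E, x ∉ ZS S → y ∉ ZS S → x⁻¹ * y ∈ ZS S)
    (I2 : ∀ x ∈ S, ∀ y ∈ S, x ∉ E → y ∉ E → x⁻¹ * y ∈ E)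
    (K1 : ∀ ζ ∈ ZS S, ∀ d ∈ DS S, d * (ζ * ζ) = 1 → d = 1)
    {a b b' : Ω} (ha : a ∈ E) (haZ : a ∉ ZS S) (ha2 : a * a = 1) (hb : b ∈ S) (hbE : b ∉ E)
    (hb2 : b * b = 1) (hb' : b' ∈ S) (hb'E : b' ∉ E) (hb'2 : b' * b' = 1)
    (hbb' : b⁻¹ * b' ∉ ZS S) : False := by
  have h1 : b⁻¹ * b' ∈ E := I2 b hb b' hb' hbE hb'E
  have h2 : a⁻¹ * (b⁻¹ * b') ∈ ZS S := I1 a ha _ h1 haZ hbb'
  obtain ⟨ζ, hζ⟩ : ∃ ζ, ζ = a⁻¹ * (b⁻¹ * b') := ⟨_, rfl⟩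
  rw [← hζ] at h2
  have hb'eq : b' = b * a * ζ := by rw [hζ]; group
  have hζc : ∀ y ∈ S, y * ζ = ζ * y := (mem_ZS.1 h2).2
  have hbinv : b⁻¹ = b := inv_eq_of_mul_eq_one_left hb2
  have hainv : a⁻¹ = a := inv_eq_of_mul_eq_one_left ha2
  have hd : (b * a * b⁻¹ * a⁻¹) * (ζ * ζ) = 1 := by
    rw [hbinv, hainv]
    rw [hb'eq] at hb'2
    calc b * a * b * a * (ζ * ζ) = b * a * ((b * a) * ζ) * ζ := by group
      _ = b * a * (ζ * (b * a)) * ζ := by rw [hζc (b * a) (S.mul_mem hb (hES ha))]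
      _ = b * a * ζ * (b * a * ζ) := by group
      _ = 1 := hb'2
  have hd1 := K1 ζ h2 _ (comm_mem_DS hb (hES ha)) hd
  have hcomm : b * a = a * b := by
    calc b * a = (b * a * b⁻¹ * a⁻¹) * (a * b) := by group
      _ = a * b := by rw [hd1, one_mul]
  apply hbE
  apply hcen
  rw [mem_centralizerIn]
  refine ⟨hb, fun x hx => ?_⟩
  by_cases hxZ : x ∈ ZS S
  · exact ((mem_ZS.1 hxZ).2 b hb).symm
  · have h3 := I1 a ha x hx haZ hxZ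
    have h4 := (mem_ZS.1 h3).2 b hb
    calc x * b = a * ((a⁻¹ * x) * b) := by group
      _ = a * (b * (a⁻¹ * x)) := by rw [h4]
      _ = (a * b) * (a⁻¹ * x) := by group
      _ = (b * a) * (a⁻¹ * x) := by rw [hcomm]
      _ = b * x := by group

end Cfsg.Agent.Helper27.CI
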