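import Cfsg.Agent.Helper27.CIi

set_option autoImplicit false

namespace Cfsg.Agent.Helper27.CI

open Cfsg Cfsg.FusionSystem Cfsg.Agent.Helper26

variable {Ω : Type*} [Group Ω] {S : Subgroup Ω}

theorem two_pres [Finite S] (hS : IsPGroup 2 S) (F : FusionSystem S) (hF : F.IsSaturated 2)
    (hZ : (Subgroup.center ↥S).index ≤ 2 ^ 2) {E : Subgroup Ω} (hE : F.IsEssential 2 E)
    {β : MulAut S} (hβ : β ∈ F.autGroup S) :
    ∀ x : S, (x : Ω) ∈ E → ((β x : S) : Ω) ∈ E := by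
  obtain ⟨h1, h2⟩ := ess_basic 2 hS F hF hE
  obtain ⟨hc1, hc2⟩ := ess_card hS hZ h1 h2
  have hES : E ≤ S := h2.le
  haveI : Finite E := finite_of_le hES
  have hcen : centralizerIn S E ≤ E := hE.1.2 E (isConj_refl F hES)
  have I1 : ∀ x ∈ E, ∀ y ∈ E, x ∉ ZS S → y ∉ ZS S → x⁻¹ * y ∈ ZS S :=
    fun x hx y hy hxZ hyZ => index_two_of_card h1.le hc1 hx hy hxZ hyZ
  have I2 : ∀ x ∈ S, ∀ y ∈ S, x ∉ E → y ∉ E → x⁻¹ * y ∈ E :=
    fun x hx y hy hxE hyE => index_two_of_card hES hc2 hx hy hxE hyE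
  have K1 := no_sq hS F hF hZ hE
  obtain ⟨M, a, haZ, ha2, -⟩ := two_ess hS F hF hZ hE
  obtain ⟨a₁, ha₁⟩ : ∃ a₁ : S, a₁ = ⟨(a : Ω), hES a.2⟩ := ⟨_, rfl⟩
  have ha₁E : (a₁ : Ω) ∈ E := by rw [ha₁]; exact a.2
  have ha₁Z : (a₁ : Ω) ∉ ZS S := by rw [ha₁]; exact haZ
  have ha₁2 : a₁ * a₁ = 1 := by
    have h : (a : Ω) * (a : Ω) = 1 := congrArg Subtype.val ha2
    rw [ha₁]; exact Subtype.ext h
  have hred : ∀ γ : MulAut S, ((γ a₁ : S) : Ω) ∈ E →
      ∀ x : S, (x : Ω) ∈ E → ((γ x : S) : Ω) ∈ E := by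
    intro γ hγ x hx
    by_cases hxZ : (x : Ω) ∈ ZS S
    · exact h1.le (ZS_char γ x hxZ)
    · have h3 : ((a₁⁻¹ * x : S) : Ω) ∈ ZS S := I1 _ ha₁E _ hx ha₁Z hxZ
      have h4 : x = a₁ * (a₁⁻¹ * x) := by group
      rw [h4, map_mul]
      exact E.mul_mem hγ (h1.le (ZS_char γ (a₁⁻¹ * x) h3))
  apply hred β
  by_contra ha₂E
  have ha₂2 : β a₁ * β a₁ = 1 := by rw [← map_mul, ha₁2, map_one]
  have ha₃2 : β (β a₁) * β (β a₁) = 1 := by rw [← map_mul, ha₂2, map_one]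
  by_cases h3E : ((β (β a₁) : S) : Ω) ∈ E
  · -- β² preserves E
    have hβ2 : ∀ x : S, (x : Ω) ∈ E → (((β * β) x : S) : Ω) ∈ E := hred (β * β) h3E
    have hβ2k : ∀ (k : ℕ) (x : S), (x : Ω) ∈ E → ((((β * β) ^ k) x : S) : Ω) ∈ E := by
      intro k
      induction k with
      | zero => intro x hx; simpa using hx
      | succ k ih =>
        intro x hx
        rw [pow_succ', MulAut.mul_apply]
        exact hβ2 _ (ih x hx)
    obtain ⟨m, hm, hinn⟩ := exists_pow_inner 2 hS F hF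
    obtain ⟨s, hs, hsx⟩ := hinn β hβ
    have hodd : Odd m := Nat.not_even_iff_odd.1 (fun h => hm (even_iff_two_dvd.1 h))
    obtain ⟨k, hk⟩ := hodd
    have hwE : s⁻¹ * (a₁ : Ω) * s ∈ E := by
      have := ess_conj_mem hS hZ h1.le hES (S.inv_mem hs) ha₁E
      rwa [inv_inv] at this
    obtain ⟨w, hw⟩ : ∃ w : S, w = ⟨s⁻¹ * (a₁ : Ω) * s, hES hwE⟩ := ⟨_, rfl⟩
    have hw1 : (β ^ m) w = a₁ := by
      apply Subtype.ext
      rw [hsx w, hw]
      show s * (s⁻¹ * (a₁ : Ω) * s) * s⁻¹ = a₁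
      group
    have hpow : β ^ m = β * (β * β) ^ k := by
      rw [hk, pow_succ', pow_mul, pow_two]
    rw [hpow, MulAut.mul_apply] at hw1
    have hw'E : ((((β * β) ^ k) w : S) : Ω) ∈ E := hβ2k k w (by rw [hw]; exact hwE)
    by_cases hw'Z : ((((β * β) ^ k) w : S) : Ω) ∈ ZS S
    · apply ha₁Z
      rw [← hw1]
      exact ZS_char β _ hw'Z
    · have h5 : ((a₁⁻¹ * ((β * β) ^ k) w : S) : Ω) ∈ ZS S := I1 _ ha₁E _ hw'E ha₁Z hw'Z
      have h6 : ((β * β) ^ k) w = a₁ * (a₁⁻¹ * ((β * β) ^ k) w) := by group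
      rw [h6, map_mul] at hw1
      apply ha₂E
      have h7 : β a₁ = a₁ * (β (a₁⁻¹ * ((β * β) ^ k) w))⁻¹ := eq_mul_inv_of_mul_eq hw1
      rw [h7]
      exact E.mul_mem ha₁E (E.inv_mem (h1.le (ZS_char β _ h5)))
  · apply three_invol hES hcen I1 I2 K1 ha₁E ha₁Z (congrArg Subtype.val ha₁2)
      (β a₁).2 ha₂E (congrArg Subtype.val ha₂2) (β (β a₁)).2 h3E (congrArg Subtype.val ha₃2)
    intro hcon
    apply ha₂E
    have h8 : (((β a₁)⁻¹ * β (β a₁) : S) : Ω) ∈ ZS S := hcon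
    have h9 : (β a₁)⁻¹ * β (β a₁) = β (a₁⁻¹ * β a₁) := by rw [map_mul, map_inv]
    rw [h9] at h8
    have h10 := ZS_char β⁻¹ _ h8
    rw [MulAut.inv_apply_self] at h10
    have h11 : β a₁ = a₁ * (a₁⁻¹ * β a₁) := by group
    rw [h11]
    exact E.mul_mem ha₁E (h1.le h10)

theorem two_fixZ [Finite S] (hS : IsPGroup 2 S) (F : FusionSystem S) (hF : F.IsSaturated 2)
    (hcore : F.core = ⊥) (hZ : (Subgroup.center ↥S).index ≤ 2 ^ 2)
    (hex : ∃ E₀, F.IsEssential 2 E₀) :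
    ∀ β ∈ F.autGroup S, ∀ ζ : S, (ζ : Ω) ∈ ZS S → β ζ = ζ := by
  obtain ⟨E₀, hE₀⟩ := hex
  have hDcard := card_DS 2 hS F hF hZ hE₀
  obtain ⟨K', hK'⟩ : ∃ K' : Subgroup S, K' = Subgroup.closure
      {y : S | ∃ β ∈ F.autGroup S, ∃ ζ : S, (ζ : Ω) ∈ ZS S ∧ y = ζ⁻¹ * β ζ} := ⟨_, rfl⟩
  have hgen : ∀ β ∈ F.autGroup S, ∀ ζ : S, (ζ : Ω) ∈ ZS S → ζ⁻¹ * β ζ ∈ K' := by
    intro β hβ ζ hζ
    rw [hK']
    exact Subgroup.subset_closure ⟨β, hβ, ζ, hζ, rfl⟩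
  have hK'Z : ∀ y ∈ K', (y : Ω) ∈ ZS S := by
    intro y hy
    rw [hK'] at hy
    induction hy using Subgroup.closure_induction with
    | mem y hy =>
      obtain ⟨β, -, ζ, hζ, rfl⟩ := hy
      exact (ZS S).mul_mem ((ZS S).inv_mem hζ) (ZS_char β ζ hζ)
    | one => exact (ZS S).one_mem
    | mul a b _ _ ha hb => exact (ZS S).mul_mem ha hb
    | inv a _ ha => exact (ZS S).inv_mem ha
  have hK'A : ∀ β' ∈ F.autGroup S, ∀ y ∈ K', β' y ∈ K' := by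
    intro β' hβ' y hy
    rw [hK'] at hy
    induction hy using Subgroup.closure_induction with
    | mem y hy =>
      obtain ⟨β, hβ, ζ, hζ, rfl⟩ := hy
      have e : β' (ζ⁻¹ * β ζ) = (β' ζ)⁻¹ * (β' * β * β'⁻¹) (β' ζ) := by
        rw [map_mul, map_inv, MulAut.mul_apply, MulAut.mul_apply, MulAut.inv_apply_self]
      rw [e]
      exact hgen _ ((F.autGroup S).mul_mem ((F.autGroup S).mul_mem hβ' hβ)
        ((F.autGroup S).inv_mem hβ')) _ (ZS_char β' ζ hζ)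
    | one => rw [map_one]; exact K'.one_mem
    | mul a b _ _ ha hb => rw [map_mul]; exact K'.mul_mem ha hb
    | inv a _ ha => rw [map_inv]; exact K'.inv_mem ha
  have hKnormal : F.IsNormal (K'.map S.subtype) := by
    apply normal_of_inv 2 hS F hF
    intro P hP
    rcases hP with hP | hP
    · rw [hP]
      refine ⟨Subgroup.map_subtype_le K', fun β hβ x hx => ?_⟩
      obtain ⟨y, hy, hyx⟩ := hx
      have hyx' : y = x := Subtype.ext hyx
      rw [← hyx']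
      exact ⟨β y, hK'A β hβ y hy, rfl⟩
    · obtain ⟨h1, h2⟩ := ess_basic 2 hS F hF hP
      obtain ⟨hc1, hc2⟩ := ess_card hS hZ h1 h2
      have hES : P ≤ S := h2.le
      have hcomm := ess_comm (p := 2) h1 hES hc1
      obtain ⟨M, a, -, -, hMZ, hMinv, hdecZ, hMD, hdecG⟩ := two_ess hS F hF hZ hP
      have hK'M : ∀ y ∈ K', ∃ m ∈ M, (m : Ω) = y := by
        intro y hy
        rw [hK'] at hy
        induction hy using Subgroup.closure_induction with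
        | mem y hy =>
          obtain ⟨β, hβ, ζ, hζ, rfl⟩ := hy
          obtain ⟨n, hn, hnβ⟩ := restrict_aut F hES hβ (two_pres hS F hF hZ hP hβ)
          obtain ⟨m, hm, d, hd, hx⟩ := hdecZ ⟨ζ, h1.le hζ⟩ hζ
          refine ⟨m⁻¹ * n m, M.mul_mem (M.inv_mem hm) (hMinv n hn m hm), ?_⟩
          have hnd : n d = d := by
            apply Subtype.ext
            rw [hnβ d]
            exact congrArg Subtype.val (DS_fix hDcard β ⟨d, hES d.2⟩ hd)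
          have h5 : ((β ζ : S) : Ω) = ((n (m * d) : P) : Ω) := by
            rw [← hx, hnβ]
          rw [map_mul, hnd] at h5
          have hζv : (ζ : Ω) = (m : Ω) * (d : Ω) := congrArg Subtype.val hx
          show (m : Ω)⁻¹ * ((n m : P) : Ω) = (ζ : Ω)⁻¹ * ((β ζ : S) : Ω)
          rw [h5, hζv]
          show (m : Ω)⁻¹ * ((n m : P) : Ω) = ((m : Ω) * (d : Ω))⁻¹ * (((n m : P) : Ω) * (d : Ω))
          have h6 : ((n m : P) : Ω) * (d : Ω) = (d : Ω) * ((n m : P) : Ω) :=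
            hcomm _ (n m).2 _ d.2
          rw [h6, hcomm _ m.2 _ d.2]; group
        | one => exact ⟨1, M.one_mem, rfl⟩
        | mul a b _ _ ha hb =>
          obtain ⟨m₁, hm₁, e₁⟩ := ha
          obtain ⟨m₂, hm₂, e₂⟩ := hb
          exact ⟨m₁ * m₂, M.mul_mem hm₁ hm₂, by
            show (m₁ : Ω) * (m₂ : Ω) = (a : Ω) * (b : Ω)
            rw [e₁, e₂]⟩
        | inv a _ ha =>
          obtain ⟨m₁, hm₁, e₁⟩ := ha
          exact ⟨m₁⁻¹, M.inv_mem hm₁, by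
            show (m₁ : Ω)⁻¹ = (a : Ω)⁻¹
            rw [e₁]⟩
      refine ⟨fun x hx => ?_, fun g' hg' x hx => ?_⟩
      · obtain ⟨y, hy, rfl⟩ := hx
        exact h1.le (hK'Z y hy)
      · obtain ⟨y, hy, hyx⟩ := hx
        obtain ⟨l, n, hgl, ⟨β, hβ, hβn⟩, hlM, -⟩ := hdecG g' hg'
        have hyx' : y = ⟨(x : Ω), hES x.2⟩ := Subtype.ext hyx
        have h7 : β y ∈ K' := hK'A β hβ y hy
        obtain ⟨m, hm, hmv⟩ := hK'M _ h7
        have h8 : n x = m := by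
          apply Subtype.ext
          rw [hmv, hyx', hβn x]
        rw [hgl, MulAut.mul_apply, h8, hlM m hm, hmv]
        exact ⟨β y, h7, rfl⟩
  have hKbot := eq_bot_of_normal F hcore hKnormal
  have hK'bot : K' = ⊥ := by
    rw [eq_bot_iff]
    intro y hy
    have h9 : (y : Ω) ∈ K'.map S.subtype := ⟨y, hy, rfl⟩
    rw [hKbot, Subgroup.mem_bot] at h9
    exact Subgroup.mem_bot.2 (Subtype.ext h9)
  intro β hβ ζ hζ
  have h10 := hgen β hβ ζ hζ
  rw [hK'bot, Subgroup.mem_bot] at h10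
  calc β ζ = ζ * (ζ⁻¹ * β ζ) := by group
    _ = ζ := by rw [h10, mul_one]

end Cfsg.Agent.Helper27.CI
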