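import Cfsg.Agent.Helper27.CIj
import Cfsg.Agent.S0206

set_option autoImplicit false

namespace Cfsg.Agent.Helper27.CI

open Cfsg Cfsg.FusionSystem Cfsg.Agent.Helper26

variable {Ω : Type*} [Group Ω] {S : Subgroup Ω}

theorem mem_of_comm {E : Subgroup Ω} (hcen : centralizerIn S E ≤ E)
    (I1 : ∀ x ∈ E, ∀ y ∈ E, x ∉ ZS S → y ∉ ZS S → x⁻¹ * y ∈ ZS S)
    {a b : Ω} (ha : a ∈ E) (haZ : a ∉ ZS S) (hb : b ∈ S) (hcomm : b * a = a * b) : b ∈ E := by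
  apply hcen
  rw [mem_centralizerIn]
  refine ⟨hb, fun x hx => ?_⟩
  by_cases hxZ : x ∈ ZS S
  · exact ((mem_ZS.1 hxZ).2 b hb).symm
  · have h3 := I1 a ha x hx haZ hxZ
    have h4 := (mem_ZS.1 h3).2 b hb
    calc x * b = a * ((a⁻¹ * x) * b) := by group
      _ = a * (b * (a⁻¹ * x)) := by rw [h4]
      _ = (a * b) * (a⁻¹ * x) := by group
      _ = (b * a) * (a⁻¹ * x) := by rw [hcomm]
      _ = b * x := by group

theorem invol_not_mem [Finite S] {E E' : Subgroup Ω} (hE'S : E' ≤ S) (hZE' : ZS S ≤ E')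
    (hcard : Nat.card E' ≤ Nat.card E) (hne : E ≠ E')
    (I1 : ∀ x ∈ E, ∀ y ∈ E, x ∉ ZS S → y ∉ ZS S → x⁻¹ * y ∈ ZS S)
    {a : Ω} (ha : a ∈ E) (haZ : a ∉ ZS S) : a ∉ E' := by
  intro haE'
  apply hne
  haveI : Finite E' := finite_of_le hE'S
  apply Subgroup.eq_of_le_of_card_ge ?_ hcard
  intro x hx
  by_cases hxZ : x ∈ ZS S
  · exact hZE' hxZ
  · have h3 := I1 a ha x hx haZ hxZ
    have h4 : x = a * (a⁻¹ * x) := by group
    rw [h4]; exact E'.mul_mem haE' (hZE' h3)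

theorem two_case [Finite S] (hS : IsPGroup 2 S) (F : FusionSystem S) (hF : F.IsSaturated 2)
    (hS1 : S ≠ ⊥) (hcore : F.core = ⊥) (hhyp : F.hyperfocalSubgroup 2 = S)
    (hZ : (Subgroup.center ↥S).index ≤ 2 ^ 2) :
    Nonempty (↥S ≃* DihedralGroup 4) ∧ Nat.card (ZS S) = 2 := by
  obtain ⟨E₀, hE₀⟩ := exists_essential 2 hS F hF hS1 hcore
  have hfixZ := two_fixZ hS F hF hcore hZ ⟨E₀, hE₀⟩
  have hDcard := card_DS 2 hS F hF hZ hE₀
  have hDZ := DS_le_ZS hS hZ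
  obtain ⟨h1₀, h2₀⟩ := ess_basic 2 hS F hF hE₀
  obtain ⟨hc1₀, hc2₀⟩ := ess_card hS hZ h1₀ h2₀
  have hES₀ : E₀ ≤ S := h2₀.le
  haveI : Finite E₀ := finite_of_le hES₀
  have hcen₀ : centralizerIn S E₀ ≤ E₀ := hE₀.1.2 E₀ (isConj_refl F hES₀)
  have I1₀ : ∀ x ∈ E₀, ∀ y ∈ E₀, x ∉ ZS S → y ∉ ZS S → x⁻¹ * y ∈ ZS S :=
    fun x hx y hy hxZ hyZ => index_two_of_card h1₀.le hc1₀ hx hy hxZ hyZ
  have I2₀ : ∀ x ∈ S, ∀ y ∈ S, x ∉ E₀ → y ∉ E₀ → x⁻¹ * y ∈ E₀ :=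
    fun x hx y hy hxE hyE => index_two_of_card hES₀ hc2₀ hx hy hxE hyE
  have hNgen : ∀ N : Subgroup Ω, DS S ≤ N → ∀ s ∈ S, ∀ x ∈ S, x⁻¹ * (s * x * s⁻¹) ∈ N := by
    intro N hN s hs x hx
    have h3 := comm_mem_DS (S.inv_mem hx) hs
    have e : x⁻¹ * (s * x * s⁻¹) = x⁻¹ * s * x⁻¹⁻¹ * s⁻¹ := by group
    rw [e]; exact hN h3
  by_cases hall : ∀ E, F.IsEssential 2 E → E = E₀
  · exfalso
    have hS_A : ∀ β ∈ F.autGroup S, ∀ x : S, (x : Ω)⁻¹ * ((β x : S) : Ω) ∈ E₀ := by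
      intro β hβ x
      by_cases hx : (x : Ω) ∈ E₀
      · exact E₀.mul_mem (E₀.inv_mem hx) (two_pres hS F hF hZ hE₀ hβ x hx)
      · have hβx : ((β x : S) : Ω) ∉ E₀ := by
          intro h
          apply hx
          have h3 := two_pres hS F hF hZ hE₀ ((F.autGroup S).inv_mem hβ) (β x) h
          rwa [MulAut.inv_apply_self] at h3
        exact I2₀ _ x.2 _ (β x).2 hx hβx
    have hle : F.hyperfocalSubgroup 2 ≤ E₀ := by
      apply hyp_le_of_aut 2 hS F hF E₀ (hNgen E₀ (hDZ.trans h1₀.le))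
      intro P hP
      rcases hP with rfl | hP
      · exact hS_A
      · have hPE := hall P hP
        intro α _ x
        rw [← hPE]
        exact P.mul_mem (P.inv_mem x.2) (α x).2
    rw [hhyp] at hle
    exact absurd hle (not_le_of_gt h2₀)
  · push_neg at hall
    obtain ⟨E₁, hE₁, hne⟩ := hall
    obtain ⟨M₀, a₀, ha₀Z, ha₀2, -, -, -, -, hdecG₀⟩ := two_ess hS F hF hZ hE₀
    obtain ⟨M₁, a₁, ha₁Z, ha₁2, -, -, -, -, hdecG₁⟩ := two_ess hS F hF hZ hE₁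
    obtain ⟨h1₁, h2₁⟩ := ess_basic 2 hS F hF hE₁
    obtain ⟨hc1₁, hc2₁⟩ := ess_card hS hZ h1₁ h2₁
    have hES₁ : E₁ ≤ S := h2₁.le
    haveI : Finite E₁ := finite_of_le hES₁
    have I1₁ : ∀ x ∈ E₁, ∀ y ∈ E₁, x ∉ ZS S → y ∉ ZS S → x⁻¹ * y ∈ ZS S :=
      fun x hx y hy hxZ hyZ => index_two_of_card h1₁.le hc1₁ hx hy hxZ hyZ
    have K1 := no_sq hS F hF hZ hE₀
    have ha₁E₀ : (a₁ : Ω) ∉ E₀ :=
      invol_not_mem hES₀ h1₀.le (by rw [hc1₀, hc1₁]) hne I1₁ a₁.2 ha₁Z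
    have ha₀2' : (a₀ : Ω) * (a₀ : Ω) = 1 := congrArg Subtype.val ha₀2
    have ha₁2' : (a₁ : Ω) * (a₁ : Ω) = 1 := congrArg Subtype.val ha₁2
    have ha₀inv : (a₀ : Ω)⁻¹ = a₀ := inv_eq_of_mul_eq_one_left ha₀2'
    have ha₁inv : (a₁ : Ω)⁻¹ = a₁ := inv_eq_of_mul_eq_one_left ha₁2'
    have hncomm : (a₁ : Ω) * (a₀ : Ω) ≠ (a₀ : Ω) * (a₁ : Ω) := fun h =>
      ha₁E₀ (mem_of_comm hcen₀ I1₀ a₀.2 ha₀Z (hES₁ a₁.2) h)
    have hzD : (a₁ : Ω) * (a₀ : Ω) * (a₁ : Ω)⁻¹ * (a₀ : Ω)⁻¹ ∈ DS S :=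
      comm_mem_DS (hES₁ a₁.2) (hES₀ a₀.2)
    have hz1 : (a₁ : Ω) * (a₀ : Ω) * (a₁ : Ω)⁻¹ * (a₀ : Ω)⁻¹ ≠ 1 := by
      intro h
      apply hncomm
      calc (a₁ : Ω) * (a₀ : Ω) = ((a₁ : Ω) * (a₀ : Ω) * (a₁ : Ω)⁻¹ * (a₀ : Ω)⁻¹) * ((a₀ : Ω) * (a₁ : Ω)) := by
            group
        _ = (a₀ : Ω) * (a₁ : Ω) := by rw [h, one_mul]
    obtain ⟨N, hNdef⟩ : ∃ N : Subgroup Ω, N = Subgroup.closure {(a₀ : Ω), (a₁ : Ω)} := ⟨_, rfl⟩
    have ha₀N : (a₀ : Ω) ∈ N := by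
      rw [hNdef]; exact Subgroup.subset_closure (Set.mem_insert _ _)
    have ha₁N : (a₁ : Ω) ∈ N := by
      rw [hNdef]; exact Subgroup.subset_closure (Set.mem_insert_of_mem _ (Set.mem_singleton _))
    have hNS : N ≤ S := by
      rw [hNdef, Subgroup.closure_le]
      intro x hx
      rcases hx with rfl | hx
      · exact hES₀ a₀.2
      · rw [Set.mem_singleton_iff] at hx
        rw [hx]; exact hES₁ a₁.2
    have hDN : DS S ≤ N := by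
      intro d hd
      by_cases hd1 : d = 1
      · rw [hd1]; exact N.one_mem
      · rw [DS_unique hDcard hd hzD hd1 hz1]
        exact N.mul_mem (N.mul_mem (N.mul_mem ha₁N ha₀N) (N.inv_mem ha₁N)) (N.inv_mem ha₀N)
    have hess : ∀ E, F.IsEssential 2 E → E = E₀ ∨ E = E₁ := by
      intro E hE
      by_contra hcon
      push_neg at hcon
      obtain ⟨M₂, a₂, ha₂Z, ha₂2, -⟩ := two_ess hS F hF hZ hE
      obtain ⟨h1₂, h2₂⟩ := ess_basic 2 hS F hF hE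
      obtain ⟨hc1₂, hc2₂⟩ := ess_card hS hZ h1₂ h2₂
      haveI : Finite E := finite_of_le h2₂.le
      have I1₂ : ∀ x ∈ E, ∀ y ∈ E, x ∉ ZS S → y ∉ ZS S → x⁻¹ * y ∈ ZS S :=
        fun x hx y hy hxZ hyZ => index_two_of_card h1₂.le hc1₂ hx hy hxZ hyZ
      have ha₂E₀ : (a₂ : Ω) ∉ E₀ :=
        invol_not_mem hES₀ h1₀.le (by rw [hc1₀, hc1₂]) hcon.1 I1₂ a₂.2 ha₂Z
      have ha₂E₁ : (a₂ : Ω) ∉ E₁ :=
        invol_not_mem hES₁ h1₁.le (by rw [hc1₁, hc1₂]) hcon.2 I1₂ a₂.2 ha₂Z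
      apply three_invol hES₀ hcen₀ I1₀ I2₀ K1 a₀.2 ha₀Z ha₀2' (hES₁ a₁.2) ha₁E₀ ha₁2'
        (h2₂.le a₂.2) ha₂E₀ (congrArg Subtype.val ha₂2)
      intro h
      apply ha₂E₁
      have h4 : (a₂ : Ω) = (a₁ : Ω) * ((a₁ : Ω)⁻¹ * (a₂ : Ω)) := by group
      rw [h4]; exact E₁.mul_mem a₁.2 (h1₁.le h)
    have hS_B : ∀ β ∈ F.autGroup S, ∀ x : S, (x : Ω)⁻¹ * ((β x : S) : Ω) ∈ DS S := by
      intro β hβ
      have hβinv : β⁻¹ ∈ F.autGroup S := (F.autGroup S).inv_mem hβ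
      have hZi : ∀ (E : Subgroup Ω), F.IsEssential 2 E →
          (∀ x ∈ E, ∀ y ∈ E, x ∉ ZS S → y ∉ ZS S → x⁻¹ * y ∈ ZS S) →
          ∀ x : S, (x : Ω) ∈ E → (x : Ω)⁻¹ * ((β x : S) : Ω) ∈ ZS S := by
        intro E hE I1 x hx
        by_cases hxZ : (x : Ω) ∈ ZS S
        · rw [hfixZ β hβ x hxZ, inv_mul_cancel]; exact (ZS S).one_mem
        · have hβxZ : ((β x : S) : Ω) ∉ ZS S := by
            intro h
            apply hxZ
            have h3 := ZS_char β⁻¹ (β x) h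
            rwa [MulAut.inv_apply_self] at h3
          exact I1 _ hx _ (two_pres hS F hF hZ hE hβ x hx) hxZ hβxZ
      have hfZ : ∀ x : S, (x : Ω)⁻¹ * ((β x : S) : Ω) ∈ ZS S := by
        intro x
        by_cases hx : (x : Ω) ∈ E₀
        · exact hZi E₀ hE₀ I1₀ x hx
        · have he : (a₁ : Ω)⁻¹ * (x : Ω) ∈ E₀ := I2₀ _ (hES₁ a₁.2) _ x.2 ha₁E₀ hx
          obtain ⟨b₁, hb₁⟩ : ∃ b₁ : S, b₁ = ⟨(a₁ : Ω), hES₁ a₁.2⟩ := ⟨_, rfl⟩
          have hb₁v : (b₁ : Ω) = a₁ := by rw [hb₁]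
          have hu := hZi E₁ hE₁ I1₁ b₁ (by rw [hb₁v]; exact a₁.2)
          have hv := hZi E₀ hE₀ I1₀ (b₁⁻¹ * x) (by
            show (b₁ : Ω)⁻¹ * (x : Ω) ∈ E₀
            rw [hb₁v]; exact he)
          have hx' : x = b₁ * (b₁⁻¹ * x) := by group
          have h5 : (x : Ω)⁻¹ * ((β x : S) : Ω) =
              ((b₁⁻¹ * x : S) : Ω)⁻¹ * ((b₁ : Ω)⁻¹ * ((β b₁ : S) : Ω)) * ((β (b₁⁻¹ * x) : S) : Ω) := by
            conv_lhs => rw [hx', map_mul]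
            show ((b₁ : Ω) * ((b₁⁻¹ * x : S) : Ω))⁻¹ * (((β b₁ : S) : Ω) * ((β (b₁⁻¹ * x) : S) : Ω)) = _
            group
          rw [h5]
          have h6 : ((b₁⁻¹ * x : S) : Ω)⁻¹ * ((b₁ : Ω)⁻¹ * ((β b₁ : S) : Ω)) =
              ((b₁ : Ω)⁻¹ * ((β b₁ : S) : Ω)) * ((b₁⁻¹ * x : S) : Ω)⁻¹ :=
            (mem_ZS.1 hu).2 _ (S.inv_mem (b₁⁻¹ * x).2)
          rw [h6, mul_assoc]
          exact (ZS S).mul_mem hu hv
      intro x
      obtain ⟨f, hf⟩ : ∃ f : S, f = x⁻¹ * β x := ⟨_, rfl⟩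
      have hfZ' : (f : Ω) ∈ ZS S := by rw [hf]; exact hfZ x
      have hβf : β f = f := hfixZ β hβ f hfZ'
      have hβx : β x = x * f := by rw [hf]; group
      have hpow : ∀ k : ℕ, (β ^ k) x = x * f ^ k := by
        intro k
        induction k with
        | zero => simp
        | succ k ih =>
          rw [pow_succ', MulAut.mul_apply, ih, map_mul, map_pow, hβx, hβf, pow_succ']; group
      obtain ⟨m, hm, hinn⟩ := exists_pow_inner 2 hS F hF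
      obtain ⟨s, hs, hsx⟩ := hinn β hβ
      have hodd : Odd m := Nat.not_even_iff_odd.1 (fun h => hm (even_iff_two_dvd.1 h))
      have hfm : ((f ^ m : S) : Ω) ∈ DS S := by
        have h3 : f ^ m = x⁻¹ * (β ^ m) x := by rw [hpow m]; group
        rw [h3]
        show (x : Ω)⁻¹ * (((β ^ m) x : S) : Ω) ∈ DS S
        rw [hsx x]
        have h4 := comm_mem_DS (S.inv_mem x.2) hs
        have e : (x : Ω)⁻¹ * (s * (x : Ω) * s⁻¹) = (x : Ω)⁻¹ * s * (x : Ω)⁻¹⁻¹ * s⁻¹ := by group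
        rw [e]; exact h4
      have hf2m : f ^ (2 * m) = 1 := by
        have h5 := DS_sq hDcard hfm
        apply Subtype.ext
        rw [two_mul, pow_add]
        exact h5
      obtain ⟨j, hj⟩ := (IsPGroup.iff_orderOf.1 hS) f
      have hdvd : orderOf f ∣ 2 * m := orderOf_dvd_of_pow_eq_one hf2m
      have hf2 : f ^ 2 = 1 := by
        apply orderOf_dvd_iff_pow_eq_one.1
        rw [hj] at hdvd ⊢
        have hcop : Nat.Coprime (2 ^ j) m := by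
          apply Nat.Coprime.pow_left
          exact (Nat.Prime.coprime_iff_not_dvd Nat.prime_two).2 hm
        exact hcop.dvd_of_dvd_mul_right hdvd
      obtain ⟨k, hk⟩ := hodd
      have hfm' : f ^ m = f := by
        rw [hk, pow_succ, pow_mul, hf2, one_pow, one_mul]
      rw [hfm'] at hfm
      rw [hf] at hfm
      exact hfm
    have hE_B : ∀ (E : Subgroup Ω) (hE : F.IsEssential 2 E) (M : Subgroup E) (a : E),
        (a : Ω) ∈ N →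
        (∀ g' ∈ F.autGroup E, ∃ l n : MulAut E, g' = l * n ∧
          (∃ β ∈ F.autGroup S, ∀ x : E, ((β ⟨x, hE.1.1 x.2⟩ : S) : Ω) = n x) ∧
          (∀ m ∈ M, l m = m) ∧
          ∀ e : E, ∃ d : E, (d : Ω) ∈ DS S ∧ (e⁻¹ * l e = d ∨ e⁻¹ * l e = d * a)) →
        ∀ α ∈ F.autGroup E, ∀ x : E, (x : Ω)⁻¹ * ((α x : E) : Ω) ∈ N := by
      intro E hE M a haN hdecG α hα x
      obtain ⟨l, n, hgl, ⟨β, hβ, hβn⟩, -, hle⟩ := hdecG α hα
      have h3 : (x : Ω)⁻¹ * ((n x : E) : Ω) ∈ N := by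
        rw [← hβn x]; exact hDN (hS_B β hβ ⟨x, hE.1.1 x.2⟩)
      have h5 : ((n x : E) : Ω)⁻¹ * ((l (n x) : E) : Ω) ∈ N := by
        obtain ⟨d, hd, h4 | h4⟩ := hle (n x)
        · have h6 : ((n x : E) : Ω)⁻¹ * ((l (n x) : E) : Ω) = d := congrArg Subtype.val h4
          rw [h6]; exact hDN hd
        · have h6 : ((n x : E) : Ω)⁻¹ * ((l (n x) : E) : Ω) = (d : Ω) * (a : Ω) :=
            congrArg Subtype.val h4
          rw [h6]; exact N.mul_mem (hDN hd) haN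
      have e : (x : Ω)⁻¹ * ((α x : E) : Ω) =
          ((x : Ω)⁻¹ * ((n x : E) : Ω)) * (((n x : E) : Ω)⁻¹ * ((l (n x) : E) : Ω)) := by
        rw [hgl, MulAut.mul_apply]; group
      rw [e]; exact N.mul_mem h3 h5
    have hle : F.hyperfocalSubgroup 2 ≤ N := by
      apply hyp_le_of_aut 2 hS F hF N (hNgen N hDN)
      intro P hP
      rcases hP with rfl | hP
      · intro β hβ x; exact hDN (hS_B β hβ x)
      · rcases hess P hP with rfl | rfl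
        · exact hE_B _ hE₀ M₀ a₀ ha₀N hdecG₀
        · exact hE_B _ hE₁ M₁ a₁ ha₁N hdecG₁
    rw [hhyp] at hle
    -- dihedral structure
    obtain ⟨b₀, hb₀⟩ : ∃ b₀ : S, b₀ = ⟨(a₀ : Ω), hES₀ a₀.2⟩ := ⟨_, rfl⟩
    obtain ⟨b₁, hb₁⟩ : ∃ b₁ : S, b₁ = ⟨(a₁ : Ω), hES₁ a₁.2⟩ := ⟨_, rfl⟩
    have hb₀v : (b₀ : Ω) = a₀ := by rw [hb₀]
    have hb₁v : (b₁ : Ω) = a₁ := by rw [hb₁]
    have hb₀2 : b₀ * b₀ = 1 := by
      apply Subtype.ext
      show (b₀ : Ω) * (b₀ : Ω) = 1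
      rw [hb₀v]; exact ha₀2'
    have hb₁2 : b₁ * b₁ = 1 := by
      apply Subtype.ext
      show (b₁ : Ω) * (b₁ : Ω) = 1
      rw [hb₁v]; exact ha₁2'
    have hb₀1 : b₀ ≠ 1 := by
      intro h
      apply ha₀Z
      rw [← hb₀v, h]; exact (ZS S).one_mem
    have hb₁1 : b₁ ≠ 1 := by
      intro h
      apply ha₁Z
      rw [← hb₁v, h]; exact (ZS S).one_mem
    have ho₀ : orderOf b₀ = 2 := orderOf_eq_prime (by rw [pow_two]; exact hb₀2) hb₀1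
    have ho₁ : orderOf b₁ = 2 := orderOf_eq_prime (by rw [pow_two]; exact hb₁2) hb₁1
    have hb01 : b₀ ≠ b₁ := by
      intro h
      apply ha₁E₀
      rw [← hb₁v, ← h, hb₀v]; exact a₀.2
    have hsq : (b₀ * b₁) ^ 2 ≠ 1 := by
      intro h
      apply hncomm
      have h3 : (b₀ * b₁) * (b₀ * b₁) = 1 := by rw [← pow_two]; exact h
      have h4 : b₁ * b₀ = b₀ * b₁ := by
        calc b₁ * b₀ = (b₀ * b₀) * (b₁ * b₀) * (b₁ * b₁) := by rw [hb₀2, hb₁2]; group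
          _ = b₀ * ((b₀ * b₁) * (b₀ * b₁)) * b₁ := by group
          _ = b₀ * b₁ := by rw [h3]; group
      have h5 := congrArg Subtype.val h4
      simp only [Subgroup.coe_mul] at h5
      rw [hb₀v, hb₁v] at h5
      exact h5
    have hfour : (b₀ * b₁) ^ 4 = 1 := by
      have h3 : (((b₀ * b₁) ^ 2 : S) : Ω) ∈ DS S := by
        have h4 : (b₀ * b₁) ^ 2 = b₀ * b₁ * b₀⁻¹ * b₁⁻¹ := by
          rw [inv_eq_of_mul_eq_one_left hb₀2, inv_eq_of_mul_eq_one_left hb₁2, pow_two]; group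
        rw [h4]
        exact comm_mem_DS b₀.2 b₁.2
      have h5 := DS_sq hDcard h3
      apply Subtype.ext
      have h6 : (b₀ * b₁) ^ 4 = (b₀ * b₁) ^ 2 * (b₀ * b₁) ^ 2 := by rw [← pow_add]
      rw [h6]
      exact h5
    have ho : orderOf (b₀ * b₁) = 4 := by
      have := orderOf_eq_prime_pow (x := b₀ * b₁) (n := 1) (p := 2) (by simpa using hsq)
        (by simpa using hfour)
      simpa using this
    have hclos : Subgroup.closure ({b₀, b₁} : Set S) = ⊤ := by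
      rw [eq_top_iff]
      intro s _
      have h3 : N ≤ (Subgroup.closure ({b₀, b₁} : Set S)).map S.subtype := by
        rw [hNdef, Subgroup.closure_le]
        intro x hx
        rcases hx with rfl | hx
        · exact ⟨b₀, Subgroup.subset_closure (Set.mem_insert _ _), hb₀v⟩
        · rw [Set.mem_singleton_iff] at hx
          rw [hx]
          exact ⟨b₁, Subgroup.subset_closure (Set.mem_insert_of_mem _ (Set.mem_singleton _)), hb₁v⟩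
      obtain ⟨y, hy, hys⟩ := h3 (hle s.2)
      have hys' : y = s := Subtype.ext hys
      rw [← hys']; exact hy
    have hdih := Cfsg.Agent.S0206.result b₀ b₁ ho₀ ho₁ hb01
    rw [ho] at hdih
    obtain ⟨e⟩ := hdih
    have hiso : ↥S ≃* DihedralGroup 4 :=
      (Subgroup.topEquiv.symm.trans (MulEquiv.subgroupCongr hclos.symm)).trans e
    refine ⟨⟨hiso⟩, ?_⟩
    have hcS : Nat.card S = 8 := by
      rw [Nat.card_congr hiso.toEquiv, DihedralGroup.nat_card]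
    rw [hc2₀, hc1₀] at hcS
    omega

end Cfsg.Agent.Helper27.CI
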