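import Cfsg.Agent.Helper26.FusionNormal3
import Cfsg.Agent.Helper26.FusionNormal4
import Cfsg.Agent.Helper26.FusionSolvable
import Cfsg.Agent.Helper26.FusionSubnormal
import Cfsg.Agent.Helper26.AutInduced

set_option autoImplicit false

namespace Cfsg.Agent.Helper27

open Cfsg Cfsg.FusionSystem Cfsg.Agent.Helper26
open scoped commutatorElement

variable {Ω : Type*} [Group Ω]

theorem weaklyClosed_of_stronglyClosed {S : Subgroup Ω} [Finite S] (F : FusionSystem S)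
    {R : Subgroup Ω} (hR : F.StronglyClosed R) : F.WeaklyClosed R := by
  refine ⟨hR.1, fun φ hφ => ?_⟩
  have hfin : Finite R := finite_of_le hR.1
  have hle : φ.range ≤ R := by
    rintro _ ⟨x, rfl⟩
    exact hR.2 R le_rfl φ hφ x
  apply Subgroup.eq_of_le_of_card_ge hle
  exact (Nat.card_congr (Equiv.ofInjective φ (F.injective_of_mem hφ))).le

theorem stronglyClosed_sub {S T : Subgroup Ω} (F : FusionSystem S) (E : FusionSystem T)
    (hEF : ∀ P, E.Hom P ⊆ F.Hom P) {R : Subgroup Ω} (hR : F.StronglyClosed R) (hRT : R ≤ T) :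
    E.StronglyClosed R :=
  ⟨hRT, fun P hP φ hφ x => hR.2 P hP φ (hEF P hφ) x⟩

/-- A normal subsystem of a constrained fusion system is constrained. -/
theorem normal_constrained {S : Subgroup Ω} [Finite S] (p : ℕ) [Fact p.Prime] (hS : IsPGroup p S)
    (F : FusionSystem S) (hF : F.IsConstrained p) {T : Subgroup Ω} (E : FusionSystem T)
    (hE : E.IsNormalIn F p) : E.IsConstrained p := by
  obtain ⟨hFsat, Q, hQn, hQc⟩ := hF
  obtain ⟨⟨hEsat, -, hEF, hTsc, -, -⟩, -⟩ := hE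
  have hTS : T ≤ S := hTsc.1
  have hTfin : Finite T := finite_of_le hTS
  have hTp : IsPGroup p T := hS.to_le hTS
  have hQS : Q ≤ S := hQn.1
  have hQfin : Finite Q := finite_of_le hQS
  have hQp : IsPGroup p Q := hS.to_le hQS
  have hQsc : F.StronglyClosed Q := stronglyClosed_of_normal F hQn
  have hCQ : centralizerIn S Q ≤ Q := hQc.2 Q (isConj_refl F hQS)
  -- upper central series of Q
  have hnil : Group.IsNilpotent Q := hQp.isNilpotent
  obtain ⟨c, hc⟩ := hnil.nilpotent'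
  obtain ⟨Zi, hZi⟩ : ∃ Zi : ℕ → Subgroup Ω,
      ∀ i, Zi i = (Subgroup.upperCentralSeries Q i).map Q.subtype := ⟨_, fun _ => rfl⟩
  have hZiQ : ∀ i, Zi i ≤ Q := by
    intro i
    rw [hZi]
    rintro _ ⟨z, -, rfl⟩
    exact z.2
  have hZc : Zi c = Q := by
    rw [hZi, hc, ← MonoidHom.range_eq_map, Subgroup.range_subtype]
  have hZ0 : Zi 0 = ⊥ := by
    rw [hZi, Subgroup.upperCentralSeries_zero, Subgroup.map_bot]
  have hZmono : ∀ i, Zi i ≤ Zi (i + 1) := by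
    intro i
    rw [hZi, hZi]
    exact Subgroup.map_mono (Subgroup.upperCentralSeries_mono Q (Nat.le_succ i))
  have hZsc : ∀ i, F.StronglyClosed (Zi i) := by
    intro i
    refine ⟨(hZiQ i).trans hQS, fun R hR φ hφ x => ?_⟩
    obtain ⟨α, hα, hαφ⟩ :=
      (normal_iff_extend p hS F hFsat Q hQS).1 hQn R (hR.trans (hZiQ i)) φ hφ
    have hx := hR x.2
    rw [hZi] at hx ⊢
    obtain ⟨z, hz, hzx⟩ := hx
    have e : Subgroup.inclusion (hR.trans (hZiQ i)) x = z := Subtype.ext hzx.symm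
    rw [← hαφ x, e]
    have hchar : (Subgroup.upperCentralSeries Q i).Characteristic := inferInstance
    exact ⟨α z, Subgroup.characteristic_iff_map_le.1 hchar α ⟨z, hz, rfl⟩, rfl⟩
  have hZcomm : ∀ i, ∀ a ∈ Zi (i + 1), ∀ r ∈ Q, a * r * a⁻¹ * r⁻¹ ∈ Zi i := by
    intro i a ha r hr
    rw [hZi] at ha ⊢
    obtain ⟨z, hz, rfl⟩ := ha
    have h := Subgroup.mem_upperCentralSeries_succ_iff.1 hz ⟨r, hr⟩
    exact ⟨_, h, rfl⟩
  -- the candidate normal centric subgroup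
  obtain ⟨R0, hR0⟩ : ∃ R0 : Subgroup Ω, R0 = Q ⊓ T := ⟨_, rfl⟩
  obtain ⟨X, hX⟩ : ∃ X : Subgroup Ω, X = centralizerIn T R0 := ⟨_, rfl⟩
  have hXT : X ≤ T := hX ▸ inf_le_left
  have hR0T : R0 ≤ T := hR0 ▸ inf_le_right
  have hR0Q : R0 ≤ Q := hR0 ▸ inf_le_left
  have hXc : ∀ x ∈ X, ∀ r ∈ R0, r * x = x * r := by
    intro x hx r hr
    rw [hX] at hx
    exact (Subgroup.mem_centralizer_iff.1 (Subgroup.mem_inf.1 hx).2) r hr
  have hXmem : ∀ x, x ∈ T → (∀ r ∈ R0, r * x = x * r) → x ∈ X := by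
    intro x hxT h
    rw [hX]
    exact Subgroup.mem_inf.2 ⟨hxT, Subgroup.mem_centralizer_iff.2 h⟩
  have hXnorm : X ≤ Subgroup.normalizer (R0 : Set Ω) := by
    intro y hy
    rw [Subgroup.mem_normalizer_iff]
    intro n
    constructor
    · intro hn
      have e : y * n * y⁻¹ = n := by rw [← hXc y hy n hn, mul_inv_cancel_right]
      rw [e]; exact hn
    · intro hm
      have e : n = y * n * y⁻¹ := by
        have h1 := hXc y hy _ hm
        calc n = y⁻¹ * (y * n * y⁻¹ * y) := by group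
          _ = y⁻¹ * (y * (y * n * y⁻¹)) := by rw [h1]
          _ = y * n * y⁻¹ := by group
      rw [e]; exact hm
  have hUsc : E.StronglyClosed (X ⊔ R0) := by
    refine ⟨sup_le hXT hR0T, fun P hP φ hφ x => ?_⟩
    have hφF : φ ∈ F.Hom P := hEF P hφ
    obtain ⟨ψ, hψ, hres, hmap⟩ := hQn.2 P φ hφF
    obtain ⟨y, hy, r, hr, hxyr⟩ := mem_sup_of_le_normalizer hXnorm (hP x.2)
    have hrPQ : r ∈ P ⊔ Q := Subgroup.mem_sup_right (hR0Q hr)
    have hyPQ : y ∈ P ⊔ Q := by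
      have e : y = (x : Ω) * r⁻¹ := by rw [hxyr]; group
      rw [e]
      exact Subgroup.mul_mem _ (Subgroup.mem_sup_left x.2) (Subgroup.inv_mem _ hrPQ)
    have hx' : Subgroup.inclusion le_sup_left x = (⟨y, hyPQ⟩ : ↥(P ⊔ Q)) * ⟨r, hrPQ⟩ :=
      Subtype.ext hxyr
    rw [← hres x, hx', map_mul]
    have hψR0 : ∀ (r : Ω) (hr' : r ∈ P ⊔ Q), r ∈ R0 → ψ ⟨r, hr'⟩ ∈ R0 := by
      intro r hr' hr
      rw [hR0]
      refine Subgroup.mem_inf.2 ⟨?_, stronglyClosed_hom_mem F hTsc hψ ⟨r, hr'⟩ (hR0T hr)⟩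
      have h : ψ ⟨r, hr'⟩ ∈ (Q.subgroupOf (P ⊔ Q)).map ψ :=
        ⟨⟨r, hr'⟩, Subgroup.mem_subgroupOf.2 (hR0Q hr), rfl⟩
      rw [hmap] at h
      exact h
    have hsurj : ∀ r ∈ R0, ∃ r' ∈ R0, ∃ hr' : r' ∈ P ⊔ Q, ψ ⟨r', hr'⟩ = r := by
      have hfin : Finite R0 := finite_of_le (hR0T.trans hTS)
      obtain ⟨f, hf⟩ : ∃ f : R0 → R0, ∀ r : R0,
          ((f r : R0) : Ω) = ψ ⟨r, Subgroup.mem_sup_right (hR0Q r.2)⟩ :=
        ⟨fun r => ⟨ψ ⟨r, Subgroup.mem_sup_right (hR0Q r.2)⟩, hψR0 _ _ r.2⟩, fun _ => rfl⟩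
      have hfinj : Function.Injective f := by
        intro a b hab
        have h1 : ψ ⟨a, Subgroup.mem_sup_right (hR0Q a.2)⟩ =
            ψ ⟨b, Subgroup.mem_sup_right (hR0Q b.2)⟩ := by rw [← hf a, ← hf b, hab]
        have h2 := F.injective_of_mem hψ h1
        exact Subtype.ext (congrArg (fun z : ↥(P ⊔ Q) => (z : Ω)) h2)
      have hfsurj := Finite.injective_iff_surjective.1 hfinj
      intro r hr
      obtain ⟨r', hr'⟩ := hfsurj ⟨r, hr⟩
      refine ⟨r', r'.2, Subgroup.mem_sup_right (hR0Q r'.2), ?_⟩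
      rw [← hf r', hr']
    apply Subgroup.mul_mem
    · apply Subgroup.mem_sup_left
      apply hXmem
      · exact stronglyClosed_hom_mem F hTsc hψ ⟨y, hyPQ⟩ (hXT hy)
      · intro r1 hr1
        obtain ⟨r', hr'R0, hr'PQ, hr'eq⟩ := hsurj r1 hr1
        rw [← hr'eq, ← map_mul, ← map_mul]
        congr 1
        exact Subtype.ext (hXc y hy r' hr'R0)
    · exact Subgroup.mem_sup_right (hψR0 r hrPQ hr)
  -- the derived subgroup of X lies in R0
  have hXX : ∀ x1 ∈ X, ∀ x2 ∈ X, x1 * x2 * x1⁻¹ * x2⁻¹ ∈ R0 := by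
    have h1 : ⁅X, Q⁆ ≤ R0 := by
      rw [Subgroup.commutator_le]
      intro x hx q hq
      rw [hR0]
      have hxS : x ∈ S := hTS (hXT hx)
      refine Subgroup.mem_inf.2 ⟨?_, ?_⟩
      · exact Q.mul_mem (stronglyClosed_conj_mem F hQsc hxS hq) (Q.inv_mem hq)
      · have e : ⁅x, q⁆ = x * (q * x⁻¹ * q⁻¹) := by rw [commutatorElement_def]; group
        rw [e]
        exact T.mul_mem (hXT hx)
          (stronglyClosed_conj_mem F hTsc (hQS hq) (T.inv_mem (hXT hx)))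
    have h2 : ⁅R0, X⁆ = ⊥ := by
      rw [Subgroup.commutator_eq_bot_iff_le_centralizer]
      intro r hr
      rw [Subgroup.mem_centralizer_iff]
      intro x hx
      exact (hXc x hx r hr).symm
    have h3 : ⁅⁅X, Q⁆, X⁆ = ⊥ := by
      rw [eq_bot_iff, ← h2]
      exact Subgroup.commutator_mono h1 le_rfl
    have h4 : ⁅⁅Q, X⁆, X⁆ = ⊥ := by rw [Subgroup.commutator_comm Q X]; exact h3
    have h5 : ⁅⁅X, X⁆, Q⁆ = ⊥ := Subgroup.commutator_commutator_eq_bot_of_rotate h3 h4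
    rw [Subgroup.commutator_eq_bot_iff_le_centralizer] at h5
    intro x1 hx1 x2 hx2
    have hc : x1 * x2 * x1⁻¹ * x2⁻¹ ∈ ⁅X, X⁆ := Subgroup.commutator_mem_commutator hx1 hx2
    have hcT : x1 * x2 * x1⁻¹ * x2⁻¹ ∈ T :=
      T.mul_mem (T.mul_mem (T.mul_mem (hXT hx1) (hXT hx2)) (T.inv_mem (hXT hx1)))
        (T.inv_mem (hXT hx2))
    have hcQ : x1 * x2 * x1⁻¹ * x2⁻¹ ∈ Q := hCQ (Subgroup.mem_inf.2 ⟨hTS hcT, h5 hc⟩)
    rw [hR0]; exact Subgroup.mem_inf.2 ⟨hcQ, hcT⟩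
  -- the series
  obtain ⟨Rser, hRser⟩ : ∃ Rser : ℕ → Subgroup Ω,
      ∀ i, Rser i = if i ≤ c then Zi i ⊓ T else X ⊔ R0 := ⟨_, fun _ => rfl⟩
  have hser0 : Rser 0 = ⊥ := by rw [hRser, if_pos (Nat.zero_le c), hZ0, bot_inf_eq]
  have hsern : Rser (c + 1) = X ⊔ R0 := by rw [hRser, if_neg (by omega)]
  have hmono : ∀ i, Rser i ≤ Rser (i + 1) := by
    intro i
    by_cases h1 : i + 1 ≤ c
    · have h2 : i ≤ c := by omega
      rw [hRser, hRser, if_pos h1, if_pos h2]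
      exact inf_le_inf_right T (hZmono i)
    · by_cases h2 : i ≤ c
      · rw [hRser, hRser, if_neg h1, if_pos h2]
        exact (inf_le_inf_right T (hZiQ i)).trans (hR0 ▸ le_sup_right)
      · rw [hRser, hRser, if_neg h1, if_neg h2]
  have hwc : ∀ i, i < c + 1 → E.WeaklyClosed (Rser i) := by
    intro i hi
    have h2 : i ≤ c := by omega
    rw [hRser, if_pos h2]
    exact weaklyClosed_of_stronglyClosed E
      (stronglyClosed_sub F E hEF (stronglyClosed_inf F (hZsc i) hTsc) inf_le_right)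
  have hcomm : ∀ i, i < c + 1 → ⁅Rser (i + 1), X ⊔ R0⁆ ≤ Rser i := by
    intro i hi
    have h2 : i ≤ c := by omega
    rw [Subgroup.commutator_le]
    intro a ha u hu
    obtain ⟨y, hy, r, hr, rfl⟩ := mem_sup_of_le_normalizer hXnorm hu
    by_cases h1 : i + 1 ≤ c
    · rw [hRser, if_pos h1] at ha
      rw [hRser, if_pos h2]
      obtain ⟨haZ, haT⟩ := Subgroup.mem_inf.1 ha
      have haR0 : a ∈ R0 := by rw [hR0]; exact Subgroup.mem_inf.2 ⟨hZiQ _ haZ, haT⟩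
      have hay : a * y = y * a := hXc y hy a haR0
      have e : ⁅a, y * r⁆ = y * (a * r * a⁻¹ * r⁻¹) * y⁻¹ := by
        rw [commutatorElement_def]
        calc a * (y * r) * a⁻¹ * (y * r)⁻¹ = (a * y) * r * a⁻¹ * r⁻¹ * y⁻¹ := by group
          _ = y * a * r * a⁻¹ * r⁻¹ * y⁻¹ := by rw [hay]
          _ = y * (a * r * a⁻¹ * r⁻¹) * y⁻¹ := by group
      rw [e]
      have hcr : a * r * a⁻¹ * r⁻¹ ∈ Zi i ⊓ T :=
        Subgroup.mem_inf.2 ⟨hZcomm i a haZ r (hR0Q hr),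
          T.mul_mem (T.mul_mem (T.mul_mem haT (hR0T hr)) (T.inv_mem haT)) (T.inv_mem (hR0T hr))⟩
      exact stronglyClosed_conj_mem F (stronglyClosed_inf F (hZsc i) hTsc) (hTS (hXT hy)) hcr
    · have hic : i = c := by omega
      rw [hRser, if_neg h1] at ha
      rw [hRser, if_pos h2, hic, hZc, ← hR0]
      obtain ⟨y1, hy1, r1, hr1, rfl⟩ := mem_sup_of_le_normalizer hXnorm ha
      have ha1 : r1 * y = y * r1 := hXc y hy r1 hr1
      have hb1 : (r1 * r * r1⁻¹) * y1⁻¹ = y1⁻¹ * (r1 * r * r1⁻¹) :=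
        hXc _ (X.inv_mem hy1) _ (R0.mul_mem (R0.mul_mem hr1 hr) (R0.inv_mem hr1))
      have hc1 : (r1 * r * r1⁻¹ * r⁻¹) * y⁻¹ = y⁻¹ * (r1 * r * r1⁻¹ * r⁻¹) :=
        hXc _ (X.inv_mem hy) _
          (R0.mul_mem (R0.mul_mem (R0.mul_mem hr1 hr) (R0.inv_mem hr1)) (R0.inv_mem hr))
      have e : ⁅y1 * r1, y * r⁆ = (y1 * y * y1⁻¹ * y⁻¹) * (r1 * r * r1⁻¹ * r⁻¹) := by
        rw [commutatorElement_def]
        calc y1 * r1 * (y * r) * (y1 * r1)⁻¹ * (y * r)⁻¹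
            = y1 * (r1 * y) * r * r1⁻¹ * y1⁻¹ * r⁻¹ * y⁻¹ := by group
          _ = y1 * (y * r1) * r * r1⁻¹ * y1⁻¹ * r⁻¹ * y⁻¹ := by rw [ha1]
          _ = y1 * y * ((r1 * r * r1⁻¹) * y1⁻¹) * r⁻¹ * y⁻¹ := by group
          _ = y1 * y * (y1⁻¹ * (r1 * r * r1⁻¹)) * r⁻¹ * y⁻¹ := by rw [hb1]
          _ = y1 * y * y1⁻¹ * ((r1 * r * r1⁻¹ * r⁻¹) * y⁻¹) := by group
          _ = y1 * y * y1⁻¹ * (y⁻¹ * (r1 * r * r1⁻¹ * r⁻¹)) := by rw [hc1]
          _ = (y1 * y * y1⁻¹ * y⁻¹) * (r1 * r * r1⁻¹ * r⁻¹) := by group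
      rw [e]
      exact R0.mul_mem (hXX y1 hy1 y hy)
        (R0.mul_mem (R0.mul_mem (R0.mul_mem hr1 hr) (R0.inv_mem hr1)) (R0.inv_mem hr))
  have hUn : E.IsNormal (X ⊔ R0) :=
    normal_of_weak_series p hTp E hEsat hUsc Rser (c + 1) hser0 hsern hmono hwc hcomm
  refine ⟨hEsat, X ⊔ R0, hUn, sup_le hXT hR0T, fun Q' hconj => ?_⟩
  obtain ⟨φ, hφ, rfl⟩ := hconj
  rw [(weaklyClosed_of_stronglyClosed E hUsc).2 φ hφ]
  intro g hg
  apply Subgroup.mem_sup_left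
  apply hXmem g (Subgroup.mem_inf.1 hg).1
  intro r hr
  exact (Subgroup.mem_centralizer_iff.1 (Subgroup.mem_inf.1 hg).2) r (Subgroup.mem_sup_right hr)

theorem subnormal_constrained : ∀ {T : Subgroup Ω} (E : FusionSystem T) {S : Subgroup Ω}
    (F : FusionSystem S) (p : ℕ), E.IsSubnormalIn F p → Finite S → Fact p.Prime →
    IsPGroup p S → F.IsConstrained p → E.IsConstrained p := by
  intro T E S F p h
  induction h with
  | refl F p => intro _ _ _ hF; exact hF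
  | @step U S E D F p hED hDF ih =>
    intro hfin hp hS hF
    have hUS : U ≤ S := hDF.1.2.2.2.1.1
    exact ih (finite_of_le hUS) hp (hS.to_le hUS) (normal_constrained p hS F hF D hDF)

end Cfsg.Agent.Helper27
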