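import Mathlib

set_option autoImplicit false

namespace Cfsg.Agent.Helper27

variable {G : Type*} [Group G]

theorem zpowers_commute {g a b : G} (ha : a ∈ Subgroup.zpowers g) (hb : b ∈ Subgroup.zpowers g) :
    Commute a b := by
  obtain ⟨k, rfl⟩ := ha
  obtain ⟨l, rfl⟩ := hb
  exact (Commute.refl g).zpow_zpow k l

/-- The elements of `⟨g⟩` killed by `n`. -/
def powKer (g : G) (n : ℕ) : Subgroup G where
  carrier := {q | q ∈ Subgroup.zpowers g ∧ q ^ n = 1}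
  mul_mem' := by
    rintro a b ⟨ha, ha'⟩ ⟨hb, hb'⟩
    refine ⟨mul_mem ha hb, ?_⟩
    rw [(zpowers_commute ha hb).mul_pow, ha', hb', one_mul]
  one_mem' := ⟨one_mem _, one_pow _⟩
  inv_mem' := by
    rintro a ⟨ha, ha'⟩
    exact ⟨inv_mem ha, by rw [inv_pow, ha', inv_one]⟩

theorem mem_powKer {g q : G} {n : ℕ} :
    q ∈ powKer g n ↔ q ∈ Subgroup.zpowers g ∧ q ^ n = 1 := Iff.rfl

theorem conj_mem_zpowers {σ g r : G} (h : σ * g * σ⁻¹ ∈ Subgroup.zpowers g)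
    (hr : r ∈ Subgroup.zpowers g) : σ * r * σ⁻¹ ∈ Subgroup.zpowers g := by
  obtain ⟨k, rfl⟩ := hr
  rw [← conj_zpow]
  exact zpow_mem h k

/-- An element of `p`-power order normalizing `⟨g⟩` centralizes the elements of order `p` in
`⟨g⟩`. -/
theorem cyc_norm (p : ℕ) [Fact p.Prime] {σ g r : G} {e : ℕ} (hσ : σ ^ (p ^ e) = 1)
    (h : σ * g * σ⁻¹ ∈ Subgroup.zpowers g) (hr : r ∈ Subgroup.zpowers g) (hrp : r ^ p = 1) :
    σ * r * σ⁻¹ = r := by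
  obtain ⟨a, ha⟩ := h
  have ha' : g ^ a = σ * g * σ⁻¹ := ha
  have key : ∀ r ∈ Subgroup.zpowers g, σ * r * σ⁻¹ = r ^ a := by
    rintro _ ⟨k, rfl⟩
    show σ * g ^ k * σ⁻¹ = (g ^ k) ^ a
    rw [← conj_zpow, ← ha', ← zpow_mul, ← zpow_mul, mul_comm]
  have iter : ∀ n : ℕ, ∀ r ∈ Subgroup.zpowers g, σ ^ n * r * (σ ^ n)⁻¹ = r ^ (a ^ n) := by
    intro n
    induction n with
    | zero => intro r _; simp
    | succ n ih =>
      intro r hr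
      have h1 : σ ^ (n + 1) * r * (σ ^ (n + 1))⁻¹ = σ ^ n * (σ * r * σ⁻¹) * (σ ^ n)⁻¹ := by
        rw [pow_succ]; group
      rw [h1, key r hr, ih _ (zpow_mem hr a), ← zpow_mul, pow_succ, mul_comm]
  by_cases hr1 : r = 1
  · subst hr1; simp
  have hord : orderOf r = p := orderOf_eq_prime hrp hr1
  have h2 := iter (p ^ e) r hr
  rw [hσ, one_mul, inv_one, mul_one] at h2
  rw [key r hr]
  have h3 : r ^ (a ^ (p ^ e) - 1) = 1 := by
    rw [zpow_sub, ← h2, zpow_one, mul_inv_cancel]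
  have h4 : (p : ℤ) ∣ a ^ (p ^ e) - 1 := by
    have := orderOf_dvd_iff_zpow_eq_one.2 h3
    rwa [hord] at this
  have h5 : ((a ^ (p ^ e) - 1 : ℤ) : ZMod p) = 0 := (ZMod.intCast_zmod_eq_zero_iff_dvd _ p).2 h4
  have h6 : ((a - 1 : ℤ) : ZMod p) = 0 := by
    push_cast at h5 ⊢
    rw [ZMod.pow_card_pow] at h5
    exact h5
  have h7 : (p : ℤ) ∣ a - 1 := (ZMod.intCast_zmod_eq_zero_iff_dvd _ p).1 h6
  have h8 : r ^ (a - 1) = 1 := by
    apply orderOf_dvd_iff_zpow_eq_one.1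
    rw [hord]; exact h7
  rw [zpow_sub, zpow_one, mul_inv_eq_one] at h8
  exact h8

/-- A coprime automorphism acting trivially on `A` and on `B` modulo `A` acts trivially on `B`. -/
theorem stab_triv (p : ℕ) [Fact p.Prime] (hG : IsPGroup p G) (γ : MulAut G) {n : ℕ}
    (hn : γ ^ n = 1) (hnp : n.Coprime p) (A B : Subgroup G) (hA : ∀ a ∈ A, γ a = a)
    (hB : ∀ y ∈ B, γ y * y⁻¹ ∈ A) : ∀ y ∈ B, γ y = y := by
  intro y hy
  have hγy : γ y = (γ y * y⁻¹) * y := by group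
  have hfix := hA _ (hB y hy)
  have iter : ∀ k : ℕ, (γ ^ k) y = (γ y * y⁻¹) ^ k * y := by
    intro k
    induction k with
    | zero => simp
    | succ k ih =>
      rw [pow_succ', MulAut.mul_apply, ih, map_mul, map_pow, hfix, pow_succ]
      group
  have h1 := iter n
  rw [hn, MulAut.one_apply] at h1
  have h2 : (γ y * y⁻¹) ^ n = 1 := by
    have : (γ y * y⁻¹) ^ n * y = 1 * y := by rw [one_mul]; exact h1.symm
    exact mul_right_cancel this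
  obtain ⟨m, hm⟩ := hG (γ y * y⁻¹)
  have h3 : orderOf (γ y * y⁻¹) = 1 :=
    Nat.eq_one_of_dvd_coprimes (Nat.Coprime.pow_right m hnp) (orderOf_dvd_of_pow_eq_one h2)
      (orderOf_dvd_of_pow_eq_one hm)
  rw [orderOf_eq_one_iff] at h3
  rw [hγy, h3, one_mul]

section Quot

variable (N : Subgroup G) [N.Normal] (x : G)

theorem mem_sup_zpowers_iff (y : G) :
    y ∈ N ⊔ Subgroup.zpowers x ↔ (y : G ⧸ N) ∈ Subgroup.zpowers (x : G ⧸ N) := by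
  constructor
  · intro hy
    have hle : N ⊔ Subgroup.zpowers x ≤
        (Subgroup.zpowers (x : G ⧸ N)).comap (QuotientGroup.mk' N) := by
      apply sup_le
      · intro n hn
        rw [Subgroup.mem_comap]
        have : (QuotientGroup.mk' N) n = 1 := (QuotientGroup.eq_one_iff n).2 hn
        rw [this]; exact one_mem _
      · rw [Subgroup.zpowers_le]
        exact Subgroup.mem_zpowers _
    exact hle hy
  · rintro ⟨k, hk⟩
    have hk' : ((x ^ k : G) : G ⧸ N) = (y : G ⧸ N) := hk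
    have h1 : (x ^ k)⁻¹ * y ∈ N := QuotientGroup.eq.1 hk'
    have : y = x ^ k * ((x ^ k)⁻¹ * y) := by group
    rw [this]
    exact mul_mem (Subgroup.mem_sup_right (zpow_mem (Subgroup.mem_zpowers x) k))
      (Subgroup.mem_sup_left h1)

/-- The refinement of the cyclic step `N ≤ N ⊔ ⟨x⟩`: the elements whose image in the cyclic
quotient is killed by `p ^ j`. -/
def cycD (p j : ℕ) : Subgroup G := (powKer (x : G ⧸ N) (p ^ j)).comap (QuotientGroup.mk' N)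

theorem mem_cycD {p j : ℕ} {y : G} : y ∈ cycD N x p j ↔
    (y : G ⧸ N) ∈ Subgroup.zpowers (x : G ⧸ N) ∧ (y : G ⧸ N) ^ (p ^ j) = 1 := Iff.rfl

theorem cycD_zero (p : ℕ) : cycD N x p 0 = N := by
  ext y
  rw [mem_cycD, pow_zero, pow_one]
  constructor
  · rintro ⟨-, h⟩; exact (QuotientGroup.eq_one_iff y).1 h
  · intro h
    have := (QuotientGroup.eq_one_iff y).2 h
    rw [this]; exact ⟨one_mem _, rfl⟩

theorem cycD_mono (p j : ℕ) : cycD N x p j ≤ cycD N x p (j + 1) := by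
  intro y hy
  rw [mem_cycD] at hy ⊢
  exact ⟨hy.1, by rw [pow_succ, pow_mul, hy.2, one_pow]⟩

theorem cycD_le (p j : ℕ) : cycD N x p j ≤ N ⊔ Subgroup.zpowers x :=
  fun y hy => (mem_sup_zpowers_iff N x y).2 hy.1

theorem cycD_top (p j : ℕ) (h : ∀ q : G ⧸ N, q ^ (p ^ j) = 1) :
    cycD N x p j = N ⊔ Subgroup.zpowers x := by
  ext y
  rw [mem_cycD, mem_sup_zpowers_iff]
  exact ⟨fun h' => h'.1, fun h' => ⟨h', h _⟩⟩

theorem cycD_comm (p : ℕ) [Fact p.Prime] {e : ℕ} (s : G) (hs : s ^ (p ^ e) = 1)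
    (hsx : s * x * s⁻¹ ∈ N ⊔ Subgroup.zpowers x) (j : ℕ) {y : G}
    (hy : y ∈ cycD N x p (j + 1)) : s * y * s⁻¹ * y⁻¹ ∈ cycD N x p j := by
  rw [mem_cycD] at hy ⊢
  have hσg : (s : G ⧸ N) * (x : G ⧸ N) * (s : G ⧸ N)⁻¹ ∈ Subgroup.zpowers (x : G ⧸ N) :=
    (mem_sup_zpowers_iff N x _).1 hsx
  have hσ : (s : G ⧸ N) ^ (p ^ e) = 1 := by
    rw [← QuotientGroup.mk_pow, hs]; rfl
  have hc : ((s * y * s⁻¹ * y⁻¹ : G) : G ⧸ N) =
      ((s : G ⧸ N) * (y : G ⧸ N) * (s : G ⧸ N)⁻¹) * (y : G ⧸ N)⁻¹ := rfl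
  have h1 := conj_mem_zpowers hσg hy.1
  rw [hc]
  refine ⟨mul_mem h1 (inv_mem hy.1), ?_⟩
  rw [(zpowers_commute h1 (inv_mem hy.1)).mul_pow, conj_pow, inv_pow]
  have hr : ((y : G ⧸ N) ^ (p ^ j)) ^ p = 1 := by
    rw [← pow_mul, ← pow_succ]; exact hy.2
  rw [cyc_norm p hσ hσg (pow_mem hy.1 _) hr, mul_inv_cancel]

theorem aut_power (h : MulAut G) (hN : ∀ n ∈ N, h n ∈ N) (hx : h x ∈ N ⊔ Subgroup.zpowers x) :
    ∃ a : ℤ, ∀ y ∈ N ⊔ Subgroup.zpowers x, ((h y : G) : G ⧸ N) = (y : G ⧸ N) ^ a := by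
  obtain ⟨a, ha⟩ := (mem_sup_zpowers_iff N x _).1 hx
  have ha' : (x : G ⧸ N) ^ a = ((h x : G) : G ⧸ N) := ha
  refine ⟨a, fun y hy => ?_⟩
  obtain ⟨k, hk⟩ := (mem_sup_zpowers_iff N x y).1 hy
  have hk' : ((x ^ k : G) : G ⧸ N) = (y : G ⧸ N) := hk
  have h1 : (x ^ k)⁻¹ * y ∈ N := QuotientGroup.eq.1 hk'
  have h2 := hN _ h1
  rw [map_mul, map_inv, map_zpow] at h2
  have h3 : (((h x) ^ k : G) : G ⧸ N) = ((h y : G) : G ⧸ N) := QuotientGroup.eq.2 h2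
  rw [← h3, QuotientGroup.mk_zpow, ← ha', ← hk', QuotientGroup.mk_zpow, ← zpow_mul, ← zpow_mul,
    mul_comm]

theorem sup_aut (h : MulAut G) (hN : ∀ n ∈ N, h n ∈ N) (hx : h x ∈ N ⊔ Subgroup.zpowers x)
    {y : G} (hy : y ∈ N ⊔ Subgroup.zpowers x) : h y ∈ N ⊔ Subgroup.zpowers x := by
  obtain ⟨a, ha⟩ := aut_power N x h hN hx
  rw [mem_sup_zpowers_iff, ha y hy]
  exact zpow_mem ((mem_sup_zpowers_iff N x y).1 hy) a

theorem cycD_aut (h : MulAut G) (hN : ∀ n ∈ N, h n ∈ N) (hx : h x ∈ N ⊔ Subgroup.zpowers x)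
    (p j : ℕ) {y : G} (hy : y ∈ cycD N x p j) : h y ∈ cycD N x p j := by
  obtain ⟨a, ha⟩ := aut_power N x h hN hx
  rw [mem_cycD] at hy ⊢
  rw [ha y ((mem_sup_zpowers_iff N x y).2 hy.1)]
  refine ⟨zpow_mem hy.1 a, ?_⟩
  rw [← zpow_natCast, ← zpow_mul, mul_comm, zpow_mul, zpow_natCast, hy.2, one_zpow]

/-- Two automorphisms stabilizing the cyclic step commute modulo `N` on `N ⊔ ⟨x⟩`. -/
theorem comm_triv (h h' : MulAut G) (hN : ∀ n ∈ N, h n ∈ N) (hx : h x ∈ N ⊔ Subgroup.zpowers x)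
    (hN' : ∀ n ∈ N, h' n ∈ N) (hx' : h' x ∈ N ⊔ Subgroup.zpowers x) {y : G}
    (hy : y ∈ N ⊔ Subgroup.zpowers x) : h (h' y) * (h' (h y))⁻¹ ∈ N := by
  obtain ⟨a, ha⟩ := aut_power N x h hN hx
  obtain ⟨b, hb⟩ := aut_power N x h' hN' hx'
  have h1 := ha _ (sup_aut N x h' hN' hx' hy)
  have h2 := hb _ (sup_aut N x h hN hx hy)
  rw [hb y hy, ← zpow_mul] at h1
  rw [ha y hy, ← zpow_mul, mul_comm] at h2
  have h3 : ((h (h' y) : G) : G ⧸ N) = ((h' (h y) : G) : G ⧸ N) := h1.trans h2.symm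
  have h4 := QuotientGroup.eq.1 h3.symm
  have h5 := Subgroup.Normal.conj_mem inferInstance _ h4 (h' (h y))
  have h6 : h' (h y) * ((h' (h y))⁻¹ * h (h' y)) * (h' (h y))⁻¹ = h (h' y) * (h' (h y))⁻¹ := by
    group
  rw [h6] at h5
  exact h5

/-- The `(p-1)`-st power of an automorphism stabilizing the cyclic step acts trivially on the
factors of the refined chain. -/
theorem pow_triv (p : ℕ) [Fact p.Prime] (h : MulAut G) (hN : ∀ n ∈ N, h n ∈ N)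
    (hx : h x ∈ N ⊔ Subgroup.zpowers x) (hN' : ∀ n ∈ N, h⁻¹ n ∈ N)
    (hx' : h⁻¹ x ∈ N ⊔ Subgroup.zpowers x) (j : ℕ) {z : G} (hz : z ∈ cycD N x p (j + 1)) :
    (h ^ (p - 1)) z * z⁻¹ ∈ cycD N x p j := by
  obtain ⟨a, ha⟩ := aut_power N x h hN hx
  have hzB : z ∈ N ⊔ Subgroup.zpowers x := cycD_le N x p (j + 1) hz
  have iter : ∀ n : ℕ, ∀ y ∈ N ⊔ Subgroup.zpowers x,
      (h ^ n) y ∈ N ⊔ Subgroup.zpowers x ∧ (((h ^ n) y : G) : G ⧸ N) = (y : G ⧸ N) ^ (a ^ n) := by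
    intro n
    induction n with
    | zero => intro y hy; exact ⟨hy, by simp⟩
    | succ n ih =>
      intro y hy
      have h1 := ih _ (sup_aut N x h hN hx hy)
      rw [pow_succ, MulAut.mul_apply]
      refine ⟨h1.1, ?_⟩
      rw [h1.2, ha y hy, ← zpow_mul, pow_succ, mul_comm]
  have hz' := hz
  rw [mem_cycD] at hz' ⊢
  have hc : (((h ^ (p - 1)) z * z⁻¹ : G) : G ⧸ N) =
      (z : G ⧸ N) ^ (a ^ (p - 1)) * (z : G ⧸ N)⁻¹ := by
    rw [QuotientGroup.mk_mul, (iter (p - 1) z hzB).2]; rfl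
  rw [hc]
  refine ⟨mul_mem (zpow_mem hz'.1 _) (inv_mem hz'.1), ?_⟩
  have hr : ((z : G ⧸ N) ^ (p ^ j)) ^ p = 1 := by
    rw [← pow_mul, ← pow_succ]; exact hz'.2
  have e1 : ((z : G ⧸ N) ^ (a ^ (p - 1)) * (z : G ⧸ N)⁻¹) ^ (p ^ j) =
      ((z : G ⧸ N) ^ (p ^ j)) ^ (a ^ (p - 1) - 1) := by
    rw [zpow_sub, zpow_one, ← zpow_natCast ((z : G ⧸ N) ^ (a ^ (p - 1)) * (z : G ⧸ N)⁻¹),
      ← zpow_natCast (z : G ⧸ N), ← zpow_mul, mul_comm, zpow_mul,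
      (zpowers_commute (zpow_mem hz'.1 (a ^ (p - 1))) (inv_mem hz'.1)).mul_zpow, inv_zpow]
  rw [e1]
  by_cases hr1 : (z : G ⧸ N) ^ (p ^ j) = 1
  · rw [hr1, one_zpow]
  have hord : orderOf ((z : G ⧸ N) ^ (p ^ j)) = p := orderOf_eq_prime hr hr1
  have ha0 : ((a : ℤ) : ZMod p) ≠ 0 := by
    intro h0
    have h1 : (p : ℤ) ∣ a := (ZMod.intCast_zmod_eq_zero_iff_dvd _ p).1 h0
    have h2 : ((z : G ⧸ N) ^ (p ^ j)) ^ a = 1 := by
      apply orderOf_dvd_iff_zpow_eq_one.1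
      rw [hord]; exact h1
    have h3 : h z ∈ cycD N x p j := by
      rw [mem_cycD, ha z hzB]
      refine ⟨zpow_mem hz'.1 a, ?_⟩
      rw [← zpow_natCast, ← zpow_mul, mul_comm, zpow_mul, zpow_natCast]
      exact h2
    have h4 := cycD_aut N x h⁻¹ hN' hx' p j h3
    rw [MulAut.inv_apply_self] at h4
    exact hr1 h4.2
  have h5 : ((a ^ (p - 1) - 1 : ℤ) : ZMod p) = 0 := by
    push_cast
    rw [ZMod.pow_card_sub_one_eq_one ha0, sub_self]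
  have h6 : (p : ℤ) ∣ a ^ (p - 1) - 1 := (ZMod.intCast_zmod_eq_zero_iff_dvd _ p).1 h5
  apply orderOf_dvd_iff_zpow_eq_one.1
  rw [hord]; exact h6

end Quot

end Cfsg.Agent.Helper27
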