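import Cfsg.Agent.Helper27.MinCoprime
import Cfsg.Agent.Helper26.FusionHyp
import Cfsg.Agent.Helper26.FusionNormal2

set_option autoImplicit false

namespace Cfsg.Agent.Helper27

open Cfsg Cfsg.FusionSystem Cfsg.Agent.Helper26
open scoped commutatorElement

variable {Ω : Type*} [Group Ω]

/-- The trace on `P` of the `i`-th term of the upper central series of `S`. -/
def zsub (S P : Subgroup Ω) (i : ℕ) : Subgroup P :=
  ((Subgroup.upperCentralSeries S i).map S.subtype).subgroupOf P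

theorem mem_zsub {S P : Subgroup Ω} {i : ℕ} {x : P} :
    x ∈ zsub S P i ↔ ∃ z ∈ Subgroup.upperCentralSeries S i, (z : Ω) = x := by
  unfold zsub
  rw [Subgroup.mem_subgroupOf]
  exact Iff.rfl

theorem zsub_mono {S P : Subgroup Ω} {i j : ℕ} (h : i ≤ j) : zsub S P i ≤ zsub S P j := by
  intro x hx
  obtain ⟨z, hz, hzx⟩ := mem_zsub.1 hx
  exact mem_zsub.2 ⟨z, Subgroup.upperCentralSeries_mono S h hz, hzx⟩

theorem zsub_zero {S P : Subgroup Ω} {x : P} (hx : x ∈ zsub S P 0) : x = 1 := by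
  obtain ⟨z, hz, hzx⟩ := mem_zsub.1 hx
  rw [Subgroup.upperCentralSeries_zero, Subgroup.mem_bot] at hz
  apply Subtype.ext
  rw [← hzx, hz]
  rfl

theorem zsub_top {S P : Subgroup Ω} [Group.IsNilpotent S] (hPS : P ≤ S) :
    zsub S P (Group.nilpotencyClass S) = ⊤ := by
  rw [eq_top_iff]
  intro x _
  refine mem_zsub.2 ⟨⟨x, hPS x.2⟩, ?_, rfl⟩
  rw [Subgroup.upperCentralSeries_nilpotencyClass]
  exact Subgroup.mem_top _

theorem zsub_comm_mem {S P : Subgroup Ω} {g : Ω} (hg : g ∈ S) {c j : ℕ} {x y : P}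
    (hx : x ∈ zsub S P (c - j)) (hy : (y : Ω) = (x : Ω)⁻¹ * (g * x * g⁻¹)) :
    y ∈ zsub S P (c - (j + 1)) := by
  obtain ⟨z, hz, hzx⟩ := mem_zsub.1 hx
  by_cases hj : j < c
  · have e : c - j = (c - (j + 1)) + 1 := by omega
    rw [e] at hz
    have h := Subgroup.mem_upperCentralSeries_succ_iff.1 (Subgroup.inv_mem _ hz) ⟨g, hg⟩
    refine mem_zsub.2 ⟨_, h, ?_⟩
    rw [hy, ← hzx]
    show (z : Ω)⁻¹ * g * ((z : Ω)⁻¹)⁻¹ * g⁻¹ = (z : Ω)⁻¹ * (g * z * g⁻¹)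
    group
  · have e : c - j = 0 := by omega
    rw [e, Subgroup.upperCentralSeries_zero, Subgroup.mem_bot] at hz
    have hx1 : (x : Ω) = 1 := by rw [← hzx, hz]; rfl
    have hy1 : y = 1 := by
      apply Subtype.ext
      rw [hy, hx1]
      simp
    rw [hy1]
    exact Subgroup.one_mem _

theorem zsub_hom_mem {S : Subgroup Ω} [Finite S] (F : FusionSystem S) {P : Subgroup Ω}
    (hPS : P ≤ S) {β : S →* Ω} (hβ : β ∈ F.Hom S) {x y : P}
    (hxy : β ⟨x, hPS x.2⟩ = y) {i : ℕ} (hx : x ∈ zsub S P i) : y ∈ zsub S P i := by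
  obtain ⟨β', hβ'⟩ : ∃ β' : S →* S, ∀ s : S, ((β' s : S) : Ω) = β s :=
    ⟨β.codRestrict S (fun s => (F.le_of_mem hβ).2 s), fun _ => rfl⟩
  have hinj : Function.Injective β' := by
    intro a b hab
    apply F.injective_of_mem hβ
    rw [← hβ' a, ← hβ' b, hab]
  have hsurj : Function.Surjective β' := Finite.injective_iff_surjective.mp hinj
  obtain ⟨e, he⟩ : ∃ e : S ≃* S, ∀ s : S, e s = β' s :=
    ⟨MulEquiv.ofBijective β' ⟨hinj, hsurj⟩, fun _ => rfl⟩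
  have hc : (Subgroup.upperCentralSeries S i).Characteristic := inferInstance
  obtain ⟨z, hz, hzx⟩ := mem_zsub.1 hx
  have hzeq : z = ⟨x, hPS x.2⟩ := Subtype.ext hzx
  have h1 : e z ∈ Subgroup.upperCentralSeries S i :=
    Subgroup.characteristic_iff_map_le.1 hc e ⟨z, hz, rfl⟩
  refine mem_zsub.2 ⟨e z, h1, ?_⟩
  rw [he, hβ', hzeq, hxy]

/-- The descending chain `R ∩ Z_{c-j}(S)`. -/
def zchain (S P : Subgroup Ω) (R : Subgroup P) (c : ℕ) (j : ℕ) : Subgroup P :=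
  R ⊓ zsub S P (c - j)

theorem zchain_anti (S P : Subgroup Ω) (R : Subgroup P) (c : ℕ) (j : ℕ) :
    zchain S P R c (j + 1) ≤ zchain S P R c j :=
  inf_le_inf_left R (zsub_mono (by omega))

/-- An automorphism stabilizing the chain `R ∩ Z_i(S)` acts on `R` as a `p`-element. -/
theorem chain_fix_of_stab {S : Subgroup Ω} [Finite S] {p : ℕ} [Fact p.Prime] (hS : IsPGroup p S)
    {P : Subgroup Ω} (hPS : P ≤ S) (R : Subgroup P) (c : ℕ) (hc : zsub S P c = ⊤) (k : MulAut P)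
    (hk : StabChain (zchain S P R c) k) : ∃ j : ℕ, ∀ x ∈ R, (k ^ p ^ j) x = x := by
  have hPfin : Finite P := finite_of_le hPS
  have hPp : IsPGroup p P := hS.to_le hPS
  obtain ⟨e, he⟩ : ∃ e, ∀ u : P, u ^ p ^ e = 1 := by
    obtain ⟨e, hcard⟩ := IsPGroup.iff_card.1 hPp
    exact ⟨e, fun u => by rw [← hcard]; exact pow_card_eq_one'⟩
  obtain ⟨j, hj⟩ := stab_pow_fix he k (zchain S P R c) (zchain_anti S P R c) c
    ⟨0, fun y hy => by
      have h0 : y ∈ zsub S P (c - c) := hy.2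
      rw [Nat.sub_self] at h0
      rw [zsub_zero h0, map_one]⟩ hk c le_rfl
  refine ⟨j, fun x hx => hj x ?_⟩
  rw [Nat.sub_self]
  refine ⟨hx, ?_⟩
  show x ∈ zsub S P (c - 0)
  rw [Nat.sub_zero, hc]
  exact Subgroup.mem_top x

theorem card_zpowers_small {p : ℕ} [Fact p.Prime] {x : Ω} (hx1 : x ≠ 1)
    (hs : x ^ p = 1 ∨ (p = 2 ∧ x ^ 4 = 1)) :
    Nat.card (Subgroup.zpowers x) = p ∨ Nat.card (Subgroup.zpowers x) = 4 := by
  rw [Nat.card_zpowers]
  rcases hs with h | ⟨h2, h4⟩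
  · left; exact orderOf_eq_prime h hx1
  · have hd : orderOf x ∣ 2 ^ 2 := orderOf_dvd_of_pow_eq_one h4
    obtain ⟨i, hi, hxi⟩ := (Nat.dvd_prime_pow Nat.prime_two).1 hd
    interval_cases i
    · exfalso
      rw [pow_zero] at hxi
      exact hx1 (orderOf_eq_one_iff.1 hxi)
    · left; rw [hxi, h2]; rfl
    · right; rw [hxi]; rfl

/-- The restriction of an `F`-automorphism of `P` to a cyclic subgroup. -/
theorem restrict_zpowers {S : Subgroup Ω} (F : FusionSystem S) {P : Subgroup Ω} (hPS : P ≤ S)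
    {k : MulAut P} (hk : k ∈ F.autGroup P) (x : P) :
    ∃ φ : Subgroup.zpowers (x : Ω) →* Ω,
      φ ∈ F.homSet (Subgroup.zpowers (x : Ω)) (Subgroup.zpowers ((k x : P) : Ω)) ∧
      φ ⟨x, Subgroup.mem_zpowers _⟩ = ((k x : P) : Ω) := by
  have hAP : Subgroup.zpowers (x : Ω) ≤ P := Subgroup.zpowers_le.2 x.2
  have hφ : (P.subtype.comp k.toMonoidHom).comp (Subgroup.inclusion hAP) ∈
      F.Hom (Subgroup.zpowers (x : Ω)) :=
    restrict_mem F ((mem_autGroup_iff F hPS).1 hk) hAP (fun _ => rfl)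
  refine ⟨_, ⟨hφ, fun a => ?_⟩, rfl⟩
  obtain ⟨n, hn⟩ := Subgroup.mem_zpowers_iff.1 a.2
  have e : Subgroup.inclusion hAP a = x ^ n := by
    apply Subtype.ext
    rw [Subgroup.coe_zpow, hn]
    rfl
  show ((k (Subgroup.inclusion hAP a) : P) : Ω) ∈ Subgroup.zpowers ((k x : P) : Ω)
  rw [e, map_zpow, Subgroup.coe_zpow]
  exact Subgroup.zpow_mem_zpowers _ n

/-- `[P, γ] ≤ hyp(F)` for a `p'`-element `γ` of `Aut_F(P)`. -/
theorem comm_mem_hyp {S : Subgroup Ω} (F : FusionSystem S) (p : ℕ) {P : Subgroup Ω} (hPS : P ≤ S)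
    {g : MulAut P} (hg : g ∈ F.autGroup P) {m : ℕ} (hm : g ^ m = 1) (hcop : Nat.Coprime m p)
    (u : P) : ((u⁻¹ * g u : P) : Ω) ∈ F.hyperfocalSubgroup p := by
  unfold hyperfocalSubgroup
  apply Subgroup.subset_closure
  refine ⟨P, ⟨g, hg⟩, u, hPS, ?_, rfl⟩
  unfold pResidual
  apply Subgroup.subset_closure
  show Nat.Coprime (orderOf (⟨g, hg⟩ : F.autGroup P)) p
  have h1 : (⟨g, hg⟩ : F.autGroup P) ^ m = 1 := Subtype.ext (by simpa using hm)
  exact Nat.Coprime.coprime_dvd_left (orderOf_dvd_of_pow_eq_one h1) hcop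

end Cfsg.Agent.Helper27
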