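import Cfsg.Agent.Helper26.FusionModel
import Cfsg.Agent.Helper26.FusionAlperin
import Cfsg.Agent.Helper27.CoprimeAut
import Cfsg.Agent.Helper27.SmallCyclic

set_option autoImplicit false

namespace Cfsg.Agent.Helper27

open Cfsg Cfsg.FusionSystem Cfsg.Agent.Helper26

variable {Ω : Type*} [Group Ω]

/-- The fusion system on `P` whose maps are the restrictions of the automorphisms in a subgroup
`A` of `Aut(P)` containing `Inn(P)`. -/
def autSys (P : Subgroup Ω) (A : Subgroup (MulAut P)) (hA : Cfsg.Inn P ≤ A) : FusionSystem P where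
  Hom R := {φ | ∃ hR : R ≤ P, ∃ α ∈ A, ∀ x : R, φ x = ((α ⟨x, hR x.2⟩ : P) : Ω)}
  le_of_mem := by
    rintro R φ ⟨hR, α, -, h⟩
    exact ⟨hR, fun x => (h x).symm ▸ (α _).2⟩
  injective_of_mem := by
    rintro R φ ⟨hR, α, -, h⟩ a b hab
    rw [h a, h b] at hab
    have h1 := α.injective (Subtype.ext hab)
    exact Subtype.ext (congrArg (fun y : P => (y : Ω)) h1)
  conj_mem := by
    intro R g hR hg
    exact ⟨hR, MulAut.conj ⟨g, hg⟩, hA ⟨⟨g, hg⟩, rfl⟩, fun x => rfl⟩
  comp_mem := by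
    rintro R Q φ ψ ⟨hR, α, hα, h1⟩ ⟨hQ, γ, hγ, h2⟩ h
    refine ⟨hR, γ * α, A.mul_mem hγ hα, fun x => ?_⟩
    show ψ ⟨φ x, h x⟩ = _
    rw [h2]
    have e : (⟨φ x, hQ (h x)⟩ : P) = α ⟨x, hR x.2⟩ := Subtype.ext (h1 x)
    rw [e]
    rfl
  inv_mem := by
    rintro R φ ⟨hR, α, hα, h1⟩
    have hle : φ.range ≤ P := by
      rintro _ ⟨x, rfl⟩
      rw [h1]
      exact (α _).2
    refine ⟨(P.subtype.comp α⁻¹.toMonoidHom).comp (Subgroup.inclusion hle),
      ⟨hle, α⁻¹, A.inv_mem hα, fun x => rfl⟩, fun x => ?_⟩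
    show ((α⁻¹ ⟨φ x, hle ⟨x, rfl⟩⟩ : P) : Ω) = x
    have e : (⟨φ x, hle ⟨x, rfl⟩⟩ : P) = α ⟨x, hR x.2⟩ := Subtype.ext (h1 x)
    rw [e]
    simp

theorem autSys_le {S : Subgroup Ω} (F : FusionSystem S) {P : Subgroup Ω} (hP : P ≤ S)
    (A : Subgroup (MulAut P)) (hA : Cfsg.Inn P ≤ A) (hAF : A ≤ F.autGroup P) :
    (autSys P A hA).IsSubsystemOf F := by
  rintro R φ ⟨hR, α, hα, h⟩
  have h1 := (mem_autGroup_iff F hP).1 (hAF hα)
  exact restrict_mem F h1 hR (fun x => h x)

theorem mem_inn_sup_zpowers {P : Type*} [Group P] (β α : MulAut P) :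
    α ∈ Cfsg.Inn P ⊔ Subgroup.zpowers β ↔
      ∃ n : P, ∃ z ∈ Subgroup.zpowers β, α = MulAut.conj n * z := by
  rw [← SetLike.mem_coe, Subgroup.normal_mul]
  constructor
  · rintro ⟨_, ⟨n, rfl⟩, z, hz, rfl⟩
    exact ⟨n, z, hz, rfl⟩
  · rintro ⟨n, z, hz, rfl⟩
    exact ⟨_, ⟨n, rfl⟩, z, hz, rfl⟩

theorem semidirect_conj {N H : Type*} [Group N] [Group H] (φ : H →* MulAut N) (n : N) (z : H)
    (x : N) :
    (SemidirectProduct.inl n * SemidirectProduct.inr z : N ⋊[φ] H) * SemidirectProduct.inl x *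
      (SemidirectProduct.inl n * SemidirectProduct.inr z)⁻¹ =
      SemidirectProduct.inl (n * φ z x * n⁻¹) := by
  rw [map_mul, map_mul, SemidirectProduct.inl_aut, mul_inv_rev, map_inv, map_inv]
  group

theorem autSys_saturated (P : Subgroup Ω) [Finite P] (p : ℕ) [Fact p.Prime] (hP : IsPGroup p P)
    (β : MulAut P) (q : ℕ) (hq : q.Prime) (hqp : q ≠ p) (hβ : orderOf β = q) :
    (autSys P (Cfsg.Inn P ⊔ Subgroup.zpowers β) le_sup_left).IsSaturated p := by
  have : Finite (P ⋊[(Subgroup.zpowers β).subtype] (Subgroup.zpowers β)) :=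
    Finite.of_equiv _ SemidirectProduct.equivProd.symm
  have hreal : (autSys P (Cfsg.Inn P ⊔ Subgroup.zpowers β) le_sup_left).IsRealizedBy
      (SemidirectProduct.inl : P →* P ⋊[(Subgroup.zpowers β).subtype] (Subgroup.zpowers β)) := by
    refine ⟨SemidirectProduct.inl_injective, ?_⟩
    intro R hR φ hφ
    constructor
    · rintro ⟨hR', α, hα, h⟩
      obtain ⟨n, z, hz, rfl⟩ := (mem_inn_sup_zpowers β α).1 hα
      refine ⟨SemidirectProduct.inl n * SemidirectProduct.inr ⟨z, hz⟩, fun x => ?_⟩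
      rw [semidirect_conj]
      congr 1
      exact Subtype.ext (h x)
    · rintro ⟨g, hg⟩
      refine ⟨hR, MulAut.conj g.left * (g.right : MulAut P),
        (mem_inn_sup_zpowers β _).2 ⟨g.left, g.right, g.right.2, rfl⟩, fun x => ?_⟩
      have h1 := hg x
      rw [← SemidirectProduct.inl_left_mul_inr_right g, semidirect_conj] at h1
      have h2 := SemidirectProduct.inl_injective h1
      exact congrArg Subtype.val h2
  have hpg : IsPGroup p (SemidirectProduct.inl :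
      P →* P ⋊[(Subgroup.zpowers β).subtype] (Subgroup.zpowers β)).range :=
    IsPGroup.of_surjective hP _ (MonoidHom.rangeRestrict_surjective _)
  have hidx : ¬ p ∣ (SemidirectProduct.inl :
      P →* P ⋊[(Subgroup.zpowers β).subtype] (Subgroup.zpowers β)).range.index := by
    have hc1 : Nat.card (SemidirectProduct.inl :
        P →* P ⋊[(Subgroup.zpowers β).subtype] (Subgroup.zpowers β)).range = Nat.card P :=
      (Nat.card_congr (Equiv.ofInjective _ SemidirectProduct.inl_injective)).symm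
    have hc2 := Subgroup.card_mul_index (SemidirectProduct.inl :
        P →* P ⋊[(Subgroup.zpowers β).subtype] (Subgroup.zpowers β)).range
    rw [hc1, SemidirectProduct.card, Nat.card_zpowers, hβ] at hc2
    have hc3 : (SemidirectProduct.inl :
        P →* P ⋊[(Subgroup.zpowers β).subtype] (Subgroup.zpowers β)).range.index = q :=
      Nat.eq_of_mul_eq_mul_left Nat.card_pos hc2
    rw [hc3]
    intro hd
    exact hqp ((Nat.prime_dvd_prime_iff_eq Fact.out hq).1 hd).symm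
  exact model_saturated p _ _ hreal (hpg.toSylow hidx) (IsPGroup.toSylow_coe _ _)

/-- The key consequence of extreme sparseness: an `F`-automorphism of prime order `q ≠ p` of a
subgroup `P` forces `P = S` and `F` to be the system of `P ⋊ ⟨β⟩`. -/
theorem sparse_aux {S : Subgroup Ω} [Finite S] (p : ℕ) [Fact p.Prime] (hS : IsPGroup p S)
    (F : FusionSystem S)
    (hsp : ∀ (T : Subgroup Ω) (E : Cfsg.FusionSystem T), E.IsSaturated p → E.IsSubsystemOf F →
      (T = S ∧ ∀ P : Subgroup Ω, E.Hom P = F.Hom P) ∨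
        (∀ P : Subgroup Ω, E.Hom P = (Cfsg.innerFusionSystem T).Hom P))
    {P : Subgroup Ω} (hP : P ≤ S) {β : MulAut P} (hβ : β ∈ F.autGroup P) {q : ℕ} (hq : q.Prime)
    (hqp : q ≠ p) (hβq : orderOf β = q) :
    P = S ∧ ∀ R, (autSys P (Cfsg.Inn P ⊔ Subgroup.zpowers β) le_sup_left).Hom R = F.Hom R := by
  have : Finite P := finite_of_le hP
  have hPp : IsPGroup p P := hS.to_le hP
  have hInn : Cfsg.Inn P ≤ F.autGroup P := by
    rintro _ ⟨n, rfl⟩
    rw [mem_autGroup_iff F hP]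
    exact mem_of_eq F (F.conj_mem hP (hP n.2)) (fun x => rfl)
  have hAF : Cfsg.Inn P ⊔ Subgroup.zpowers β ≤ F.autGroup P :=
    sup_le hInn ((Subgroup.zpowers_le).2 hβ)
  have hsat := autSys_saturated P p hPp β q hq hqp hβq
  have hsub := autSys_le F hP _ le_sup_left hAF
  rcases hsp P _ hsat hsub with h | h
  · exact h
  · exfalso
    have h1 : P.subtype.comp β.toMonoidHom ∈
        (autSys P (Cfsg.Inn P ⊔ Subgroup.zpowers β) le_sup_left).Hom P :=
      ⟨le_rfl, β, Subgroup.mem_sup_right (Subgroup.mem_zpowers β), fun x => rfl⟩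
    rw [h P] at h1
    obtain ⟨-, g, hg, hgx⟩ := h1
    have hβc : β = MulAut.conj (⟨g, hg⟩ : P) := by
      ext x
      exact hgx x
    obtain ⟨k, hk⟩ := hPp ⟨g, hg⟩
    have h2 : β ^ (p ^ k) = 1 := by
      rw [hβc, ← map_pow, hk, map_one]
    have h3 : q ∣ p ^ k := hβq ▸ orderOf_dvd_of_pow_eq_one h2
    exact hqp ((Nat.prime_dvd_prime_iff_eq hq Fact.out).1 (hq.dvd_of_dvd_pow h3))

end Cfsg.Agent.Helper27
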