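import Mathlib

set_option autoImplicit false

namespace Cfsg.Agent.Helper27

open scoped IsMulCommutative

/-- If a product of linear factors evaluated at `f` kills a nonzero vector, then `f` has an
eigenvector with eigenvalue among the roots. -/
theorem eigen_aux {K V : Type*} [CommRing K] [AddCommGroup V] [Module K V] (f : Module.End K V)
    (s : Finset K) : ∀ v : V, v ≠ 0 →
      Polynomial.aeval f (∏ a ∈ s, (Polynomial.X - Polynomial.C a)) v = 0 →
      ∃ w : V, w ≠ 0 ∧ ∃ a ∈ s, f w = a • w := by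
  classical
  induction s using Finset.induction_on with
  | empty =>
    intro v hv h
    simp at h
    exact absurd h hv
  | insert a s ha ih =>
    intro v hv h
    rw [Finset.prod_insert ha, mul_comm, map_mul, Module.End.mul_apply] at h
    have h' : Polynomial.aeval f (Polynomial.X - Polynomial.C a) v = f v - a • v := by
      simp
    rw [h'] at h
    by_cases h0 : f v - a • v = 0
    · exact ⟨v, hv, a, Finset.mem_insert_self a s, sub_eq_zero.1 h0⟩
    · obtain ⟨w, hw, b, hb, hfw⟩ := ih _ h0 h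
      exact ⟨w, hw, b, Finset.mem_insert_of_mem hb, hfw⟩

theorem prod_X_sub_C_zmod (p : ℕ) [Fact p.Prime] :
    ∏ a ∈ (Finset.univ : Finset (ZMod p)), (Polynomial.X - Polynomial.C a) =
      (Polynomial.X ^ p - Polynomial.X : Polynomial (ZMod p)) := by
  have hp : 1 < p := (Fact.out : p.Prime).one_lt
  have h1 := FiniteField.roots_X_pow_card_sub_X (ZMod p)
  rw [ZMod.card] at h1
  have hm : (Polynomial.X ^ p - Polynomial.X : Polynomial (ZMod p)).Monic := by
    apply Polynomial.monic_X_pow_sub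
    rw [Polynomial.degree_X]
    exact_mod_cast hp
  have hd := FiniteField.X_pow_card_sub_X_natDegree_eq (ZMod p) hp
  have h2 := Polynomial.prod_multiset_X_sub_C_of_monic_of_roots_card_eq hm (by
    rw [h1, hd]
    simp [ZMod.card])
  rw [h1] at h2
  exact h2

theorem eigen_zmod (p : ℕ) [Fact p.Prime] {V : Type*} [AddCommGroup V] [Module (ZMod p) V]
    (f : Module.End (ZMod p) V) (hf : f ^ p = f) (v : V) (hv : v ≠ 0) :
    ∃ w : V, w ≠ 0 ∧ ∃ a : ZMod p, f w = a • w := by
  have h1 : Polynomial.aeval f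
      (∏ a ∈ (Finset.univ : Finset (ZMod p)), (Polynomial.X - Polynomial.C a)) = 0 := by
    rw [prod_X_sub_C_zmod]
    simp [hf]
  obtain ⟨w, hw, a, -, h⟩ := eigen_aux f Finset.univ v hv (by rw [h1]; rfl)
  exact ⟨w, hw, a, h⟩

theorem eigen_add (p : ℕ) [Fact p.Prime] {A : Type*} [AddCommGroup A] [Module (ZMod p) A]
    (g : A →+ A) (hg : ∀ v, (⇑g)^[p] v = g v) (v : A) (hv : v ≠ 0) :
    ∃ w : A, w ≠ 0 ∧ ∃ a : ℕ, g w = a • w := by
  have hfl : (g.toZModLinearMap p) ^ p = g.toZModLinearMap p := by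
    ext x
    rw [Module.End.pow_apply]
    exact hg x
  obtain ⟨w, hw, a, h⟩ := eigen_zmod p (g.toZModLinearMap p) hfl v hv
  refine ⟨w, hw, a.val, ?_⟩
  have h2 : a • w = a.val • w := by
    rw [← Nat.cast_smul_eq_nsmul (ZMod p) a.val w, ZMod.natCast_zmod_val]
  rw [h2] at h
  exact h

theorem eigen_comm (p : ℕ) [Fact p.Prime] {V : Type*} [CommGroup V] (hexp : ∀ v : V, v ^ p = 1)
    (f : V →* V) (hf : ∀ v, (⇑f)^[p] v = f v) (v : V) (hv : v ≠ 1) :
    ∃ w : V, w ≠ 1 ∧ ∃ a : ℕ, f w = w ^ a := by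
  have hiter : ∀ n : ℕ, ∀ x : Additive V,
      (⇑(MonoidHom.toAdditive f))^[n] x = Additive.ofMul ((⇑f)^[n] (Additive.toMul x)) := by
    intro n
    induction n with
    | zero => intro x; rfl
    | succ n ih =>
      intro x
      rw [Function.iterate_succ_apply, Function.iterate_succ_apply, ih]
      rfl
  obtain ⟨w, hw, a, h⟩ := @eigen_add p _ (Additive V) _
    (AddCommGroup.zmodModule (n := p) (fun x => congrArg Additive.ofMul (hexp (Additive.toMul x))))
    (MonoidHom.toAdditive f) (fun x => by rw [hiter, hf]; rfl) (Additive.ofMul v) (fun h => hv h)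
  exact ⟨Additive.toMul w, fun h => hw h, a, congrArg Additive.toMul h⟩

theorem eigen_group (p : ℕ) [Fact p.Prime] {Q : Type*} [Group Q] (W : Subgroup Q)
    (hcomm : ∀ a ∈ W, ∀ b ∈ W, a * b = b * a) (hexp : ∀ w ∈ W, w ^ p = 1) (f : Q →* Q)
    (hfW : ∀ w ∈ W, f w ∈ W) (hf : ∀ w ∈ W, f^[p] w = f w) (hne : W ≠ ⊥) :
    ∃ w ∈ W, w ≠ 1 ∧ ∃ a : ℕ, f w = w ^ a := by
  have : IsMulCommutative ↥W := ⟨⟨fun a b => Subtype.ext (hcomm a a.2 b b.2)⟩⟩
  let fW : ↥W →* ↥W :=
    { toFun := fun w => ⟨f w, hfW w w.2⟩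
      map_one' := Subtype.ext f.map_one
      map_mul' := fun a b => Subtype.ext (f.map_mul a b) }
  have hiter : ∀ n : ℕ, ∀ w : W, (((⇑fW)^[n] w : W) : Q) = (⇑f)^[n] w := by
    intro n
    induction n with
    | zero => intro w; rfl
    | succ n ih =>
      intro w
      rw [Function.iterate_succ_apply, Function.iterate_succ_apply, ih]
      rfl
  obtain ⟨v, hv1⟩ := (Subgroup.ne_bot_iff_exists_ne_one).1 hne
  obtain ⟨w, hw, a, h⟩ := eigen_comm p (V := ↥W)
    (fun v => Subtype.ext (by rw [Subgroup.coe_pow]; exact hexp v v.2)) fW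
    (fun v => Subtype.ext (by rw [hiter]; exact hf v v.2)) v hv1
  refine ⟨w, w.2, fun h1 => hw (Subtype.ext h1), a, ?_⟩
  have := congrArg Subtype.val h
  rw [Subgroup.coe_pow] at this
  exact this

theorem mulAut_iterate {Q : Type*} [Group Q] (f : MulAut Q) (n : ℕ) (w : Q) :
    (⇑f)^[n] w = (f ^ n) w := by
  induction n generalizing w with
  | zero => rfl
  | succ n ih =>
    rw [Function.iterate_succ_apply, ih, pow_succ]
    rfl

theorem mulAut_center {Q : Type*} [Group Q] (f : MulAut Q) {z : Q} (hz : z ∈ Subgroup.center Q) :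
    f z ∈ Subgroup.center Q := by
  rw [Subgroup.mem_center_iff] at hz ⊢
  intro g
  have h := congrArg f (hz (f.symm g))
  rw [map_mul, map_mul, MulEquiv.apply_symm_apply] at h
  exact h

/-- A commuting group of automorphisms of exponent dividing `p - 1` of a nontrivial finite
`p`-group has a common "eigenvector" in the centre. -/
theorem common_eigen {Q : Type*} [Group Q] [Finite Q] [Nontrivial Q] (p : ℕ) [Fact p.Prime]
    (hQ : IsPGroup p Q) (K : Subgroup (MulAut Q)) (hK : ∀ f ∈ K, ∀ f' ∈ K, f * f' = f' * f)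
    (hexp : ∀ f ∈ K, f ^ (p - 1) = 1) :
    ∃ w : Q, w ≠ 1 ∧ w ∈ Subgroup.center Q ∧ ∀ f ∈ K, f w ∈ Subgroup.zpowers w := by
  classical
  have hp1 : p = (p - 1) + 1 := by
    have := (Fact.out : p.Prime).one_lt
    omega
  let Wb : Subgroup Q :=
    { carrier := {z | z ∈ Subgroup.center Q ∧ z ^ p = 1}
      mul_mem' := by
        rintro a b ⟨ha, ha'⟩ ⟨hb, hb'⟩
        refine ⟨mul_mem ha hb, ?_⟩
        have hc : Commute a b := Subgroup.mem_center_iff.1 hb a
        rw [hc.mul_pow, ha', hb', one_mul]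
      one_mem' := ⟨one_mem _, one_pow _⟩
      inv_mem' := by
        rintro a ⟨ha, ha'⟩
        exact ⟨inv_mem ha, by rw [inv_pow, ha', inv_one]⟩ }
  have hWb_ne : Wb ≠ ⊥ := by
    have hnt : Nontrivial (Subgroup.center Q) := hQ.center_nontrivial
    have hcp : IsPGroup p (Subgroup.center Q) := hQ.to_subgroup _
    have hdvd : p ∣ Nat.card (Subgroup.center Q) := by
      rcases hcp.card_eq_or_dvd with h | h
      · exact absurd h (ne_of_gt Finite.one_lt_card)
      · exact h
    obtain ⟨z, hz⟩ := exists_prime_orderOf_dvd_card' p hdvd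
    intro hbot
    have hzm : (z : Q) ∈ Wb := by
      refine ⟨z.2, ?_⟩
      have h1 : z ^ p = 1 := by rw [← hz]; exact pow_orderOf_eq_one z
      have h2 := congrArg Subtype.val h1
      rw [Subgroup.coe_pow] at h2
      exact h2
    rw [hbot, Subgroup.mem_bot] at hzm
    have hz1 : z = 1 := Subtype.ext hzm
    rw [hz1, orderOf_one] at hz
    exact (Fact.out : p.Prime).one_lt.ne hz
  let Pr : Subgroup Q → Prop := fun W => W ≠ ⊥ ∧ W ≤ Wb ∧ ∀ f ∈ K, ∀ w ∈ W, f w ∈ W
  have hPr : Pr Wb := ⟨hWb_ne, le_rfl, fun f _ w hw =>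
    ⟨mulAut_center f hw.1, by rw [← map_pow, hw.2, map_one]⟩⟩
  obtain ⟨W0, hW0⟩ := exists_minimal_of_wellFoundedLT Pr ⟨Wb, hPr⟩
  have hW0c : ∀ a ∈ W0, ∀ b ∈ W0, a * b = b * a := fun a _ b hb =>
    Subgroup.mem_center_iff.1 (hW0.prop.2.1 hb).1 a
  have hscal : ∀ f ∈ K, ∃ a : ℕ, ∀ w ∈ W0, f w = w ^ a := by
    intro f hf
    have hfp : f ^ p = f := by
      rw [hp1, pow_succ, hexp f hf, one_mul]
    obtain ⟨w, hw, hw1, a, hfw⟩ := eigen_group p W0 hW0c (fun w hw => (hW0.prop.2.1 hw).2)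
      f.toMonoidHom (fun w hw => hW0.prop.2.2 f hf w hw)
      (fun w _ => by
        show (⇑f)^[p] w = f w
        rw [mulAut_iterate, hfp]) hW0.prop.1
    refine ⟨a, ?_⟩
    let E : Subgroup Q :=
      { carrier := {x | x ∈ W0 ∧ f x = x ^ a}
        mul_mem' := by
          rintro x y ⟨hx, hx'⟩ ⟨hy, hy'⟩
          refine ⟨mul_mem hx hy, ?_⟩
          have hc : Commute x y := hW0c x hx y hy
          rw [map_mul, hx', hy', hc.mul_pow]
        one_mem' := ⟨one_mem _, by rw [map_one, one_pow]⟩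
        inv_mem' := by
          rintro x ⟨hx, hx'⟩
          exact ⟨inv_mem hx, by rw [map_inv, hx', inv_pow]⟩ }
    have hE : Pr E := by
      refine ⟨?_, fun x hx => hW0.prop.2.1 hx.1, fun f' hf' x hx => ⟨hW0.prop.2.2 f' hf' x hx.1, ?_⟩⟩
      · intro hbot
        have hwE : w ∈ E := ⟨hw, hfw⟩
        rw [hbot, Subgroup.mem_bot] at hwE
        exact hw1 hwE
      · have h1 : f (f' x) = f' (f x) := by
          have h2 := congrArg (fun g : MulAut Q => g x) (hK f hf f' hf')
          exact h2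
        rw [h1, hx.2, map_pow]
    have hle : E ≤ W0 := fun x hx => hx.1
    have hge := hW0.le_of_le hE hle
    intro x hx
    exact (hge hx).2
  obtain ⟨w0, hw0⟩ := (Subgroup.ne_bot_iff_exists_ne_one).1 hW0.prop.1
  refine ⟨w0, fun h => hw0 (Subtype.ext h), (hW0.prop.2.1 w0.2).1, fun f hf => ?_⟩
  obtain ⟨a, ha⟩ := hscal f hf
  rw [ha w0 w0.2]
  exact Subgroup.npow_mem_zpowers (w0 : Q) a

end Cfsg.Agent.Helper27
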