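import Mathlib.GroupTheory.Sylow
import Mathlib.GroupTheory.Transfer
import Mathlib.GroupTheory.Abelianization.Defs
import Mathlib.GroupTheory.Solvable
import Mathlib.GroupTheory.Nilpotent
import Mathlib.GroupTheory.Frattini

set_option autoImplicit false

namespace Cfsg.Agent.Helper27.FZ

variable {L : Type*} [Group L]

/-- Transfer of an element whose conjugate powers are controlled. -/
theorem transfer_const [Finite L] {A : Type*} [CommGroup A] {H : Subgroup L}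
    (ϕ : H →* A) (g : L) (c : A)
    (key : ∀ (k : ℕ) (g₀ : L) (hk : g₀⁻¹ * g ^ k * g₀ ∈ H), ϕ ⟨g₀⁻¹ * g ^ k * g₀, hk⟩ = c ^ k) :
    MonoidHom.transfer ϕ g = c ^ H.index := by
  classical
  have : Fintype (Quotient (MulAction.orbitRel (Subgroup.zpowers g) (L ⧸ H))) :=
    Fintype.ofFinite _
  rw [MonoidHom.transfer_eq_prod_quotient_orbitRel_zpowers_quot ϕ g,
    Finset.prod_congr rfl (fun q _ => key _ _ _), Finset.prod_pow_eq_pow_sum,
    ← Subgroup.index_eq_sum_minimalPeriod]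

theorem hom_trivial_of_simple [IsSimpleGroup L] (hL : ¬ IsMulCommutative L) {A : Type*}
    [CommGroup A] (f : L →* A) (g : L) : f g = 1 := by
  rcases f.normal_ker.eq_bot_or_eq_top with h | h
  · exfalso; apply hL
    have hinj : Function.Injective f := (MonoidHom.ker_eq_bot_iff f).mp h
    exact ⟨⟨fun a b => hinj (by rw [map_mul, map_mul, mul_comm])⟩⟩
  · have : g ∈ f.ker := by rw [h]; exact Subgroup.mem_top g
    exact MonoidHom.mem_ker.mp this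

theorem mem_smul_sylow {p : ℕ} (P : Sylow p L) (h x : L) : x ∈ h • P ↔ h⁻¹ * x * h ∈ P := by
  show x ∈ ((h • P : Sylow p L) : Subgroup L) ↔ _
  rw [Sylow.coe_subgroup_smul, Subgroup.mem_pointwise_smul_iff_inv_smul_mem,
    MulAut.smul_def, MulAut.inv_apply, MulAut.conj_symm_apply]
  rfl

theorem sylow_conj_in {p : ℕ} [Fact p.Prime] [Finite L] (P : Sylow p L) (K : Subgroup L)
    (hPK : (P : Subgroup L) ≤ K) (Q : Subgroup L) (hQ : IsPGroup p Q) (hQK : Q ≤ K) :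
    ∃ c ∈ K, ∀ x ∈ Q, c⁻¹ * x * c ∈ P := by
  obtain ⟨Q', hQ'⟩ := (hQ.comap_subtype (K := K)).exists_le_sylow
  obtain ⟨c, hc⟩ := MulAction.exists_smul_eq K (P.subtype hPK) Q'
  refine ⟨c, c.2, fun x hx => ?_⟩
  have h1 : (⟨x, hQK hx⟩ : K) ∈ Q' := hQ' (by
    show (⟨x, hQK hx⟩ : K) ∈ Q.comap K.subtype
    exact hx)
  rw [← hc, mem_smul_sylow] at h1
  have h2 : c⁻¹ * (⟨x, hQK hx⟩ : K) * c ∈ (P : Subgroup L).subgroupOf K := by
    rw [← Sylow.coe_subtype P hPK]; exact h1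
  exact Subgroup.mem_subgroupOf.mp h2

theorem sylow_two_sub {p : ℕ} [Fact p.Prime] [Finite L] (K : Subgroup L) (Q₁ Q₂ : Subgroup L)
    (h₁ : IsPGroup p Q₁) (h₂ : IsPGroup p Q₂) (h₁K : Q₁ ≤ K) (h₂K : Q₂ ≤ K) :
    ∃ P₁ : Subgroup L, IsPGroup p P₁ ∧ Q₁ ≤ P₁ ∧ ∃ c ∈ K, ∀ x ∈ Q₂, c⁻¹ * x * c ∈ P₁ := by
  obtain ⟨S₁, hS₁⟩ := (h₁.comap_subtype (K := K)).exists_le_sylow
  obtain ⟨S₂, hS₂⟩ := (h₂.comap_subtype (K := K)).exists_le_sylow
  obtain ⟨c, hc⟩ := MulAction.exists_smul_eq K S₁ S₂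
  refine ⟨(S₁ : Subgroup K).map K.subtype, S₁.isPGroup'.map K.subtype, ?_, c, c.2, ?_⟩
  · intro x hx
    exact ⟨⟨x, h₁K hx⟩, hS₁ (show (⟨x, h₁K hx⟩ : K) ∈ Q₁.comap K.subtype from hx), rfl⟩
  · intro x hx
    have h1 : (⟨x, h₂K hx⟩ : K) ∈ S₂ :=
      hS₂ (show (⟨x, h₂K hx⟩ : K) ∈ Q₂.comap K.subtype from hx)
    rw [← hc, mem_smul_sylow] at h1
    exact ⟨_, h1, rfl⟩

theorem le_normalizer_of_conj {G H : Subgroup L}
    (h : ∀ u ∈ G, ∀ x ∈ H, u * x * u⁻¹ ∈ H) : G ≤ Subgroup.normalizer (H : Set L) := by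
  intro u hu
  rw [Subgroup.mem_normalizer_iff]
  intro x
  refine ⟨fun hx => h u hu x hx, fun hx => ?_⟩
  have := h u⁻¹ (G.inv_mem hu) _ hx
  simpa [mul_assoc] using this

theorem comm_of_sq {x y : L} (hx : x * x = 1) (hy : y * y = 1) (hxy : x * y * (x * y) = 1) :
    Commute x y := by
  have h1 : (x * y)⁻¹ = x * y := inv_eq_of_mul_eq_one_left hxy
  rw [mul_inv_rev, inv_eq_of_mul_eq_one_left hx, inv_eq_of_mul_eq_one_left hy] at h1
  exact h1.symm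

theorem zpow_of_sq' {x : L} (hx : x * x = 1) (k : ℤ) : x ^ k = 1 ∨ x ^ k = x := by
  have h2 : x ^ (2 : ℤ) = 1 := by
    rw [show (2 : ℤ) = 1 + 1 from rfl, zpow_add, zpow_one]; exact hx
  have h3 : x ^ k = x ^ (k % 2) := by
    conv_lhs => rw [← Int.emod_add_mul_ediv k 2]
    rw [zpow_add, zpow_mul, h2, one_zpow, mul_one]
  rcases Int.emod_two_eq_zero_or_one k with h | h
  · left; rw [h3, h, zpow_zero]
  · right; rw [h3, h, zpow_one]

end Cfsg.Agent.Helper27.FZ
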