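import Cfsg.Agent.Helper27.ConstrainedSub
import Cfsg.Agent.Helper27.CoprimeAut
import Cfsg.Agent.Helper26.FusionCenter
import Cfsg.Agent.Helper26.FusionHyp2
import Cfsg.Agent.Helper26.FusionIso

set_option autoImplicit false

namespace Cfsg.Agent.Helper27

open Cfsg Cfsg.FusionSystem Cfsg.Agent.Helper26
open scoped commutatorElement

variable {Ω : Type*} [Group Ω]

/-- Grün's lemma for fusion systems: if `hyp(F) = S`, a strongly closed subgroup `Z2 ≥ Z(F)` on
which every map of `F` is the identity modulo `Z(F)` lies in `Z(F)`. -/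
theorem grun_aux {S : Subgroup Ω} [Finite S] (p : ℕ) [Fact p.Prime] (hS : IsPGroup p S)
    (F : FusionSystem S) (hF : F.IsSaturated p) (hperf : F.hyperfocalSubgroup p = S)
    (Z2 : Subgroup Ω) (hZ2sc : F.StronglyClosed Z2) (hcen : F.center ≤ Z2)
    (hb : ∀ (P : Subgroup Ω) (φ : P →* Ω), φ ∈ F.Hom P → ∀ x : P, (x : Ω) ∈ Z2 →
      (x : Ω)⁻¹ * φ x ∈ F.center) : Z2 ≤ F.center := by
  have hZc : F.IsCentral F.center := center_isCentral F
  have hZsc : F.StronglyClosed F.center := central_stronglyClosed F hZc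
  have hZ2S : Z2 ≤ S := hZ2sc.1
  have hZS : F.center ≤ S := hZc.1
  have hZcomm : ∀ z ∈ F.center, ∀ s ∈ S, s * z = z * s := by
    intro z hz s hs
    have h1 := central_fix F hZc (F.conj_mem (le_refl S) hs) ⟨z, hZS hz⟩ hz
    have h3 : s * z * s⁻¹ = z := h1
    calc s * z = s * z * s⁻¹ * s := by group
      _ = z * s := by rw [h3]
  -- Z2 is normal in F
  have hcomm1 : ∀ a ∈ Z2, ∀ b ∈ Z2, a * b * a⁻¹ * b⁻¹ ∈ F.center := by
    intro a ha b hb'
    have h1 := hb Z2 (conjHom Z2 a) (F.conj_mem hZ2S (hZ2S ha)) ⟨b, hb'⟩ hb'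
    have h2 : b⁻¹ * (a * b * a⁻¹) ∈ F.center := h1
    have h3 := hZcomm _ h2 b (hZ2S hb')
    have e : a * b * a⁻¹ * b⁻¹ = b⁻¹ * (a * b * a⁻¹) := by
      calc a * b * a⁻¹ * b⁻¹ = (b * (b⁻¹ * (a * b * a⁻¹))) * b⁻¹ := by group
        _ = ((b⁻¹ * (a * b * a⁻¹)) * b) * b⁻¹ := by rw [h3]
        _ = b⁻¹ * (a * b * a⁻¹) := by group
    rw [e]; exact h2
  obtain ⟨R, hR⟩ : ∃ R : ℕ → Subgroup Ω, R 0 = ⊥ ∧ R 1 = F.center ∧ ∀ i, 2 ≤ i → R i = Z2 :=
    ⟨fun i => if i = 0 then ⊥ else if i = 1 then F.center else Z2, by simp, by simp,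
      fun i hi => by
        have h0 : i ≠ 0 := by omega
        have h1 : i ≠ 1 := by omega
        simp [h0, h1]⟩
  obtain ⟨hR0, hR1, hR2⟩ := hR
  have hZ2n : F.IsNormal Z2 := by
    apply normal_of_weak_series p hS F hF hZ2sc R 2 hR0 (hR2 2 le_rfl)
    · intro i
      rcases Nat.lt_or_ge i 1 with h | h
      · have : i = 0 := by omega
        subst this
        rw [hR0]; exact bot_le
      · rcases Nat.lt_or_ge i 2 with h' | h'
        · have : i = 1 := by omega
          subst this
          rw [hR1, hR2 2 le_rfl]; exact hcen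
        · rw [hR2 i h', hR2 (i + 1) (by omega)]
    · intro i hi
      rcases Nat.lt_or_ge i 1 with h | h
      · have : i = 0 := by omega
        subst this
        rw [hR0]
        refine ⟨bot_le, fun φ hφ => ?_⟩
        rw [eq_bot_iff]
        rintro _ ⟨x, rfl⟩
        have hx : x = 1 := Subtype.ext (Subgroup.mem_bot.1 x.2)
        rw [hx, map_one]; exact Subgroup.one_mem _
      · have : i = 1 := by omega
        subst this
        rw [hR1]
        exact weaklyClosed_of_stronglyClosed F hZsc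
    · intro i hi
      rcases Nat.lt_or_ge i 1 with h | h
      · have : i = 0 := by omega
        subst this
        rw [hR0, hR1, Subgroup.commutator_le]
        intro z hz b hb'
        rw [Subgroup.mem_bot, commutatorElement_def, ← hZcomm z hz b (hZ2S hb')]
        group
      · have : i = 1 := by omega
        subst this
        rw [hR1, hR2 2 le_rfl, Subgroup.commutator_le]
        intro a ha b hb'
        exact hcomm1 a ha b hb'
  -- Step 1: automorphisms of order prime to p fix Z2 pointwise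
  have hstep1 : ∀ (P : Subgroup Ω), P ≤ S → ∀ β : MulAut P, β ∈ F.autGroup P → ∀ m : ℕ,
      β ^ m = 1 → Nat.Coprime m p → ∀ y : P, (y : Ω) ∈ Z2 → β y = y := by
    intro P hP β hβ m hm hcop y hy
    have hβF := (mem_autGroup_iff F hP).1 hβ
    apply fix_of_fix_comm (hS.to_le hP) β hm hcop y
    have hz : (((y⁻¹ * β y : P) : P) : Ω) ∈ F.center := hb P _ hβF y hy
    have h1 := central_fix F hZc hβF (y⁻¹ * β y) hz
    exact Subtype.ext h1
  -- Step 2: hyperfocal generators centralize Z2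
  have hclaim : ∀ (P : Subgroup Ω), P ≤ S → ∀ α : F.autGroup P, α ∈ pResidual p (F.autGroup P) →
      ∀ x : P, ((x : Ω)⁻¹ * (((α : MulAut P) x : P) : Ω)) ∈ Subgroup.centralizer (Z2 : Set Ω) := by
    intro P hP α hα
    have hPfin : Finite P := finite_of_le hP
    unfold pResidual at hα
    induction hα using Subgroup.closure_induction with
    | mem a ha =>
      intro x
      have ha' : Nat.Coprime (orderOf a) p := ha
      have hφ := (mem_autGroup_iff F hP).1 a.2
      obtain ⟨ψ, hψ, hres, hmap⟩ := hZ2n.2 P _ hφ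
      have hPZS : P ⊔ Z2 ≤ S := sup_le hP hZ2S
      have hPZfin : Finite ↥(P ⊔ Z2) := finite_of_le hPZS
      have hψinj : Function.Injective ψ := F.injective_of_mem hψ
      have hrangeS : ψ.range ≤ S := by
        rintro _ ⟨u, rfl⟩
        exact (F.le_of_mem hψ).2 u
      have hrfin : Finite ψ.range := finite_of_le hrangeS
      have hle : P ⊔ Z2 ≤ ψ.range := by
        apply sup_le
        · intro u hu
          refine ⟨Subgroup.inclusion le_sup_left (((a : MulAut P)⁻¹) ⟨u, hu⟩), ?_⟩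
          rw [hres]
          show (((a : MulAut P) (((a : MulAut P)⁻¹) ⟨u, hu⟩) : P) : Ω) = u
          simp
        · intro u hu
          rw [← hmap] at hu
          obtain ⟨w, -, rfl⟩ := hu
          exact ⟨w, rfl⟩
      have hrange : ψ.range = P ⊔ Z2 := by
        symm
        apply Subgroup.eq_of_le_of_card_ge hle
        exact (Nat.card_congr (Equiv.ofInjective ψ hψinj)).ge
      obtain ⟨α', hα'⟩ : ∃ α' : MulAut ↥(P ⊔ Z2), ∀ u, ((α' u : ↥(P ⊔ Z2)) : Ω) = ψ u :=
        ⟨isoOfInj ψ hψinj hrange, fun _ => rfl⟩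
      have hα'F : α' ∈ F.autGroup (P ⊔ Z2) := by
        rw [mem_autGroup_iff F hPZS]
        exact mem_of_eq F hψ (fun u => hα' u)
      have hfinA : Finite (MulAut ↥(P ⊔ Z2)) := inferInstance
      obtain ⟨k, hk1, hk2⟩ := exists_pow_pPrimePart (p := p) a
        (⟨α', hα'F⟩ : F.autGroup (P ⊔ Z2)) ha'
      -- β = α'^k
      have hpow : ∀ (j : ℕ) (u : P), (((α' ^ j) (Subgroup.inclusion le_sup_left u) :
          ↥(P ⊔ Z2)) : Ω) = ((((a : MulAut P) ^ j) u : P) : Ω) := by
        intro j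
        induction j with
        | zero => intro u; rfl
        | succ j ih =>
          intro u
          have e : α' (Subgroup.inclusion le_sup_left u) =
              Subgroup.inclusion le_sup_left ((a : MulAut P) u) := by
            apply Subtype.ext
            rw [hα', hres]
            rfl
          rw [pow_succ, pow_succ, MulAut.mul_apply, MulAut.mul_apply, e, ih]
      have hβx : (((α' ^ k) (Subgroup.inclusion le_sup_left x) : ↥(P ⊔ Z2)) : Ω) =
          (((a : MulAut P) x : P) : Ω) := by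
        rw [hpow k x]
        have h1 : (a : MulAut P) ^ k = (a : MulAut P) := congrArg Subtype.val hk2
        rw [h1]
      have hβm : (α' ^ k) ^ (orderOf ((⟨α', hα'F⟩ : F.autGroup (P ⊔ Z2)) ^ k)) = 1 := by
        have h1 := pow_orderOf_eq_one ((⟨α', hα'F⟩ : F.autGroup (P ⊔ Z2)) ^ k)
        exact congrArg Subtype.val h1
      have hβF : α' ^ k ∈ F.autGroup (P ⊔ Z2) := Subgroup.pow_mem _ hα'F k
      have hfix : ∀ y (hy : y ∈ Z2), (α' ^ k) ⟨y, Subgroup.mem_sup_right hy⟩ =
          ⟨y, Subgroup.mem_sup_right hy⟩ :=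
        fun y hy => hstep1 (P ⊔ Z2) hPZS (α' ^ k) hβF _ hβm hk1 ⟨y, Subgroup.mem_sup_right hy⟩ hy
      rw [Subgroup.mem_centralizer_iff]
      intro y hy
      have hw : (x : Ω) * y * (x : Ω)⁻¹ ∈ Z2 :=
        stronglyClosed_conj_mem F hZ2sc (hP x.2) hy
      have h1 := hfix _ hw
      have e : (⟨(x : Ω) * y * (x : Ω)⁻¹, Subgroup.mem_sup_right hw⟩ : ↥(P ⊔ Z2)) =
          Subgroup.inclusion le_sup_left x * ⟨y, Subgroup.mem_sup_right hy⟩ *
            (Subgroup.inclusion le_sup_left x)⁻¹ := Subtype.ext rfl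
      rw [e, map_mul, map_mul, map_inv, hfix y hy] at h1
      have h2 := congrArg (fun u : ↥(P ⊔ Z2) => (u : Ω)) h1
      have h3 : (((a : MulAut P) x : P) : Ω) * y * ((((a : MulAut P) x : P) : Ω))⁻¹ =
          (x : Ω) * y * (x : Ω)⁻¹ := by
        rw [← hβx]
        exact h2
      calc y * ((x : Ω)⁻¹ * (((a : MulAut P) x : P) : Ω))
          = (x : Ω)⁻¹ * ((x : Ω) * y * (x : Ω)⁻¹) * (((a : MulAut P) x : P) : Ω) := by group
        _ = (x : Ω)⁻¹ * ((((a : MulAut P) x : P) : Ω) * y * ((((a : MulAut P) x : P) : Ω))⁻¹) *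
              (((a : MulAut P) x : P) : Ω) := by rw [h3]
        _ = (x : Ω)⁻¹ * (((a : MulAut P) x : P) : Ω) * y := by group
    | one =>
      intro x
      have e : (x : Ω)⁻¹ * ((((1 : F.autGroup P) : MulAut P) x : P) : Ω) = 1 := by
        show (x : Ω)⁻¹ * (x : Ω) = 1
        group
      rw [e]; exact Subgroup.one_mem _
    | mul a b _ _ iha ihb =>
      intro x
      have e : (x : Ω)⁻¹ * ((((a * b : F.autGroup P) : MulAut P) x : P) : Ω) =
          ((x : Ω)⁻¹ * (((b : MulAut P) x : P) : Ω)) *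
            ((((b : MulAut P) x : P) : Ω)⁻¹ *
              (((a : MulAut P) ((b : MulAut P) x) : P) : Ω)) := by
        show (x : Ω)⁻¹ * (((a : MulAut P) ((b : MulAut P) x) : P) : Ω) = _
        group
      rw [e]
      exact Subgroup.mul_mem _ (ihb x) (iha ((b : MulAut P) x))
    | inv a _ iha =>
      intro x
      have h1 := iha (((a : MulAut P)⁻¹) x)
      have e : (x : Ω)⁻¹ * ((((a⁻¹ : F.autGroup P) : MulAut P) x : P) : Ω) =
          (((((a : MulAut P)⁻¹) x : P) : Ω)⁻¹ *
            (((a : MulAut P) (((a : MulAut P)⁻¹) x) : P) : Ω))⁻¹ := by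
        have e2 : (a : MulAut P) (((a : MulAut P)⁻¹) x) = x := by simp
        rw [e2]
        show (x : Ω)⁻¹ * ((((a : MulAut P)⁻¹) x : P) : Ω) = _
        group
      rw [e]
      exact Subgroup.inv_mem _ h1
  have hScent : S ≤ Subgroup.centralizer (Z2 : Set Ω) := by
    rw [← hperf]
    unfold hyperfocalSubgroup
    rw [Subgroup.closure_le]
    rintro _ ⟨P, α, x, hP, hα, rfl⟩
    exact hclaim P hP α hα x
  -- all F-maps fix Z2 pointwise
  have hZ2fin : Finite Z2 := finite_of_le hZ2S
  have hZ2fn : F.IsFullyNormalized Z2 := by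
    refine ⟨hZ2S, fun Q' hconj => ?_⟩
    obtain ⟨φ, hφ, rfl⟩ := hconj
    rw [(weaklyClosed_of_stronglyClosed F hZ2sc).2 φ hφ]
  obtain ⟨-, R', hR'⟩ := (sat_fullyNormalized p hS F hF hZ2fn).2
  have hfinA2 : Finite (MulAut Z2) := inferInstance
  have hresfix : ∀ b : F.autGroup Z2, b ∈ pResidual p (F.autGroup Z2) →
      ∀ t : Z2, (b : MulAut Z2) t = t := by
    intro b hb'
    unfold pResidual at hb'
    induction hb' using Subgroup.closure_induction with
    | mem a ha =>
      intro t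
      have ha' : Nat.Coprime (orderOf a) p := ha
      have hm : (a : MulAut Z2) ^ (orderOf a) = 1 := congrArg Subtype.val (pow_orderOf_eq_one a)
      exact hstep1 Z2 hZ2S _ a.2 _ hm ha' t t.2
    | one => intro t; rfl
    | mul a b _ _ iha ihb =>
      intro t
      show (a : MulAut Z2) ((b : MulAut Z2) t) = t
      rw [ihb t, iha t]
    | inv a _ iha =>
      intro t
      show ((a : MulAut Z2)⁻¹) t = t
      rw [MulAut.inv_apply, MulEquiv.symm_apply_eq, iha t]
  have hcentral : F.IsCentral Z2 := by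
    apply central_of_conjElt p hS F hF hZ2S
    intro x hx y hxy
    obtain ⟨φ, hφ, rfl⟩ := hxy
    have hxZ : Subgroup.zpowers x ≤ Z2 := Subgroup.zpowers_le.2 hx
    obtain ⟨α, hα, hαφ⟩ := (normal_iff_extend p hS F hF Z2 hZ2S).1 hZ2n _ hxZ φ hφ
    rw [← hαφ]
    obtain ⟨b, hb', r, hr, hbr⟩ := exists_mul_sylow_pResidual R' (⟨α, hα⟩ : F.autGroup Z2)
    have hα2 : α = (b : MulAut Z2) * (r : MulAut Z2) := congrArg Subtype.val hbr
    rw [hR', Subgroup.mem_subgroupOf, mem_autInducedBy_iff] at hr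
    obtain ⟨g, hg, hgr⟩ := hr
    have hrfix : ∀ t : Z2, (r : MulAut Z2) t = t := by
      intro t
      apply Subtype.ext
      rw [hgr]
      have h1 := Subgroup.mem_centralizer_iff.1 (hScent hg) t t.2
      rw [← h1, mul_inv_cancel_right]
    rw [hα2, MulAut.mul_apply, hrfix, hresfix b hb']
    rfl
  exact le_sSup hcentral

end Cfsg.Agent.Helper27
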