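import Mathlib

set_option autoImplicit false

namespace Cfsg.Agent.Helper27.Marks

open MulAction

section basic
variable {Γ : Type*} [Group Γ]

/-- Fixed points of a subgroup. -/
def fix (X : Type*) [MulAction Γ X] (H : Subgroup Γ) : Set X := {x | ∀ h ∈ H, h • x = x}

/-- Number of fixed points of a subgroup. -/
noncomputable def mark (X : Type*) [MulAction Γ X] (H : Subgroup Γ) : ℕ := (fix X H).ncard

theorem mem_fix_iff {X : Type*} [MulAction Γ X] {H : Subgroup Γ} {x : X} :
    x ∈ fix X H ↔ H ≤ stabilizer Γ x :=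
  ⟨fun h g hg => mem_stabilizer_iff.2 (h g hg), fun h g hg => mem_stabilizer_iff.1 (h hg)⟩

theorem exists_equiv_aux {X Y : Type*} [Finite Γ] [Finite X] [Finite Y] [Nonempty Y]
    [MulAction Γ X] [MulAction Γ Y] :
    ∀ n : ℕ, ∀ (A : Set X) (B : Set Y), A.ncard = n →
      (∀ g : Γ, ∀ x ∈ A, g • x ∈ A) → (∀ g : Γ, ∀ y ∈ B, g • y ∈ B) →
      (∀ H : Subgroup Γ, (A ∩ fix X H).ncard = (B ∩ fix Y H).ncard) →
      ∃ f : X → Y, Set.BijOn f A B ∧ ∀ x ∈ A, ∀ g : Γ, f (g • x) = g • f x := by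
  intro n
  induction n using Nat.strong_induction_on with
  | _ n ih =>
  intro A B hn hA hB hm
  by_cases hAe : A = ∅
  · have hBe : B = ∅ := by
      have h := hm ⊥
      have h1 : fix X (⊥ : Subgroup Γ) = Set.univ := by
        ext x
        simp only [fix, Set.mem_setOf_eq, Set.mem_univ, iff_true]
        intro g hg
        rw [Subgroup.mem_bot.1 hg, one_smul]
      have h2 : fix Y (⊥ : Subgroup Γ) = Set.univ := by
        ext x
        simp only [fix, Set.mem_setOf_eq, Set.mem_univ, iff_true]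
        intro g hg
        rw [Subgroup.mem_bot.1 hg, one_smul]
      rw [h1, h2, Set.inter_univ, Set.inter_univ, hAe, Set.ncard_empty] at h
      exact (Set.ncard_eq_zero (Set.toFinite B)).1 h.symm
    subst hAe; subst hBe
    exact ⟨fun _ => Classical.arbitrary Y, Set.bijOn_empty _,
      fun x hx => absurd hx (Set.notMem_empty x)⟩
  · have hAne : A.Nonempty := Set.nonempty_iff_ne_empty.2 hAe
    obtain ⟨x, hxA, hxmax⟩ := Set.exists_max_image A (fun x => Nat.card (stabilizer Γ x))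
      (Set.toFinite A) hAne
    have hxfix : x ∈ A ∩ fix X (stabilizer Γ x) := ⟨hxA, mem_fix_iff.2 le_rfl⟩
    have hpos : 0 < (B ∩ fix Y (stabilizer Γ x)).ncard := by
      rw [← hm]; exact (Set.ncard_pos (Set.toFinite _)).2 ⟨x, hxfix⟩
    obtain ⟨y, hyB, hyfix⟩ := (Set.ncard_pos (Set.toFinite _)).1 hpos
    have hle : stabilizer Γ x ≤ stabilizer Γ y := mem_fix_iff.1 hyfix
    have hstab : stabilizer Γ y = stabilizer Γ x := by
      have hyfix' : y ∈ B ∩ fix Y (stabilizer Γ y) := ⟨hyB, mem_fix_iff.2 le_rfl⟩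
      have hpos' : 0 < (A ∩ fix X (stabilizer Γ y)).ncard := by
        rw [hm]; exact (Set.ncard_pos (Set.toFinite _)).2 ⟨y, hyfix'⟩
      obtain ⟨x', hx'A, hx'fix⟩ := (Set.ncard_pos (Set.toFinite _)).1 hpos'
      have h1 : Nat.card (stabilizer Γ y) ≤ Nat.card (stabilizer Γ x') :=
        Subgroup.card_le_of_le (mem_fix_iff.1 hx'fix)
      have h2 := hxmax x' hx'A
      exact (Subgroup.eq_of_le_of_card_ge hle (h1.trans h2)).symm
    have hOA : orbit Γ x ⊆ A := by
      intro z hz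
      obtain ⟨g, rfl⟩ := mem_orbit_iff.1 hz
      exact hA g x hxA
    have hO'B : orbit Γ y ⊆ B := by
      intro z hz
      obtain ⟨g, rfl⟩ := mem_orbit_iff.1 hz
      exact hB g y hyB
    classical
    let f₀ : X → Y := fun x' => if h : x' ∈ orbit Γ x then
      (Classical.choose (mem_orbit_iff.1 h)) • y else Classical.arbitrary Y
    have hf₀ : ∀ g : Γ, f₀ (g • x) = g • y := by
      intro g
      have hmem : g • x ∈ orbit Γ x := mem_orbit x g
      have hc := Classical.choose_spec (mem_orbit_iff.1 hmem)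
      have h1 : g⁻¹ * Classical.choose (mem_orbit_iff.1 hmem) ∈ stabilizer Γ y := by
        rw [hstab, mem_stabilizer_iff, mul_smul, hc, inv_smul_smul]
      have h2 := mem_stabilizer_iff.1 h1
      rw [mul_smul, inv_smul_eq_iff] at h2
      simp only [f₀, dif_pos hmem]
      exact h2
    have hstab' : ∀ g : Γ, stabilizer Γ (g • y) = stabilizer Γ (g • x) := by
      intro g
      rw [stabilizer_smul_eq_stabilizer_map_conj, stabilizer_smul_eq_stabilizer_map_conj, hstab]
    have hinj : ∀ g g' : Γ, g • y = g' • y → g • x = g' • x := by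
      intro g g' h
      have h1 : g'⁻¹ * g ∈ stabilizer Γ y := by
        rw [mem_stabilizer_iff, mul_smul, h, inv_smul_smul]
      rw [hstab] at h1
      have h2 := mem_stabilizer_iff.1 h1
      rw [mul_smul, inv_smul_eq_iff] at h2
      exact h2
    have hcount : ∀ K : Subgroup Γ, (orbit Γ x ∩ fix X K).ncard = (orbit Γ y ∩ fix Y K).ncard := by
      intro K
      have himg : orbit Γ y ∩ fix Y K = f₀ '' (orbit Γ x ∩ fix X K) := by
        ext y'
        constructor
        · rintro ⟨hy1, hy'⟩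
          obtain ⟨g, rfl⟩ := mem_orbit_iff.1 hy1
          refine ⟨g • x, ⟨mem_orbit x g, ?_⟩, hf₀ g⟩
          rw [mem_fix_iff] at hy' ⊢
          rw [← hstab' g]; exact hy'
        · rintro ⟨z, ⟨hz1, hx'⟩, rfl⟩
          obtain ⟨g, rfl⟩ := mem_orbit_iff.1 hz1
          rw [hf₀ g]
          refine ⟨mem_orbit y g, ?_⟩
          rw [mem_fix_iff] at hx' ⊢
          rw [hstab' g]; exact hx'
      rw [himg]
      refine (Set.InjOn.ncard_image ?_).symm
      rintro z ⟨hz1, -⟩ z' ⟨hz'1, -⟩ h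
      obtain ⟨g, rfl⟩ := mem_orbit_iff.1 hz1
      obtain ⟨g', rfl⟩ := mem_orbit_iff.1 hz'1
      rw [hf₀, hf₀] at h
      exact hinj g g' h
    have hA' : ∀ g : Γ, ∀ x' ∈ A \ orbit Γ x, g • x' ∈ A \ orbit Γ x := by
      rintro g x' ⟨h1, h2⟩
      refine ⟨hA g x' h1, fun h => h2 ?_⟩
      obtain ⟨k, hk⟩ := mem_orbit_iff.1 h
      exact mem_orbit_iff.2 ⟨g⁻¹ * k, by rw [mul_smul, hk, inv_smul_smul]⟩
    have hB' : ∀ g : Γ, ∀ y' ∈ B \ orbit Γ y, g • y' ∈ B \ orbit Γ y := by
      rintro g y' ⟨h1, h2⟩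
      refine ⟨hB g y' h1, fun h => h2 ?_⟩
      obtain ⟨k, hk⟩ := mem_orbit_iff.1 h
      exact mem_orbit_iff.2 ⟨g⁻¹ * k, by rw [mul_smul, hk, inv_smul_smul]⟩
    have hlt : (A \ orbit Γ x).ncard < n := by
      rw [← hn]
      refine Set.ncard_lt_ncard ⟨Set.diff_subset, fun h => ?_⟩ (Set.toFinite A)
      exact (h hxA).2 (mem_orbit_self x)
    have hm' : ∀ K : Subgroup Γ,
        ((A \ orbit Γ x) ∩ fix X K).ncard = ((B \ orbit Γ y) ∩ fix Y K).ncard := by
      intro K
      have e1 : (A \ orbit Γ x) ∩ fix X K = (A ∩ fix X K) \ (orbit Γ x ∩ fix X K) := by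
        ext z; simp only [Set.mem_inter_iff, Set.mem_diff]; tauto
      have e2 : (B \ orbit Γ y) ∩ fix Y K = (B ∩ fix Y K) \ (orbit Γ y ∩ fix Y K) := by
        ext z; simp only [Set.mem_inter_iff, Set.mem_diff]; tauto
      rw [e1, e2, Set.ncard_diff (Set.inter_subset_inter_left _ hOA) (Set.toFinite _),
        Set.ncard_diff (Set.inter_subset_inter_left _ hO'B) (Set.toFinite _), hm K, hcount K]
    obtain ⟨f', hf'bij, hf'eq⟩ := ih _ hlt (A \ orbit Γ x) (B \ orbit Γ y) rfl hA' hB' hm'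
    refine ⟨fun z => if z ∈ orbit Γ x then f₀ z else f' z, ⟨?_, ?_, ?_⟩, ?_⟩
    · intro z hz
      by_cases hzO : z ∈ orbit Γ x
      · simp only [if_pos hzO]
        obtain ⟨g, rfl⟩ := mem_orbit_iff.1 hzO
        rw [hf₀]; exact hB g y hyB
      · simp only [if_neg hzO]
        exact (hf'bij.mapsTo ⟨hz, hzO⟩).1
    · intro z hz z' hz' h
      by_cases hzO : z ∈ orbit Γ x <;> by_cases hz'O : z' ∈ orbit Γ x
      · simp only [if_pos hzO, if_pos hz'O] at h
        obtain ⟨g, rfl⟩ := mem_orbit_iff.1 hzO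
        obtain ⟨g', rfl⟩ := mem_orbit_iff.1 hz'O
        rw [hf₀, hf₀] at h
        exact hinj g g' h
      · simp only [if_pos hzO, if_neg hz'O] at h
        exfalso
        obtain ⟨g, rfl⟩ := mem_orbit_iff.1 hzO
        rw [hf₀] at h
        refine (hf'bij.mapsTo ⟨hz', hz'O⟩).2 ?_
        rw [← h]; exact mem_orbit y g
      · simp only [if_neg hzO, if_pos hz'O] at h
        exfalso
        obtain ⟨g, rfl⟩ := mem_orbit_iff.1 hz'O
        rw [hf₀] at h
        refine (hf'bij.mapsTo ⟨hz, hzO⟩).2 ?_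
        rw [h]; exact mem_orbit y g
      · simp only [if_neg hzO, if_neg hz'O] at h
        exact hf'bij.injOn ⟨hz, hzO⟩ ⟨hz', hz'O⟩ h
    · intro w hw
      by_cases hwO : w ∈ orbit Γ y
      · obtain ⟨g, rfl⟩ := mem_orbit_iff.1 hwO
        refine ⟨g • x, hA g x hxA, ?_⟩
        simp only [if_pos (mem_orbit x g)]
        exact hf₀ g
      · obtain ⟨z, hz, rfl⟩ := hf'bij.surjOn ⟨hw, hwO⟩
        exact ⟨z, hz.1, by simp only [if_neg hz.2]⟩
    · intro z hz g
      by_cases hzO : z ∈ orbit Γ x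
      · obtain ⟨k, rfl⟩ := mem_orbit_iff.1 hzO
        have h1 : g • k • x ∈ orbit Γ x := by rw [← mul_smul]; exact mem_orbit x _
        simp only [if_pos h1, if_pos hzO]
        rw [← mul_smul, hf₀, hf₀, mul_smul]
      · have h1 : g • z ∉ orbit Γ x := fun h => (hA' g z ⟨hz, hzO⟩).2 h
        simp only [if_neg h1, if_neg hzO]
        exact hf'eq z ⟨hz, hzO⟩ g

/-- Burnside: finite `Γ`-sets with the same marks are isomorphic. -/
theorem exists_equiv_of_marks {X Y : Type*} [Finite Γ] [Finite X] [Finite Y]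
    [MulAction Γ X] [MulAction Γ Y] (h : ∀ H : Subgroup Γ, mark X H = mark Y H) :
    ∃ e : X ≃ Y, ∀ (g : Γ) (x : X), e (g • x) = g • e x := by
  rcases isEmpty_or_nonempty Y with hY | hY
  · have h0 := h ⊥
    have hX : IsEmpty X := by
      by_contra hne
      rw [not_isEmpty_iff] at hne
      obtain ⟨x⟩ := hne
      have h1 : 0 < mark X (⊥ : Subgroup Γ) :=
        (Set.ncard_pos (Set.toFinite _)).2
          ⟨x, fun g hg => by rw [Subgroup.mem_bot.1 hg, one_smul]⟩
      rw [h0] at h1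
      obtain ⟨y, -⟩ := (Set.ncard_pos (Set.toFinite _)).1 h1
      exact hY.false y
    exact ⟨Equiv.equivOfIsEmpty X Y, fun g x => (hX.false x).elim⟩
  · obtain ⟨f, hbij, heq⟩ := exists_equiv_aux (Γ := Γ) (X := X) (Y := Y) _ Set.univ Set.univ rfl
      (fun _ _ _ => Set.mem_univ _) (fun _ _ _ => Set.mem_univ _)
      (fun H => by simpa [mark, Set.univ_inter] using h H)
    have hb : Function.Bijective f := Set.bijOn_univ.1 hbij
    exact ⟨Equiv.ofBijective f hb, fun g x => heq x (Set.mem_univ _) g⟩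

theorem mark_compHom {Γ' : Type*} [Group Γ'] {X : Type*} [MulAction Γ X] (f : Γ' →* Γ)
    (K : Subgroup Γ') :
    @mark Γ' _ X (MulAction.compHom X f) K = mark X (K.map f) := by
  have : @fix Γ' _ X (MulAction.compHom X f) K = fix X (K.map f) := by
    ext x
    constructor
    · rintro hx _ ⟨k, hk, rfl⟩; exact hx k hk
    · intro hx k hk; exact hx (f k) ⟨k, hk, rfl⟩
  unfold mark; rw [this]

/-- Two twists of a `Γ`-set with the same marks are isomorphic. -/
theorem exists_twisted_equiv {Γ' : Type*} [Group Γ'] [Finite Γ'] {X : Type*} [Finite X]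
    [MulAction Γ X] (f₁ f₂ : Γ' →* Γ)
    (h : ∀ K : Subgroup Γ', mark X (K.map f₁) = mark X (K.map f₂)) :
    ∃ e : X ≃ X, ∀ (k : Γ') (x : X), e (f₁ k • x) = f₂ k • e x := by
  have key := @exists_equiv_of_marks Γ' _ X X _ _ _ (MulAction.compHom X f₁)
    (MulAction.compHom X f₂) (fun K => by rw [mark_compHom, mark_compHom]; exact h K)
  obtain ⟨e, he⟩ := key
  exact ⟨e, fun k x => he k x⟩

end basic

end Cfsg.Agent.Helper27.Marks
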