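import Cfsg.Agent.Helper27.Marks

set_option autoImplicit false

namespace Cfsg.Agent.Helper27.Marks

open MulAction
open scoped Classical

variable {Γ : Type*} [Group Γ]

/-- The conjugate `g⁻¹ H g`. -/
def cj (g : Γ) (H : Subgroup Γ) : Subgroup Γ := H.map (MulAut.conj g⁻¹).toMonoidHom

theorem cj_le_iff (g : Γ) (H D : Subgroup Γ) : cj g H ≤ D ↔ ∀ h ∈ H, g⁻¹ * h * g ∈ D := by
  unfold cj
  rw [Subgroup.map_le_iff_le_comap]
  constructor
  · intro h x hx
    have := h hx
    simpa using this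
  · intro h x hx
    have := h x hx
    simpa using this

theorem card_cj (g : Γ) (H : Subgroup Γ) : Nat.card (cj g H) = Nat.card H := by
  unfold cj
  exact Nat.card_congr (Subgroup.equivMapOfInjective H _ (MulAut.conj g⁻¹).injective).symm.toEquiv

theorem card_mul_mark_quotient [Finite Γ] (D H : Subgroup Γ) :
    Nat.card D * mark (Γ ⧸ D) H = Nat.card {g : Γ // ∀ h ∈ H, g⁻¹ * h * g ∈ D} := by
  have e : {g : Γ // ∀ h ∈ H, g⁻¹ * h * g ∈ D} ≃
      ((QuotientGroup.mk : Γ → Γ ⧸ D) ⁻¹' (fix (Γ ⧸ D) H) : Set Γ) :=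
    Equiv.subtypeEquivRight (fun g => by
      simp only [Set.mem_preimage, fix, Set.mem_setOf_eq]
      refine forall₂_congr (fun h _ => ?_)
      rw [MulAction.Quotient.smul_mk, QuotientGroup.eq, smul_eq_mul]
      constructor
      · intro hh
        have := D.inv_mem hh
        simpa [mul_assoc] using this
      · intro hh
        have := D.inv_mem hh
        simpa [mul_assoc] using this)
  rw [Nat.card_congr e, Nat.card_congr (QuotientGroup.preimageMkEquivSubgroupProdSet D _),
    Nat.card_prod, mark, Nat.card_coe_set_eq]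

theorem mark_sigma {I : Type*} [Fintype I] {α : I → Type*} [∀ i, Finite (α i)]
    [∀ i, MulAction Γ (α i)] (H : Subgroup Γ) :
    mark (Σ i, α i) H = ∑ i, mark (α i) H := by
  have e : fix (Σ i, α i) H ≃ Σ i, fix (α i) H :=
    { toFun := fun x => ⟨x.1.1, ⟨x.1.2, fun h hh => by
        have h1 := x.2 h hh
        have h2 : h • x.1 = ⟨x.1.1, h • x.1.2⟩ := rfl
        rw [h2] at h1
        have h3 : (⟨x.1.1, h • x.1.2⟩ : Σ i, α i) = ⟨x.1.1, x.1.2⟩ := h1
        exact eq_of_heq (Sigma.mk.inj_iff.1 h3).2⟩⟩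
      invFun := fun y => ⟨⟨y.1, y.2.1⟩, fun h hh => by
        show (⟨y.1, h • y.2.1⟩ : Σ i, α i) = ⟨y.1, y.2.1⟩
        rw [y.2.2 h hh]⟩
      left_inv := fun x => rfl
      right_inv := fun y => rfl }
  rw [mark, ← Nat.card_coe_set_eq, Nat.card_congr e, Nat.card_sigma]
  refine Finset.sum_congr rfl (fun i _ => ?_)
  rw [mark, Nat.card_coe_set_eq]

theorem mark_sum {X Y : Type*} [Finite X] [Finite Y] [MulAction Γ X] [MulAction Γ Y]
    (H : Subgroup Γ) : mark (X ⊕ Y) H = mark X H + mark Y H := by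
  have e : fix (X ⊕ Y) H ≃ fix X H ⊕ fix Y H :=
    { toFun := fun z => match z with
        | ⟨Sum.inl a, hz⟩ => Sum.inl ⟨a, fun h hh => Sum.inl_injective (hz h hh)⟩
        | ⟨Sum.inr b, hz⟩ => Sum.inr ⟨b, fun h hh => Sum.inr_injective (hz h hh)⟩
      invFun := fun z => match z with
        | Sum.inl a => ⟨Sum.inl a.1, fun h hh => congrArg Sum.inl (a.2 h hh)⟩
        | Sum.inr b => ⟨Sum.inr b.1, fun h hh => congrArg Sum.inr (b.2 h hh)⟩
      left_inv := fun z => match z with
        | ⟨Sum.inl a, hz⟩ => rfl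
        | ⟨Sum.inr b, hz⟩ => rfl
      right_inv := fun z => match z with
        | Sum.inl a => rfl
        | Sum.inr b => rfl }
  rw [mark, ← Nat.card_coe_set_eq, Nat.card_congr e, Nat.card_sum, mark, mark,
    Nat.card_coe_set_eq, Nat.card_coe_set_eq]

/-- Marks of the weighted sum of coset spaces. -/
theorem mark_weighted [Fintype Γ] [Fintype (Subgroup Γ)] (w : Subgroup Γ → ℕ) (H : Subgroup Γ) :
    mark (Σ i : (Σ D : Subgroup Γ, Fin (Nat.card D * w D)), Γ ⧸ i.1) H =
      ∑ g : Γ, ∑ D : Subgroup Γ, if cj g H ≤ D then w D else 0 := by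
  rw [mark_sigma, Fintype.sum_sigma, Finset.sum_comm]
  refine Finset.sum_congr rfl (fun D _ => ?_)
  show ∑ _y : Fin (Nat.card D * w D), mark (Γ ⧸ D) H = _
  rw [Finset.sum_const, Finset.card_univ, Fintype.card_fin, smul_eq_mul, mul_comm (Nat.card D),
    mul_assoc, card_mul_mark_quotient, Nat.card_eq_fintype_card, Fintype.card_subtype,
    Finset.card_filter, Finset.mul_sum]
  refine Finset.sum_congr rfl (fun g _ => ?_)
  by_cases h : cj g H ≤ D
  · rw [if_pos h, if_pos ((cj_le_iff g H D).1 h), mul_one]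
  · rw [if_neg h, if_neg (fun h' => h ((cj_le_iff g H D).2 h')), mul_zero]

/-- Auxiliary predicate for the construction of weights. -/
def WeightsFrom [Fintype (Subgroup Γ)] (Gr : Set (Subgroup Γ)) (ℓ : ℕ) : Prop :=
  ∃ (w : Subgroup Γ → ℕ) (c : ℕ → ℕ), (∀ D : Subgroup Γ, D ∉ Gr → w D = 0) ∧
    (∀ D : Subgroup Γ, Nat.card D < ℓ → w D = 0) ∧
    (∀ D : Subgroup Γ, D ∈ Gr → ℓ ≤ Nat.card D → 0 < w D) ∧
    ∀ H : Subgroup Γ, H ∈ Gr → ℓ ≤ Nat.card H →
      (∑ D : Subgroup Γ, if H ≤ D then w D else 0) = c (Nat.card H)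

theorem weightsFrom_step [Finite Γ] [Fintype (Subgroup Γ)] (Gr : Set (Subgroup Γ)) (ℓ : ℕ)
    (h : WeightsFrom Gr (ℓ + 1)) : WeightsFrom Gr ℓ := by
  obtain ⟨w, c, h1, h2, h3, h4⟩ := h
  obtain ⟨M, hM⟩ : ∃ M : ℕ, M = 1 + ∑ D : Subgroup Γ, w D := ⟨_, rfl⟩
  have hsle : ∀ H : Subgroup Γ, (∑ D : Subgroup Γ, if H ≤ D then w D else 0) + 1 ≤ M := by
    intro H
    rw [hM, add_comm]
    refine Nat.add_le_add_left (Finset.sum_le_sum (fun D _ => ?_)) 1
    split_ifs <;> simp
  refine ⟨fun D => if D ∈ Gr ∧ Nat.card D = ℓ then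
      M - ∑ D' : Subgroup Γ, (if D ≤ D' then w D' else 0) else w D,
    fun k => if k = ℓ then M else c k, ?_, ?_, ?_, ?_⟩
  · intro D hD
    have : ¬ (D ∈ Gr ∧ Nat.card D = ℓ) := fun h => hD h.1
    simp only [if_neg this]
    exact h1 D hD
  · intro D hD
    have : ¬ (D ∈ Gr ∧ Nat.card D = ℓ) := fun h => by omega
    simp only [if_neg this]
    exact h2 D (by omega)
  · intro D hD hl
    by_cases hc : Nat.card D = ℓ
    · simp only [if_pos (⟨hD, hc⟩ : D ∈ Gr ∧ Nat.card D = ℓ)]
      have := hsle D; omega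
    · have : ¬ (D ∈ Gr ∧ Nat.card D = ℓ) := fun h => hc h.2
      simp only [if_neg this]
      exact h3 D hD (by omega)
  · intro H hH hl
    by_cases hc : Nat.card H = ℓ
    · simp only [if_pos hc]
      have hterm : ∀ D : Subgroup Γ, (if H ≤ D then (if D ∈ Gr ∧ Nat.card D = ℓ then
            M - ∑ D' : Subgroup Γ, (if D ≤ D' then w D' else 0) else w D) else 0)
          = (if H ≤ D then w D else 0) +
            (if D = H then M - ∑ D' : Subgroup Γ, (if H ≤ D' then w D' else 0) else 0) := by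
        intro D
        by_cases hHD : H ≤ D
        · by_cases hDH : D = H
          · subst hDH
            simp only [le_refl, if_true, if_pos (⟨hH, hc⟩ : D ∈ Gr ∧ Nat.card D = ℓ)]
            rw [h2 D (by omega), zero_add]
          · have hlt : Nat.card H < Nat.card D := by
              by_contra hcon
              exact hDH (Subgroup.eq_of_le_of_card_ge hHD (not_lt.1 hcon)).symm
            have : ¬ (D ∈ Gr ∧ Nat.card D = ℓ) := fun h => by omega
            simp only [if_pos hHD, if_neg this, if_neg hDH, add_zero]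
        · have hDH : D ≠ H := fun h => hHD (h ▸ le_rfl)
          simp only [if_neg hHD, if_neg hDH, add_zero]
      rw [Finset.sum_congr rfl (fun D _ => hterm D), Finset.sum_add_distrib,
        Finset.sum_ite_eq' Finset.univ H (fun _ => M - ∑ D' : Subgroup Γ, (if H ≤ D' then w D' else 0)),
        if_pos (Finset.mem_univ H)]
      have := hsle H
      omega
    · simp only [if_neg hc]
      rw [← h4 H hH (by omega)]
      refine Finset.sum_congr rfl (fun D _ => ?_)
      by_cases hHD : H ≤ D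
      · have hle : Nat.card H ≤ Nat.card D := Subgroup.card_le_of_le hHD
        have : ¬ (D ∈ Gr ∧ Nat.card D = ℓ) := fun h => by omega
        simp only [if_pos hHD, if_neg this]
      · simp only [if_neg hHD]

/-- Weights on the subgroups in `Gr` whose upward sums depend only on the order. -/
theorem exists_weights [Finite Γ] [Fintype (Subgroup Γ)] (Gr : Set (Subgroup Γ)) :
    ∃ (w : Subgroup Γ → ℕ) (c : ℕ → ℕ), (∀ D : Subgroup Γ, D ∉ Gr → w D = 0) ∧
      (∀ D : Subgroup Γ, D ∈ Gr → 0 < w D) ∧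
      ∀ H : Subgroup Γ, H ∈ Gr →
        (∑ D : Subgroup Γ, if H ≤ D then w D else 0) = c (Nat.card H) := by
  have base : WeightsFrom Gr (Nat.card Γ + 1) := by
    refine ⟨fun _ => 0, fun _ => 0, fun _ _ => rfl, fun _ _ => rfl, ?_, ?_⟩
    · intro D _ hD
      have := Subgroup.card_le_card_group D
      omega
    · intro D _ hD
      have := Subgroup.card_le_card_group D
      omega
  have all : ∀ k ℓ : ℕ, ℓ + k = Nat.card Γ + 1 → WeightsFrom Gr ℓ := by
    intro k
    induction k with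
    | zero => intro ℓ hℓ; rw [add_zero] at hℓ; rw [hℓ]; exact base
    | succ k ih =>
      intro ℓ hℓ
      exact weightsFrom_step Gr ℓ (ih (ℓ + 1) (by omega))
  obtain ⟨w, c, h1, -, h3, h4⟩ := all (Nat.card Γ + 1) 0 (by omega)
  exact ⟨w, c, h1, fun D hD => h3 D hD (Nat.zero_le _), fun H hH => h4 H hH (Nat.zero_le _)⟩

end Cfsg.Agent.Helper27.Marks
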