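import Cfsg.Agent.Helper27.Biset2

set_option autoImplicit false

namespace Cfsg.Agent.Helper27.Marks

open MulAction Cfsg.Agent.Helper27.Biset
open scoped Classical

universe u

section generic
variable {Γ : Type u} [Group Γ]

theorem cj_one (H : Subgroup Γ) : cj 1 H = H := by
  unfold cj
  have : (MulAut.conj (1 : Γ)⁻¹).toMonoidHom = MonoidHom.id Γ := by
    ext x; simp
  rw [this, Subgroup.map_id]

theorem cj_mul (g₁ g₂ : Γ) (H : Subgroup Γ) : cj (g₁ * g₂) H = cj g₂ (cj g₁ H) := by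
  unfold cj
  rw [Subgroup.map_map]
  congr 1
  ext x
  simp only [MonoidHom.comp_apply, MulEquiv.coe_toMonoidHom, MulAut.conj_apply]
  group

theorem mem_cj {g : Γ} {H : Subgroup Γ} {x : Γ} : x ∈ cj g H ↔ g * x * g⁻¹ ∈ H := by
  unfold cj
  constructor
  · rintro ⟨h, hh, rfl⟩
    simp only [MulEquiv.coe_toMonoidHom, MulAut.conj_apply, inv_inv]
    have : g * (g⁻¹ * h * g) * g⁻¹ = h := by group
    rw [this]; exact hh
  · intro hx
    refine ⟨g * x * g⁻¹, hx, ?_⟩
    simp only [MulEquiv.coe_toMonoidHom, MulAut.conj_apply, inv_inv]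
    group

theorem mark_cj {X : Type*} [Finite X] [MulAction Γ X] (g : Γ) (H : Subgroup Γ) :
    mark X (cj g H) = mark X H := by
  unfold mark
  refine Set.ncard_congr (fun a _ => g • a) ?_ ?_ ?_
  · intro a ha h hh
    have h1 : g⁻¹ * h * g ∈ cj g H := mem_cj.2 (by
      have : g * (g⁻¹ * h * g) * g⁻¹ = h := by group
      rw [this]; exact hh)
    have h2 := ha _ h1
    rw [← mul_smul]
    have : h * g = g * (g⁻¹ * h * g) := by group
    rw [this, mul_smul, h2]
  · intro a b _ _ hab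
    exact MulAction.injective g hab
  · intro b hb
    refine ⟨g⁻¹ • b, ?_, by rw [smul_inv_smul]⟩
    intro h' hh'
    have h1 := hb _ (mem_cj.1 hh')
    rw [← mul_smul]
    have : h' * g⁻¹ = g⁻¹ * (g * h' * g⁻¹) := by group
    rw [this, mul_smul, h1]

theorem mark_le_card {X : Type*} [Finite X] [MulAction Γ X] (H : Subgroup Γ) :
    mark X H ≤ Nat.card X := by
  unfold mark
  rw [← Set.ncard_univ]
  exact Set.ncard_le_ncard (Set.subset_univ _) (Set.toFinite _)

theorem exists_cj_le_of_mark_ne_zero [Finite Γ] (D H : Subgroup Γ) (h : mark (Γ ⧸ D) H ≠ 0) :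
    ∃ g : Γ, cj g H ≤ D := by
  have h1 := card_mul_mark_quotient D H
  have h2 : Nat.card {g : Γ // ∀ h ∈ H, g⁻¹ * h * g ∈ D} ≠ 0 := by
    rw [← h1]
    exact Nat.mul_ne_zero Nat.card_pos.ne' h
  have h3 : Nonempty {g : Γ // ∀ h ∈ H, g⁻¹ * h * g ∈ D} := by
    by_contra hne
    rw [not_nonempty_iff] at hne
    exact h2 Nat.card_of_isEmpty
  obtain ⟨g, hg⟩ := h3
  exact ⟨g, (cj_le_iff g H D).2 hg⟩

theorem mark_quotient_self_pos [Finite Γ] (H : Subgroup Γ) : 0 < mark (Γ ⧸ H) H := by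
  unfold mark
  refine (Set.ncard_pos (Set.toFinite _)).2 ⟨(QuotientGroup.mk 1 : Γ ⧸ H), fun h hh => ?_⟩
  rw [MulAction.Quotient.smul_mk, smul_eq_mul, mul_one]
  exact QuotientGroup.eq.2 (by simpa using hh)

theorem mark_quotient_cj [Finite Γ] (g₀ : Γ) (D H : Subgroup Γ) :
    mark (Γ ⧸ cj g₀ D) H = mark (Γ ⧸ D) H := by
  have h1 := card_mul_mark_quotient (cj g₀ D) H
  have h2 := card_mul_mark_quotient D H
  have e : {g : Γ // ∀ h ∈ H, g⁻¹ * h * g ∈ cj g₀ D} ≃ {g : Γ // ∀ h ∈ H, g⁻¹ * h * g ∈ D} :=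
    Equiv.subtypeEquiv (Equiv.mulRight g₀⁻¹) (fun g => by
      refine forall₂_congr (fun h _ => ?_)
      rw [mem_cj]
      simp only [Equiv.coe_mulRight, mul_inv_rev, inv_inv]
      have : g₀ * (g⁻¹ * h * g) * g₀⁻¹ = g₀ * g⁻¹ * h * (g * g₀⁻¹) := by group
      rw [this])
  rw [Nat.card_congr e, ← h2, card_cj] at h1
  exact Nat.eq_of_mul_eq_mul_left Nat.card_pos h1

/-- The conjugacy relation on subgroups. -/
def conjSetoid (Γ : Type u) [Group Γ] : Setoid (Subgroup Γ) where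
  r H K := ∃ g : Γ, cj g H = K
  iseqv := ⟨fun H => ⟨1, cj_one H⟩, fun ⟨g, h⟩ => ⟨g⁻¹, by rw [← h, cj_inv_cj]⟩,
    fun ⟨g₁, h₁⟩ ⟨g₂, h₂⟩ => ⟨g₁ * g₂, by rw [← h₂, ← h₁, cj_mul]⟩⟩

/-- A `Γ`-set with prescribed numbers of orbits of each type of a given order. -/
theorem exists_orbits [Finite Γ] (e : Subgroup Γ → ℕ) (q : ℕ)
    (he : ∀ D : Subgroup Γ, e D ≠ 0 → Nat.card D = q)
    (hcl : ∀ (g : Γ) (D : Subgroup Γ), e (cj g D) = e D) :
    ∃ (A : Type u) (_ : Finite A) (_ : MulAction Γ A),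
      (∀ a : A, e (stabilizer Γ a) ≠ 0) ∧
      (∀ H : Subgroup Γ, Nat.card H = q → mark A H = e H * mark (Γ ⧸ H) H) ∧
      (∀ H : Subgroup Γ, q < Nat.card H → mark A H = 0) ∧
      ∃ k : ℕ, Nat.card A * q = k * Nat.card Γ := by
  haveI : Fintype (Quotient (conjSetoid Γ)) := Fintype.ofFinite _
  have hmark : ∀ H : Subgroup Γ,
      mark (Σ i : (Σ c : Quotient (conjSetoid Γ), Fin (e c.out)), Γ ⧸ i.1.out) H =
        ∑ c : Quotient (conjSetoid Γ), e c.out * mark (Γ ⧸ c.out) H := by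
    intro H
    rw [mark_sigma, Fintype.sum_sigma]
    refine Finset.sum_congr rfl (fun c _ => ?_)
    show ∑ _y : Fin (e c.out), mark (Γ ⧸ c.out) H = _
    rw [Finset.sum_const, Finset.card_univ, Fintype.card_fin, smul_eq_mul]
  refine ⟨Σ i : (Σ c : Quotient (conjSetoid Γ), Fin (e c.out)), Γ ⧸ i.1.out, inferInstance,
    inferInstance, ?_, ?_, ?_, ?_⟩
  · rintro ⟨⟨c, j⟩, q'⟩
    obtain ⟨g₀, rfl⟩ := QuotientGroup.mk_surjective q'
    rw [stabilizer_sigma]
    show e (stabilizer Γ (QuotientGroup.mk g₀ : Γ ⧸ c.out)) ≠ 0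
    rw [stabilizer_mk, hcl]
    exact (Fin.pos j).ne'
  · intro H hH
    rw [hmark, Finset.sum_eq_single (Quotient.mk (conjSetoid Γ) H)]
    · obtain ⟨g₀, hg₀⟩ : ∃ g : Γ, cj g (Quotient.mk (conjSetoid Γ) H).out = H :=
        Quotient.exact (Quotient.out_eq (Quotient.mk (conjSetoid Γ) H))
      have h1 : e (Quotient.mk (conjSetoid Γ) H).out = e H := by
        rw [← hcl g₀, hg₀]
      have h2 : mark (Γ ⧸ (Quotient.mk (conjSetoid Γ) H).out) H = mark (Γ ⧸ H) H := by
        rw [← mark_quotient_cj g₀ (Quotient.mk (conjSetoid Γ) H).out H, hg₀]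
      rw [h1, h2]
    · intro c _ hc
      by_cases hec : e c.out = 0
      · rw [hec, zero_mul]
      · by_contra hne
        have hm : mark (Γ ⧸ c.out) H ≠ 0 := fun h => hne (by rw [h, mul_zero])
        obtain ⟨g, hg⟩ := exists_cj_le_of_mark_ne_zero _ _ hm
        have hcard : Nat.card (cj g H) = Nat.card c.out := by
          rw [card_cj, hH, he _ hec]
        have heq : cj g H = c.out := Subgroup.eq_of_le_of_card_ge hg hcard.ge
        apply hc
        rw [← Quotient.out_eq c]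
        exact (Quotient.sound (⟨g, heq⟩ : (conjSetoid Γ).r H c.out)).symm
    · intro h; exact absurd (Finset.mem_univ _) h
  · intro H hH
    rw [hmark]
    refine Finset.sum_eq_zero (fun c _ => ?_)
    by_cases hec : e c.out = 0
    · rw [hec, zero_mul]
    · by_contra hne
      have hm : mark (Γ ⧸ c.out) H ≠ 0 := fun h => hne (by rw [h, mul_zero])
      obtain ⟨g, hg⟩ := exists_cj_le_of_mark_ne_zero _ _ hm
      have h1 := Subgroup.card_le_of_le hg
      rw [card_cj, he _ hec] at h1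
      omega
  · refine ⟨∑ c : Quotient (conjSetoid Γ), e c.out, ?_⟩
    rw [Nat.card_sigma, Fintype.sum_sigma, Finset.sum_mul, Finset.sum_mul]
    refine Finset.sum_congr rfl (fun c _ => ?_)
    show (∑ _y : Fin (e c.out), Nat.card (Γ ⧸ c.out)) * q = _
    rw [Finset.sum_const, Finset.card_univ, Fintype.card_fin, smul_eq_mul]
    by_cases hec : e c.out = 0
    · rw [hec, zero_mul, zero_mul, zero_mul]
    · rw [mul_assoc, ← he _ hec, ← Subgroup.card_eq_card_quotient_mul_card_subgroup]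

/-- Burnside's counting lemma for the action of `V` on the fixed points of a subgroup it
normalizes. -/
theorem sum_mark_sup_zpowers [Finite Γ] {X : Type*} [Finite X] [MulAction Γ X] (Δ V : Subgroup Γ)
    (hN : ∀ v ∈ V, ∀ d ∈ Δ, v⁻¹ * d * v ∈ Δ) [Fintype V] :
    (∑ v : V, mark X (Δ ⊔ Subgroup.zpowers (v : Γ))) ≡ 0 [MOD Nat.card V] := by
  letI inst : MulAction V (fix X Δ) :=
    { smul := fun v y => ⟨(v : Γ) • y.1, fun d hd => by
        rw [← mul_smul]
        have : d * (v : Γ) = (v : Γ) * ((v : Γ)⁻¹ * d * (v : Γ)) := by group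
        rw [this, mul_smul, y.2 _ (hN v v.2 d hd)]⟩
      one_smul := fun y => Subtype.ext (one_smul Γ y.1)
      mul_smul := fun v w y => Subtype.ext (mul_smul (v : Γ) (w : Γ) y.1) }
  haveI : Fintype (fix X Δ) := Fintype.ofFinite _
  haveI : ∀ v : V, Fintype (MulAction.fixedBy (fix X Δ) v) := fun v => Fintype.ofFinite _
  haveI : Fintype (Quotient (MulAction.orbitRel V (fix X Δ))) := Fintype.ofFinite _
  have hB := MulAction.sum_card_fixedBy_eq_card_orbits_mul_card_group V (fix X Δ)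
  have hterm : ∀ v : V, Fintype.card (MulAction.fixedBy (fix X Δ) v) =
      mark X (Δ ⊔ Subgroup.zpowers (v : Γ)) := by
    intro v
    rw [← Nat.card_eq_fintype_card, mark, ← Nat.card_coe_set_eq]
    refine Nat.card_congr
      { toFun := fun y => ⟨y.1.1, mem_fix_iff.2 (sup_le (mem_fix_iff.1 y.1.2)
          ((Subgroup.zpowers_le).2 (mem_stabilizer_iff.2 (congrArg Subtype.val y.2))))⟩
        invFun := fun x => ⟨⟨x.1, fun d hd => x.2 d (le_sup_left (a := Δ) hd)⟩,
          Subtype.ext (x.2 (v : Γ) (le_sup_right (a := Δ) (Subgroup.mem_zpowers (v : Γ))))⟩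
        left_inv := fun y => rfl
        right_inv := fun x => rfl }
  rw [← Finset.sum_congr rfl (fun v _ => hterm v), hB, Nat.card_eq_fintype_card]
  exact (Nat.modEq_zero_iff_dvd.2 (dvd_mul_left _ _))

/-- The congruence between the marks of two twists of a subgroup, given equality of the marks of
the twists of all larger subgroups. -/
theorem twist_congr {Γ' : Type*} [Group Γ'] [Finite Γ'] {X : Type*} [Finite X] [MulAction Γ X]
    (f₁ f₂ : Γ' →* Γ) (Δ V : Subgroup Γ') (hΔV : Δ ≤ V)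
    (hN : ∀ v ∈ V, ∀ d ∈ Δ, v⁻¹ * d * v ∈ Δ)
    (h : ∀ K : Subgroup Γ', Δ < K → mark X (K.map f₁) = mark X (K.map f₂)) :
    Nat.card Δ * mark X (Δ.map f₁) ≡ Nat.card Δ * mark X (Δ.map f₂) [MOD Nat.card V] := by
  haveI : Fintype V := Fintype.ofFinite _
  have s₁ := @sum_mark_sup_zpowers Γ' _ _ X _ (MulAction.compHom X f₁) Δ V hN _
  have s₂ := @sum_mark_sup_zpowers Γ' _ _ X _ (MulAction.compHom X f₂) Δ V hN _
  have key : ∀ (f : Γ' →* Γ), (∑ v : V, @mark Γ' _ X (MulAction.compHom X f)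
      (Δ ⊔ Subgroup.zpowers (v : Γ'))) =
      Nat.card Δ * mark X (Δ.map f) + ∑ v : V, if (v : Γ') ∈ Δ then 0 else
        mark X ((Δ ⊔ Subgroup.zpowers (v : Γ')).map f) := by
    intro f
    have hterm : ∀ v : V, @mark Γ' _ X (MulAction.compHom X f) (Δ ⊔ Subgroup.zpowers (v : Γ')) =
        (if (v : Γ') ∈ Δ then mark X (Δ.map f) else 0) + (if (v : Γ') ∈ Δ then 0 else
        mark X ((Δ ⊔ Subgroup.zpowers (v : Γ')).map f)) := by
      intro v
      rw [mark_compHom]
      by_cases hv : (v : Γ') ∈ Δ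
      · rw [if_pos hv, if_pos hv, add_zero]
        have : Δ ⊔ Subgroup.zpowers (v : Γ') = Δ :=
          sup_eq_left.2 ((Subgroup.zpowers_le).2 hv)
        rw [this]
      · rw [if_neg hv, if_neg hv, zero_add]
    rw [Finset.sum_congr rfl (fun v _ => hterm v), Finset.sum_add_distrib]
    congr 1
    rw [← Finset.sum_filter, Finset.sum_const, smul_eq_mul]
    congr 1
    rw [← Nat.card_congr (Subgroup.subgroupOfEquivOfLe hΔV).toEquiv, Nat.card_eq_fintype_card,
      Fintype.card_subtype]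
    rfl
  rw [key f₁] at s₁
  rw [key f₂] at s₂
  have hR : (∑ v : V, if (v : Γ') ∈ Δ then 0 else
        mark X ((Δ ⊔ Subgroup.zpowers (v : Γ')).map f₁)) =
      ∑ v : V, if (v : Γ') ∈ Δ then 0 else
        mark X ((Δ ⊔ Subgroup.zpowers (v : Γ')).map f₂) := by
    refine Finset.sum_congr rfl (fun v _ => ?_)
    by_cases hv : (v : Γ') ∈ Δ
    · rw [if_pos hv, if_pos hv]
    · rw [if_neg hv, if_neg hv]
      refine h _ (lt_of_le_of_ne le_sup_left (fun heq => hv ?_))
      rw [heq]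
      exact le_sup_right (a := Δ) (Subgroup.mem_zpowers (v : Γ'))
  rw [hR] at s₁
  exact Nat.ModEq.add_right_cancel' _ (s₁.trans s₂.symm)

end generic

end Cfsg.Agent.Helper27.Marks
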