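import Cfsg.Agent.Helper27.CoprimeAut

set_option autoImplicit false

namespace Cfsg.Agent.Helper27

universe u

open scoped commutatorElement

/-- Structure of a minimal invariant subgroup on which a conjugation-closed set `Pset` of coprime
automorphisms acts nontrivially: all its elements have small order. -/
theorem min_coprime_structure {U : Type u} [Group U] [Finite U] {p : ℕ} [Fact p.Prime]
    (hU : IsPGroup p U) (R : Subgroup U) (𝒢 Pset : Set (MulAut U))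
    (hPsetord : ∀ δ ∈ Pset, ∃ m : ℕ, δ ^ m = 1 ∧ Nat.Coprime m p)
    (h𝒢R : ∀ g ∈ 𝒢, ∀ x ∈ R, g x ∈ R)
    (hPset𝒢 : Pset ⊆ 𝒢)
    (hconj : ∀ g ∈ 𝒢, ∀ δ ∈ Pset, g * δ * g⁻¹ ∈ Pset)
    (hmin : ∀ R' : Subgroup U, R' ≤ R → R' ≠ R → (∀ g ∈ 𝒢, ∀ x ∈ R', g x ∈ R') →
      ∀ δ ∈ Pset, ∀ x ∈ R', δ x = x)
    (hne : ∃ δ ∈ Pset, ∃ x ∈ R, δ x ≠ x) :
    ∀ x ∈ R, x ^ p = 1 ∨ (p = 2 ∧ x ^ 4 = 1) := by
  have hp : p.Prime := Fact.out
  obtain ⟨δ₀, hδ₀, x₀, hx₀R, hx₀⟩ := hne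
  obtain ⟨m₀, hm₀, hcop₀⟩ := hPsetord δ₀ hδ₀
  -- Step 1: A = R' R^p
  obtain ⟨A, hAdef⟩ : ∃ A : Subgroup U, A = Subgroup.closure
      ({y | ∃ a ∈ R, ∃ b ∈ R, y = ⁅a, b⁆} ∪ {y | ∃ x ∈ R, y = x ^ p}) := ⟨_, rfl⟩
  have hAR : A ≤ R := by
    rw [hAdef, Subgroup.closure_le]
    rintro y (⟨a, ha, b, hb, rfl⟩ | ⟨x, hx, rfl⟩)
    · exact R.mul_mem (R.mul_mem (R.mul_mem ha hb) (R.inv_mem ha)) (R.inv_mem hb)
    · exact R.pow_mem hx p
  have hcommA : ∀ a ∈ R, ∀ b ∈ R, ⁅a, b⁆ ∈ A := fun a ha b hb => by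
    rw [hAdef]; exact Subgroup.subset_closure (Or.inl ⟨a, ha, b, hb, rfl⟩)
  have hpowA : ∀ x ∈ R, x ^ p ∈ A := fun x hx => by
    rw [hAdef]; exact Subgroup.subset_closure (Or.inr ⟨x, hx, rfl⟩)
  have hAinv : ∀ g ∈ 𝒢, ∀ x ∈ A, g x ∈ A := by
    intro g hg x hx
    have h1 : A.map g.toMonoidHom ≤ A := by
      rw [hAdef, MonoidHom.map_closure, Subgroup.closure_le]
      rintro _ ⟨y, (⟨a, ha, b, hb, rfl⟩ | ⟨x, hx, rfl⟩), rfl⟩
      · have e : g.toMonoidHom ⁅a, b⁆ = ⁅g a, g b⁆ := by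
          show g ⁅a, b⁆ = ⁅g a, g b⁆
          rw [commutatorElement_def, commutatorElement_def, map_mul, map_mul, map_mul, map_inv,
            map_inv]
        rw [e, ← hAdef]; exact hcommA _ (h𝒢R g hg a ha) _ (h𝒢R g hg b hb)
      · have e : g.toMonoidHom (x ^ p) = (g x) ^ p := map_pow g x p
        rw [e, ← hAdef]; exact hpowA _ (h𝒢R g hg x hx)
    exact h1 ⟨x, hx, rfl⟩
  have hAne : A ≠ R := by
    intro hAeq
    have hx₀1 : x₀ ≠ 1 := by
      rintro rfl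
      exact hx₀ (map_one δ₀)
    have hRp : IsPGroup p R := hU.to_subgroup R
    obtain ⟨k, hk⟩ := IsPGroup.iff_card.1 hRp
    have hk0 : k ≠ 0 := by
      rintro rfl
      rw [pow_zero] at hk
      have hsub : Subsingleton R := (Nat.card_eq_one_iff_unique.1 hk).1
      apply hx₀1
      have h1 : (⟨x₀, hx₀R⟩ : R) = 1 := Subsingleton.elim _ _
      exact congrArg Subtype.val h1
    obtain ⟨M, hM⟩ := Sylow.exists_subgroup_card_pow_prime p
      (show p ^ (k - 1) ∣ Nat.card R by rw [hk]; exact pow_dvd_pow p (Nat.sub_le k 1))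
    have hMidx : M.index = p := by
      have h1 := M.card_mul_index
      rw [hM, hk] at h1
      have h2 : p ^ k = p ^ (k - 1) * p := by
        rw [← pow_succ]; congr 1; omega
      rw [h2] at h1
      exact Nat.eq_of_mul_eq_mul_left (pow_pos hp.pos _) h1
    have hMn : M.Normal := by
      apply Subgroup.normal_of_index_eq_minFac_card
      rw [hMidx, hk, Nat.Prime.pow_minFac hp hk0]
    have hMtop : M ≠ ⊤ := by
      intro h
      rw [h, Subgroup.index_top] at hMidx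
      exact hp.one_lt.ne hMidx
    have hpowM : ∀ x : R, x ^ p ∈ M := fun x => by
      have := M.pow_index_mem x
      rwa [hMidx] at this
    have hD'M : commutator R ≤ M := by
      have hcardQ : Nat.card (R ⧸ M) = p := by rw [← Subgroup.index_eq_card, hMidx]
      have hcyc : IsCyclic (R ⧸ M) := isCyclic_of_prime_card hcardQ
      exact Subgroup.Normal.quotient_commutative_iff_commutator_le.1 inferInstance
    have hAM : A ≤ M.map R.subtype := by
      rw [hAdef, Subgroup.closure_le]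
      rintro y (⟨a, ha, b, hb, rfl⟩ | ⟨x, hx, rfl⟩)
      · refine ⟨⁅(⟨a, ha⟩ : R), ⟨b, hb⟩⁆, hD'M ?_, rfl⟩
        rw [commutator_def]
        exact Subgroup.commutator_mem_commutator (Subgroup.mem_top _) (Subgroup.mem_top _)
      · exact ⟨(⟨x, hx⟩ : R) ^ p, hpowM _, rfl⟩
    apply hMtop
    rw [eq_top_iff]
    intro y _
    have hyA : (y : U) ∈ A := by rw [hAeq]; exact y.2
    obtain ⟨z, hz, hzy⟩ := hAM hyA
    have : z = y := Subtype.ext hzy
    rwa [this] at hz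
  have hAfix : ∀ δ ∈ Pset, ∀ x ∈ A, δ x = x := hmin A hAR hAne hAinv
  -- Step 2: R is generated by the commutators with Pset
  obtain ⟨R₀, hR₀def⟩ : ∃ R₀ : Subgroup U,
      R₀ = Subgroup.closure {y | ∃ δ ∈ Pset, ∃ r ∈ R, y = r⁻¹ * δ r} := ⟨_, rfl⟩
  have hR₀R : R₀ ≤ R := by
    rw [hR₀def, Subgroup.closure_le]
    rintro _ ⟨δ, hδ, r, hr, rfl⟩
    exact R.mul_mem (R.inv_mem hr) (h𝒢R δ (hPset𝒢 hδ) r hr)
  have hR₀inv : ∀ g ∈ 𝒢, ∀ x ∈ R₀, g x ∈ R₀ := by
    intro g hg x hx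
    have h1 : R₀.map g.toMonoidHom ≤ R₀ := by
      rw [hR₀def, MonoidHom.map_closure, Subgroup.closure_le]
      rintro _ ⟨_, ⟨δ, hδ, r, hr, rfl⟩, rfl⟩
      apply Subgroup.subset_closure
      refine ⟨g * δ * g⁻¹, hconj g hg δ hδ, g r, h𝒢R g hg r hr, ?_⟩
      show g (r⁻¹ * δ r) = (g r)⁻¹ * (g * δ * g⁻¹) (g r)
      rw [MulAut.mul_apply, MulAut.mul_apply, MulAut.inv_apply_self, map_mul, map_inv]
    exact h1 ⟨x, hx, rfl⟩
  have hR₀eq : R₀ = R := by
    by_contra hne'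
    have hfix := hmin R₀ hR₀R hne' hR₀inv δ₀ hδ₀
    apply hx₀
    apply fix_of_fix_comm hU δ₀ hm₀ hcop₀ x₀
    apply hfix
    rw [hR₀def]; exact Subgroup.subset_closure ⟨δ₀, hδ₀, x₀, hx₀R, rfl⟩
  -- Step 3: A is central in R
  have hAcentral : ∀ f ∈ A, ∀ y ∈ R, y * f = f * y := by
    intro f hf
    have hle : R₀ ≤ Subgroup.centralizer {f} := by
      rw [hR₀def, Subgroup.closure_le]
      rintro _ ⟨δ, hδ, r, hr, rfl⟩
      rw [SetLike.mem_coe, Subgroup.mem_centralizer_iff]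
      intro w hw
      rw [Set.mem_singleton_iff] at hw
      subst hw
      have hconjA : r * w * r⁻¹ ∈ A := by
        have e : r * w * r⁻¹ = ⁅r, w⁆ * w := by rw [commutatorElement_def]; group
        rw [e]; exact A.mul_mem (hcommA r hr w (hAR hf)) hf
      have h1 := hAfix δ hδ _ hconjA
      rw [map_mul, map_mul, map_inv, hAfix δ hδ w hf] at h1
      calc w * (r⁻¹ * δ r) = r⁻¹ * (r * w * r⁻¹) * δ r := by group
        _ = r⁻¹ * (δ r * w * (δ r)⁻¹) * δ r := by rw [h1]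
        _ = r⁻¹ * δ r * w := by group
    intro y hy
    have hy' : y ∈ Subgroup.centralizer {f} := hle (by rw [hR₀eq]; exact hy)
    rw [Subgroup.mem_centralizer_iff] at hy'
    exact (hy' f rfl).symm
  -- Step 4: R is generated by its small elements
  obtain ⟨Rs, hRsdef⟩ : ∃ Rs : Subgroup U,
      Rs = Subgroup.closure {x | x ∈ R ∧ (x ^ p = 1 ∨ (p = 2 ∧ x ^ 4 = 1))} := ⟨_, rfl⟩
  have hRsR : Rs ≤ R := by
    rw [hRsdef, Subgroup.closure_le]
    intro x hx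
    exact hx.1
  have hRsinv : ∀ g ∈ 𝒢, ∀ x ∈ Rs, g x ∈ Rs := by
    intro g hg x hx
    have h1 : Rs.map g.toMonoidHom ≤ Rs := by
      rw [hRsdef, MonoidHom.map_closure, Subgroup.closure_le]
      rintro _ ⟨y, ⟨hyR, hy⟩, rfl⟩
      apply Subgroup.subset_closure
      refine ⟨h𝒢R g hg y hyR, ?_⟩
      rcases hy with h | ⟨h2, h⟩
      · left
        show (g y) ^ p = 1
        rw [← map_pow, h, map_one]
      · right
        refine ⟨h2, ?_⟩
        show (g y) ^ 4 = 1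
        rw [← map_pow, h, map_one]
    exact h1 ⟨x, hx, rfl⟩
  have hRseq : Rs = R := by
    by_contra hne'
    have hfix := hmin Rs hRsR hne' hRsinv δ₀ hδ₀
    apply hx₀
    exact aut_fix_of_fix_small_sub R (hU.to_subgroup R) δ₀ hm₀ hcop₀ (h𝒢R δ₀ (hPset𝒢 hδ₀))
      (fun x hx hxp => hfix x (by rw [hRsdef]; exact Subgroup.subset_closure ⟨hx, Or.inl hxp⟩))
      (fun h2 x hx hx4 => hfix x (by
        rw [hRsdef]; exact Subgroup.subset_closure ⟨hx, Or.inr ⟨h2, hx4⟩⟩)) x₀ hx₀R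
  -- Step 5: the small elements form a subgroup
  intro x hx
  rw [← hRseq, hRsdef] at hx
  have key : x ∈ R ∧ (x ^ p = 1 ∨ (p = 2 ∧ x ^ 4 = 1)) := by
    induction hx using Subgroup.closure_induction with
    | mem y hy => exact hy
    | one => exact ⟨R.one_mem, Or.inl (one_pow p)⟩
    | mul a b _ _ iha ihb =>
      obtain ⟨haR, ha⟩ := iha
      obtain ⟨hbR, hb⟩ := ihb
      refine ⟨R.mul_mem haR hbR, ?_⟩
      have hcA : ⁅b, a⁆ ∈ A := hcommA b hbR a haR
      have hca : Commute ⁅b, a⁆ a := (hAcentral _ hcA a haR).symm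
      have hcb : Commute ⁅b, a⁆ b := (hAcentral _ hcA b hbR).symm
      have hba : b * a = ⁅b, a⁆ * a * b := by rw [commutatorElement_def]; group
      by_cases hp2 : p = 2
      · right
        refine ⟨hp2, ?_⟩
        have h4 : ∀ y : U, (y ^ p = 1 ∨ (p = 2 ∧ y ^ 4 = 1)) → y ^ 4 = 1 := by
          intro y hy
          rcases hy with h | ⟨_, h⟩
          · rw [hp2] at h
            rw [show 4 = 2 * 2 from rfl, pow_mul, h, one_pow]
          · exact h
        have ha4 := h4 a ha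
        have hb4 := h4 b hb
        have hc2 : ⁅b, a⁆ ^ 2 = 1 := by
          have h1 := pow_mul_comm_central a b ⁅b, a⁆ hba hca hcb 2
          have hb2A : b ^ 2 ∈ A := by
            have := hpowA b hbR
            rwa [hp2] at this
          have h2 : a * b ^ 2 = b ^ 2 * a := hAcentral _ hb2A a haR
          rw [← h2] at h1
          have h3 : 1 * (a * b ^ 2) = ⁅b, a⁆ ^ 2 * (a * b ^ 2) := by
            rw [one_mul, ← mul_assoc]; exact h1
          exact (mul_right_cancel h3).symm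
        have hf := mul_pow_central a b ⁅b, a⁆ hba hca hcb 4
        rw [hf, ha4, hb4, one_mul, one_mul]
        have : 4 * (4 - 1) / 2 = 2 * 3 := by norm_num
        rw [this, pow_mul, hc2, one_pow]
      · left
        have hpp : ∀ y : U, (y ^ p = 1 ∨ (p = 2 ∧ y ^ 4 = 1)) → y ^ p = 1 := by
          intro y hy
          rcases hy with h | ⟨h, _⟩
          · exact h
          · exact absurd h hp2
        have hap := hpp a ha
        have hbp := hpp b hb
        have hcp : ⁅b, a⁆ ^ p = 1 := by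
          have h1 := pow_mul_comm_central a b ⁅b, a⁆ hba hca hcb p
          rw [hbp, one_mul, mul_one] at h1
          have h3 : 1 * a = ⁅b, a⁆ ^ p * a := by rw [one_mul]; exact h1
          exact (mul_right_cancel h3).symm
        have hf := mul_pow_central a b ⁅b, a⁆ hba hca hcb p
        rw [hf, hap, hbp, one_mul, one_mul]
        obtain ⟨s, hs⟩ := hp.odd_of_ne_two hp2
        have ht : p * (p - 1) / 2 = p * s := by
          have : p - 1 = 2 * s := by omega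
          rw [this, ← mul_assoc, mul_comm p 2, mul_assoc, Nat.mul_div_cancel_left _ (by norm_num)]
        rw [ht, pow_mul, hcp, one_pow]
    | inv a _ iha =>
      obtain ⟨haR, ha⟩ := iha
      refine ⟨R.inv_mem haR, ?_⟩
      rcases ha with h | ⟨h2, h⟩
      · left; rw [inv_pow, h, inv_one]
      · right; exact ⟨h2, by rw [inv_pow, h, inv_one]⟩
  exact key.2

/-- A normal subgroup `K` of a group `G` of automorphisms of a finite `p`-group `U` is a `p`-group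
as soon as it acts as a `p`-group on every `G`-invariant subgroup of `D` all of whose elements
have small order, where `D` is a `G`-invariant subgroup containing `[U, γ]` for all `p'`-elements
`γ` of `G`. -/
theorem pGroup_of_small_chain {U : Type u} [Group U] [Finite U] {p : ℕ} [Fact p.Prime]
    (hU : IsPGroup p U) (D : Subgroup U) (G K : Subgroup (MulAut U))
    (hGD : ∀ g ∈ G, ∀ x ∈ D, g x ∈ D)
    (hcomm : ∀ g ∈ G, ∀ m : ℕ, g ^ m = 1 → Nat.Coprime m p → ∀ u : U, u⁻¹ * g u ∈ D)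
    (hKG : K ≤ G) (hKn : ∀ g ∈ G, ∀ k ∈ K, g * k * g⁻¹ ∈ K)
    (hchain : ∀ R : Subgroup U, R ≤ D → (∀ g ∈ G, ∀ x ∈ R, g x ∈ R) →
      (∀ x ∈ R, x ^ p = 1 ∨ (p = 2 ∧ x ^ 4 = 1)) →
      ∀ k ∈ K, ∃ j : ℕ, ∀ x ∈ R, (k ^ p ^ j) x = x) :
    ∀ k ∈ K, ∃ j : ℕ, k ^ p ^ j = 1 := by
  classical
  have hp : p.Prime := Fact.out
  obtain ⟨Pset, hPsetdef⟩ : ∃ Pset : Set (MulAut U),
      Pset = {δ | δ ∈ K ∧ ∃ m : ℕ, δ ^ m = 1 ∧ Nat.Coprime m p} := ⟨_, rfl⟩
  have hPsetmem : ∀ δ, δ ∈ Pset ↔ (δ ∈ K ∧ ∃ m : ℕ, δ ^ m = 1 ∧ Nat.Coprime m p) := by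
    intro δ; rw [hPsetdef]; exact Iff.rfl
  -- a `p'`-element fixing `x` under a `p`-power fixes `x`
  have hpowfix : ∀ δ : MulAut U, (∃ m : ℕ, δ ^ m = 1 ∧ Nat.Coprime m p) → ∀ (j : ℕ) (x : U),
      (δ ^ p ^ j) x = x → δ x = x := by
    rintro δ ⟨m, hm, hcop⟩ j x hx
    have hord : orderOf δ ∣ m := orderOf_dvd_of_pow_eq_one hm
    have hcop2 : Nat.Coprime (p ^ j) (orderOf δ) :=
      Nat.Coprime.coprime_dvd_right hord (Nat.Coprime.pow_left j hcop.symm)
    obtain ⟨a, ha⟩ := exists_pow_eq_self_of_coprime hcop2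
    have hiter : ∀ t : ℕ, ((δ ^ p ^ j) ^ t) x = x := by
      intro t
      induction t with
      | zero => simp
      | succ t ih => rw [pow_succ, MulAut.mul_apply, hx, ih]
    have h3 := hiter a
    rwa [ha] at h3
  have hPsettriv : ∀ δ ∈ Pset, δ = 1 := by
    by_contra hcon
    push_neg at hcon
    obtain ⟨δ₀, hδ₀, hδ₀1⟩ := hcon
    obtain ⟨hδ₀K, m₀, hm₀, hcop₀⟩ := (hPsetmem δ₀).1 hδ₀
    -- δ₀ moves some element of D
    have hmove : ∃ x ∈ D, δ₀ x ≠ x := by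
      by_contra hno
      push_neg at hno
      apply hδ₀1
      exact MulEquiv.ext (fun u => fix_of_fix_comm hU δ₀ hm₀ hcop₀ u
        (hno _ (hcomm δ₀ (hKG hδ₀K) m₀ hm₀ hcop₀ u)))
    obtain ⟨Q, hQdef⟩ : ∃ Q : Subgroup U → Prop, Q = fun R => R ≤ D ∧
        (∀ g ∈ G, ∀ x ∈ R, g x ∈ R) ∧ ∃ δ ∈ Pset, ∃ x ∈ R, δ x ≠ x := ⟨_, rfl⟩
    have hQD : Q D := by
      rw [hQdef]
      obtain ⟨x, hx, hne⟩ := hmove
      exact ⟨le_rfl, hGD, δ₀, hδ₀, x, hx, hne⟩
    have hex : ∃ n : ℕ, ∃ R : Subgroup U, Q R ∧ Nat.card R = n := ⟨_, D, hQD, rfl⟩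
    obtain ⟨R, hQR, hRn⟩ := Nat.find_spec hex
    have hRmin : ∀ R' : Subgroup U, Q R' → Nat.card R ≤ Nat.card R' := by
      intro R' hQR'
      rw [hRn]
      exact Nat.find_min' hex ⟨R', hQR', rfl⟩
    rw [hQdef] at hQR
    obtain ⟨hRD, hRinv, δ, hδ, x, hxR, hδx⟩ := hQR
    have hsmall := min_coprime_structure hU R (G : Set (MulAut U)) Pset
      (fun δ hδ => ((hPsetmem δ).1 hδ).2) hRinv
      (fun δ hδ => hKG ((hPsetmem δ).1 hδ).1)
      (by
        intro g hg δ hδ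
        obtain ⟨hδK, m, hm, hcop⟩ := (hPsetmem δ).1 hδ
        refine (hPsetmem _).2 ⟨hKn g hg δ hδK, m, ?_, hcop⟩
        rw [conj_pow, hm, mul_one, mul_inv_cancel])
      (by
        intro R' hR'R hR'ne hR'inv δ' hδ' y hy
        by_contra hne
        have hQR' : Q R' := by
          rw [hQdef]
          exact ⟨hR'R.trans hRD, hR'inv, δ', hδ', y, hy, hne⟩
        exact hR'ne (Subgroup.eq_of_le_of_card_ge hR'R (hRmin R' hQR')))
      ⟨δ, hδ, x, hxR, hδx⟩
    obtain ⟨j, hj⟩ := hchain R hRD hRinv hsmall δ ((hPsetmem δ).1 hδ).1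
    exact hδx (hpowfix δ ((hPsetmem δ).1 hδ).2 j x (hj x hxR))
  intro k hk
  have hfinA : Finite (MulAut U) := Finite.of_injective (fun α : MulAut U => (α : U → U))
    (fun a b h => MulEquiv.ext (fun x => congrFun h x))
  have ho : orderOf k ≠ 0 := (orderOf_pos k).ne'
  obtain ⟨a, m, hm, hom⟩ := Nat.exists_eq_pow_mul_and_not_dvd ho p hp.ne_one
  have hcop : Nat.Coprime m p := ((Nat.Prime.coprime_iff_not_dvd hp).2 hm).symm
  refine ⟨a, ?_⟩
  have hδm : (k ^ p ^ a) ^ m = 1 := by rw [← pow_mul, ← hom, pow_orderOf_eq_one]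
  exact hPsettriv _ ((hPsetmem _).2 ⟨K.pow_mem hk _, m, hδm, hcop⟩)

end Cfsg.Agent.Helper27
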