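import Mathlib

set_option autoImplicit false

namespace Cfsg.Agent.Helper27

section NZa

theorem nz_bezout_pow {G : Type*} [Group G] (g : G) (m n : ℕ) (h : Nat.Coprime m n) :
    ∃ x y : ℤ, g = (g ^ m) ^ x * (g ^ n) ^ y := by
  refine ⟨Int.gcdA m n, Int.gcdB m n, ?_⟩
  have h1 : ((Int.gcd (m : ℤ) (n : ℤ) : ℕ) : ℤ) = (m : ℤ) * Int.gcdA m n + (n : ℤ) * Int.gcdB m n :=
    Int.gcd_eq_gcd_ab m n
  have h2 : Int.gcd (m : ℤ) (n : ℤ) = 1 := by
    rw [Int.gcd_natCast_natCast]; exact h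
  rw [h2] at h1
  have h3 : g = g ^ ((m : ℤ) * Int.gcdA m n + (n : ℤ) * Int.gcdB m n) := by
    rw [← h1]; simp
  rw [zpow_add, zpow_mul, zpow_mul, zpow_natCast, zpow_natCast] at h3
  exact h3

variable {T : Type*} [Group T] [Finite T] {A : Type*} [CommGroup A] [Finite A]

theorem nz_lemS (ρ : T →* MulAut A) (Z0 : Subgroup A)
    (hfree : ∀ t : T, t ≠ 1 → ∀ a : A, ρ t a = a → a ∈ Z0)
    (hfix : ∀ t : T, ∀ z ∈ Z0, ρ t z = z)
    (q : ℕ) [Fact q.Prime]
    (a0 : A) (ha0 : a0 ∉ Z0) (ha0q : ∃ i : ℕ, a0 ^ q ^ i = 1)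
    (s : T) (hs1 : s ≠ 1) (hsq : ∃ j : ℕ, s ^ q ^ j = 1)
    (K : Subgroup T) (hK1 : K ≠ ⊥) (hKq : (Nat.card K).Coprime q)
    (hsK : s ∈ Subgroup.normalizer (K : Set T)) : False := by
  classical
  haveI : Fintype K := Fintype.ofFinite K
  have hq : q.Prime := Fact.out
  -- the norm map
  obtain ⟨ν, hνdef⟩ : ∃ ν : A → A, ∀ a, ν a = ∏ k : K, ρ (k : T) a := ⟨_, fun _ => rfl⟩
  have hν_mul : ∀ a b, ν (a * b) = ν a * ν b := by
    intro a b
    rw [hνdef, hνdef, hνdef, ← Finset.prod_mul_distrib]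
    exact Finset.prod_congr rfl (fun k _ => map_mul _ _ _)
  have hν_inv : ∀ a, ν a⁻¹ = (ν a)⁻¹ := by
    intro a
    rw [hνdef, hνdef, ← Finset.prod_inv_distrib]
    exact Finset.prod_congr rfl (fun k _ => map_inv _ _)
  have hν_one : ν 1 = 1 := by
    rw [hνdef]
    exact Finset.prod_eq_one (fun k _ => map_one _)
  have hν_conj : ∀ t : T, t ∈ Subgroup.normalizer (K : Set T) → ∀ a, ν (ρ t a) = ρ t (ν a) := by
    intro t ht a
    have htinv : t⁻¹ ∈ Subgroup.normalizer (K : Set T) := inv_mem ht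
    let e : K ≃ K :=
      { toFun := fun k => ⟨t⁻¹ * (k : T) * t, by
          have := (Subgroup.mem_normalizer_iff.mp htinv (k : T)).mp k.2
          simpa using this⟩
        invFun := fun k => ⟨t * (k : T) * t⁻¹, (Subgroup.mem_normalizer_iff.mp ht (k : T)).mp k.2⟩
        left_inv := fun k => by
          apply Subtype.ext
          simp [mul_assoc]
        right_inv := fun k => by
          apply Subtype.ext
          simp [mul_assoc] }
    have h1 : ∀ k : K, ρ (k : T) (ρ t a) = ρ t (ρ ((e k : K) : T) a) := by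
      intro k
      have h2 : (k : T) * t = t * ((e k : K) : T) := by
        show (k : T) * t = t * (t⁻¹ * (k : T) * t)
        group
      rw [← MulAut.mul_apply, ← map_mul, h2, map_mul, MulAut.mul_apply]
    rw [hνdef, hνdef, map_prod]
    rw [Finset.prod_congr rfl (fun k _ => h1 k)]
    exact Equiv.prod_comp e (fun k => ρ t (ρ (k : T) a))
  have hν_K : ∀ k0 : K, ∀ a, ν (ρ (k0 : T) a) = ν a := by
    intro k0 a
    rw [hνdef, hνdef]
    have h1 : ∀ k : K, ρ (k : T) (ρ (k0 : T) a) = ρ (((Equiv.mulRight k0) k : K) : T) a := by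
      intro k
      rw [← MulAut.mul_apply, ← map_mul]
      rfl
    rw [Finset.prod_congr rfl (fun k _ => h1 k)]
    exact Equiv.prod_comp (Equiv.mulRight k0) (fun k => ρ (k : T) a)
  -- the subgroup D
  let D : Subgroup A :=
    { carrier := {a | (∃ n : ℕ, a ^ q ^ n = 1) ∧ ν a = 1}
      mul_mem' := by
        rintro a b ⟨⟨n1, h1⟩, h2⟩ ⟨⟨n2, h3⟩, h4⟩
        refine ⟨⟨n1 + n2, ?_⟩, ?_⟩
        · rw [mul_pow, pow_add, pow_mul, h1, one_pow, mul_comm (q ^ n1) (q ^ n2), pow_mul, h3,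
            one_pow, one_mul]
        · rw [hν_mul, h2, h4, one_mul]
      one_mem' := ⟨⟨0, one_pow _⟩, hν_one⟩
      inv_mem' := by
        rintro a ⟨⟨n1, h1⟩, h2⟩
        refine ⟨⟨n1, ?_⟩, ?_⟩
        · rw [inv_pow, h1, inv_one]
        · rw [hν_inv, h2, inv_one] }
  have hDmem : ∀ a : A, a ∈ D ↔ (∃ n : ℕ, a ^ q ^ n = 1) ∧ ν a = 1 := fun a => Iff.rfl
  have hDinv : ∀ t : T, t ∈ Subgroup.normalizer (K : Set T) → ∀ d ∈ D, ρ t d ∈ D := by
    intro t ht d hd
    obtain ⟨⟨n, h1⟩, h2⟩ := (hDmem d).mp hd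
    refine (hDmem _).mpr ⟨⟨n, ?_⟩, ?_⟩
    · rw [← map_pow, h1, map_one]
    · rw [hν_conj t ht, h2, map_one]
  have hzp : Subgroup.zpowers s ≤ Subgroup.normalizer (K : Set T) := by
    rw [Subgroup.zpowers_le]; exact hsK
  -- D meets Z0 trivially
  have hDZ : ∀ b ∈ D, b ∈ Z0 → b = 1 := by
    intro b hb hbZ
    obtain ⟨⟨n, h1⟩, h2⟩ := (hDmem b).mp hb
    have h3 : ν b = b ^ Nat.card K := by
      have h3' : ∏ k : K, ρ (k : T) b = ∏ _k : K, b :=
        Finset.prod_congr rfl (fun k _ => hfix (k : T) b hbZ)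
      rw [hνdef, h3', Finset.prod_const, Finset.card_univ, Nat.card_eq_fintype_card]
    rw [h3] at h2
    have h4 : orderOf b ∣ Nat.card K := orderOf_dvd_of_pow_eq_one h2
    have h5 : orderOf b ∣ q ^ n := orderOf_dvd_of_pow_eq_one h1
    have h6 : (Nat.card K).Coprime (q ^ n) := Nat.Coprime.pow_right n hKq
    have h7 : orderOf b = 1 := Nat.eq_one_of_dvd_coprimes h6 h4 h5
    exact orderOf_eq_one_iff.mp h7
  -- D nontrivial
  obtain ⟨k0, hk0⟩ := (Subgroup.ne_bot_iff_exists_ne_one).mp hK1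
  have hk0' : (k0 : T) ≠ 1 := fun h => hk0 (Subtype.ext h)
  obtain ⟨i, hi⟩ := ha0q
  have hd0 : a0⁻¹ * ρ (k0 : T) a0 ∈ D := by
    refine (hDmem _).mpr ⟨⟨i, ?_⟩, ?_⟩
    · rw [mul_pow, inv_pow, hi, ← map_pow, hi, map_one, inv_one, one_mul]
    · rw [hν_mul, hν_inv, hν_K, inv_mul_cancel]
  have hd01 : a0⁻¹ * ρ (k0 : T) a0 ≠ 1 := by
    intro h
    have h1 : ρ (k0 : T) a0 = a0 := by
      have := congrArg (fun x => a0 * x) h
      simpa using this
    exact ha0 (hfree _ hk0' a0 h1)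
  -- the action
  letI act : MulAction (Subgroup.zpowers s) D :=
    { smul := fun t d => ⟨ρ (t : T) (d : A), hDinv (t : T) (hzp t.2) d.1 d.2⟩
      one_smul := fun d => by
        apply Subtype.ext
        show ρ ((1 : Subgroup.zpowers s) : T) (d : A) = (d : A)
        rw [Subgroup.coe_one, map_one, MulAut.one_apply]
      mul_smul := fun t t' d => by
        apply Subtype.ext
        show ρ ((t * t' : Subgroup.zpowers s) : T) (d : A) = ρ (t : T) (ρ (t' : T) (d : A))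
        rw [Subgroup.coe_mul, map_mul, MulAut.mul_apply] }
  have hsmul : ∀ (t : Subgroup.zpowers s) (d : D), ((t • d : D) : A) = ρ (t : T) (d : A) :=
    fun _ _ => rfl
  have hP : IsPGroup q (Subgroup.zpowers s) := by
    obtain ⟨j, hj⟩ := hsq
    intro g
    refine ⟨j, ?_⟩
    obtain ⟨z, hz⟩ := Subgroup.mem_zpowers_iff.mp g.2
    apply Subtype.ext
    rw [Subgroup.coe_pow, Subgroup.coe_one, ← hz, ← zpow_natCast, ← zpow_mul, mul_comm, zpow_mul,
      zpow_natCast, hj, one_zpow]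
  have hDp : IsPGroup q D := by
    intro d
    obtain ⟨⟨n, h1⟩, -⟩ := (hDmem d).mp d.2
    exact ⟨n, Subtype.ext (by rw [Subgroup.coe_pow, h1, Subgroup.coe_one])⟩
  haveI : Nontrivial D := ⟨⟨⟨_, hd0⟩, 1, fun h => hd01 (congrArg Subtype.val h)⟩⟩
  have hdvd : q ∣ Nat.card D := by
    obtain ⟨n, hn0, hn⟩ := hDp.nontrivial_iff_card.mp inferInstance
    rw [hn]; exact dvd_pow_self _ (ne_of_gt hn0)
  have hone : (1 : D) ∈ MulAction.fixedPoints (Subgroup.zpowers s) D := by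
    intro t
    apply Subtype.ext
    rw [hsmul, Subgroup.coe_one, map_one]
  obtain ⟨b, hbfix, hb1⟩ := hP.exists_fixed_point_of_prime_dvd_card_of_fixed_point D hdvd hone
  have hb2 : ρ s (b : A) = (b : A) := by
    have := hbfix ⟨s, Subgroup.mem_zpowers s⟩
    have h2 := congrArg Subtype.val this
    rwa [hsmul] at h2
  have hb3 : (b : A) ∈ Z0 := hfree s hs1 _ hb2
  have hb4 : (b : A) = 1 := hDZ _ b.2 hb3
  exact hb1 (Subtype.ext hb4.symm)

theorem nz_lemFA (ρ : T →* MulAut A) (Z0 : Subgroup A)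
    (hfree : ∀ t : T, t ≠ 1 → ∀ a : A, ρ t a = a → a ∈ Z0)
    (K H : Subgroup T) (hK1 : K ≠ ⊥) (hH1 : H ≠ ⊥)
    (hHK : H ≤ Subgroup.normalizer (K : Set T))
    (hfrob : ∀ h ∈ H, h ≠ 1 → ∀ k ∈ K, h * k = k * h → k = 1)
    (v : A) : v ^ Nat.card K ∈ Z0 := by
  classical
  haveI : Fintype K := Fintype.ofFinite K
  haveI : Fintype H := Fintype.ofFinite H
  obtain ⟨k0, hk0⟩ := (Subgroup.ne_bot_iff_exists_ne_one).mp hK1
  have hk0' : (k0 : T) ≠ 1 := fun h => hk0 (Subtype.ext h)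
  obtain ⟨w, hw⟩ := (Subgroup.ne_bot_iff_exists_ne_one).mp hH1
  have hw' : (w : T) ≠ 1 := fun h => hw (Subtype.ext h)
  -- (1) for each k, the product over h of (k h k⁻¹) v is in Z0
  have h1 : ∀ k : K, ∏ h : H, ρ ((k : T) * (h : T) * (k : T)⁻¹) v ∈ Z0 := by
    intro k
    apply hfree ((k : T) * (w : T) * (k : T)⁻¹)
    · intro h
      apply hw'
      have := congrArg (fun x => (k : T)⁻¹ * x * (k : T)) h
      simpa [mul_assoc] using this
    · rw [map_prod]
      have h2 : ∀ h : H, ρ ((k : T) * (w : T) * (k : T)⁻¹) (ρ ((k : T) * (h : T) * (k : T)⁻¹) v)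
          = ρ ((k : T) * (((Equiv.mulLeft w) h : H) : T) * (k : T)⁻¹) v := by
        intro h
        rw [← MulAut.mul_apply, ← map_mul]
        congr 2
        show (k : T) * (w : T) * (k : T)⁻¹ * ((k : T) * (h : T) * (k : T)⁻¹)
          = (k : T) * ((w : T) * (h : T)) * (k : T)⁻¹
        group
      rw [Finset.prod_congr rfl (fun h _ => h2 h)]
      exact Equiv.prod_comp (Equiv.mulLeft w) (fun h : H => ρ ((k : T) * (h : T) * (k : T)⁻¹) v)
  -- (2) for each h, the product over k of (k h) v is in Z0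
  have h2 : ∀ h : H, ∏ k : K, ρ ((k : T) * (h : T)) v ∈ Z0 := by
    intro h
    apply hfree (k0 : T) hk0'
    rw [map_prod]
    have h3 : ∀ k : K, ρ (k0 : T) (ρ ((k : T) * (h : T)) v)
        = ρ ((((Equiv.mulLeft k0) k : K) : T) * (h : T)) v := by
      intro k
      rw [← MulAut.mul_apply, ← map_mul]
      congr 2
      show (k0 : T) * ((k : T) * (h : T)) = (k0 : T) * (k : T) * (h : T)
      group
    rw [Finset.prod_congr rfl (fun k _ => h3 k)]
    exact Equiv.prod_comp (Equiv.mulLeft k0) (fun k : K => ρ ((k : T) * (h : T)) v)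
  -- (3) for h ≠ 1 the two k-products agree
  have h3 : ∀ h : H, h ≠ 1 →
      ∏ k : K, ρ ((k : T) * (h : T) * (k : T)⁻¹) v = ∏ k : K, ρ ((k : T) * (h : T)) v := by
    intro h hh
    have hh' : (h : T) ≠ 1 := fun e => hh (Subtype.ext e)
    have hmem : ∀ k : K, (k : T) * (h : T) * (k : T)⁻¹ * (h : T)⁻¹ ∈ K := by
      intro k
      have h4 : (h : T) * (k : T)⁻¹ * (h : T)⁻¹ ∈ K :=
        (Subgroup.mem_normalizer_iff.mp (hHK h.2) (k : T)⁻¹).mp (inv_mem k.2)
      have h5 : (k : T) * (h : T) * (k : T)⁻¹ * (h : T)⁻¹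
          = (k : T) * ((h : T) * (k : T)⁻¹ * (h : T)⁻¹) := by group
      rw [h5]
      exact mul_mem k.2 h4
    let e : K → K := fun k => ⟨(k : T) * (h : T) * (k : T)⁻¹ * (h : T)⁻¹, hmem k⟩
    have hinj : Function.Injective e := by
      intro k k' hkk
      have h6 : (k : T) * (h : T) * (k : T)⁻¹ * (h : T)⁻¹
          = (k' : T) * (h : T) * (k' : T)⁻¹ * (h : T)⁻¹ := congrArg Subtype.val hkk
      have h7 : (h : T) * ((k : T)⁻¹ * (k' : T)) = ((k : T)⁻¹ * (k' : T)) * (h : T) := by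
        have h8 : (k : T) * (h : T) * (k : T)⁻¹ = (k' : T) * (h : T) * (k' : T)⁻¹ := by
          have := congrArg (fun x => x * (h : T)) h6
          simpa using this
        have h9 : (k : T)⁻¹ * ((k : T) * (h : T) * (k : T)⁻¹) * (k' : T)
            = (k : T)⁻¹ * ((k' : T) * (h : T) * (k' : T)⁻¹) * (k' : T) := by rw [h8]
        have e1 : (k : T)⁻¹ * ((k : T) * (h : T) * (k : T)⁻¹) * (k' : T)
            = (h : T) * ((k : T)⁻¹ * (k' : T)) := by group
        have e2 : (k : T)⁻¹ * ((k' : T) * (h : T) * (k' : T)⁻¹) * (k' : T)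
            = ((k : T)⁻¹ * (k' : T)) * (h : T) := by group
        rw [e1, e2] at h9
        exact h9
      have h10 : (k : T)⁻¹ * (k' : T) = 1 :=
        hfrob (h : T) h.2 hh' _ (mul_mem (inv_mem k.2) k'.2) h7
      apply Subtype.ext
      have := congrArg (fun x => (k : T) * x) h10
      simpa using this.symm
    have hbij : Function.Bijective e := hinj.bijective_of_finite
    refine Fintype.prod_bijective e hbij _ _ ?_
    intro k
    congr 2
    show (k : T) * (h : T) * (k : T)⁻¹ = (k : T) * (h : T) * (k : T)⁻¹ * (h : T)⁻¹ * (h : T)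
    group
  -- assemble
  have htot : ∏ h : H, ∏ k : K, ρ ((k : T) * (h : T) * (k : T)⁻¹) v ∈ Z0 := by
    rw [Finset.prod_comm]
    exact Subgroup.prod_mem _ (fun k _ => h1 k)
  have hsplit : (∏ k : K, ρ ((k : T) * ((1 : H) : T) * (k : T)⁻¹) v) *
      ∏ h ∈ (Finset.univ : Finset H).erase 1, ∏ k : K, ρ ((k : T) * (h : T) * (k : T)⁻¹) v
      = ∏ h : H, ∏ k : K, ρ ((k : T) * (h : T) * (k : T)⁻¹) v :=
    Finset.mul_prod_erase Finset.univ (fun h : H => ∏ k : K, ρ ((k : T) * (h : T) * (k : T)⁻¹) v)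
      (Finset.mem_univ 1)
  have hfirst : (∏ k : K, ρ ((k : T) * ((1 : H) : T) * (k : T)⁻¹) v) = v ^ Nat.card K := by
    have h4 : ∀ k : K, ρ ((k : T) * ((1 : H) : T) * (k : T)⁻¹) v = v := by
      intro k
      rw [Subgroup.coe_one, mul_one, mul_inv_cancel, map_one, MulAut.one_apply]
    rw [Finset.prod_congr rfl (fun k _ => h4 k), Finset.prod_const, Finset.card_univ,
      Nat.card_eq_fintype_card]
  have hrest : ∏ h ∈ (Finset.univ : Finset H).erase 1,
      ∏ k : K, ρ ((k : T) * (h : T) * (k : T)⁻¹) v ∈ Z0 := by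
    apply Subgroup.prod_mem
    intro h hh
    rw [h3 h (Finset.ne_of_mem_erase hh)]
    exact h2 h
  rw [hfirst] at hsplit
  rw [← hsplit] at htot
  exact (Subgroup.mul_mem_cancel_right Z0 hrest).mp htot

theorem nz_mainT (ρ : T →* MulAut A) (Z0 : Subgroup A)
    (hfree : ∀ t : T, t ≠ 1 → ∀ a : A, ρ t a = a → a ∈ Z0)
    (hfix : ∀ t : T, ∀ z ∈ Z0, ρ t z = z)
    (q r : ℕ) [Fact q.Prime] [Fact r.Prime] (hqr : q ≠ r)
    (aq : A) (haq : aq ∉ Z0) (haqq : ∃ i : ℕ, aq ^ q ^ i = 1)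
    (ar : A) (har : ar ∉ Z0) (harr : ∃ i : ℕ, ar ^ r ^ i = 1)
    (t' : T) (ht'1 : t' ≠ 1) (ht'r : ∃ j : ℕ, t' ^ r ^ j = 1)
    (Pb : Subgroup T) (hPbq : IsPGroup q Pb) (hPb1 : Pb ≠ ⊥)
    (hPbc : ∀ a ∈ Pb, ∀ b ∈ Pb, a * b = b * a)
    (hPbi : ¬ q ∣ Pb.index) : False := by
  classical
  have hq : q.Prime := Fact.out
  have hr : r.Prime := Fact.out
  obtain ⟨Q, hQ⟩ : ∃ Q : Sylow q T, (Q : Subgroup T) = Pb :=
    ⟨hPbq.toSylow hPbi, IsPGroup.toSylow_coe hPbq hPbi⟩
  obtain ⟨s0, hs0⟩ := (Subgroup.ne_bot_iff_exists_ne_one).mp hPb1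
  have hs0' : (s0 : T) ≠ 1 := fun h => hs0 (Subtype.ext h)
  have hPbpow : ∀ k ∈ Pb, ∃ j : ℕ, k ^ q ^ j = 1 := by
    intro k hk
    obtain ⟨j, hj⟩ := hPbq ⟨k, hk⟩
    exact ⟨j, by have := congrArg Subtype.val hj; simpa using this⟩
  by_cases hNC : Subgroup.normalizer ((Q : Subgroup T) : Set T) ≤
      Subgroup.centralizer ((Q : Subgroup T) : Set T)
  · have hcomp := MonoidHom.ker_transferSylow_isComplement' Q hNC
    obtain ⟨K, hKdef⟩ : ∃ K : Subgroup T, K = (MonoidHom.transferSylow Q hNC).ker := ⟨_, rfl⟩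
    rw [← hKdef] at hcomp
    haveI hKn : K.Normal := by rw [hKdef]; infer_instance
    have hidx : (Q : Subgroup T).index = Nat.card K := hcomp.index_eq_card
    have hKq : (Nat.card K).Coprime q := by
      rw [← hidx, hQ]
      exact Nat.Coprime.symm (hq.coprime_iff_not_dvd.mpr hPbi)
    have hK1 : K ≠ ⊥ := by
      intro hbot
      have h1 : Nat.card K = 1 := by rw [hbot]; exact Subgroup.card_bot
      have h2 : (Q : Subgroup T).index = 1 := by rw [hidx, h1]
      have h3 : (Q : Subgroup T) = ⊤ := Subgroup.index_eq_one.mp h2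
      have h4 : t' ∈ Pb := by rw [← hQ, h3]; exact Subgroup.mem_top _
      obtain ⟨j, hj⟩ := hPbpow t' h4
      obtain ⟨j', hj'⟩ := ht'r
      have h5 : orderOf t' ∣ q ^ j := orderOf_dvd_of_pow_eq_one hj
      have h6 : orderOf t' ∣ r ^ j' := orderOf_dvd_of_pow_eq_one hj'
      have h7 : (q ^ j).Coprime (r ^ j') :=
        Nat.Coprime.pow _ _ ((Nat.coprime_primes hq hr).mpr hqr)
      exact ht'1 (orderOf_eq_one_iff.mp (Nat.eq_one_of_dvd_coprimes h7 h5 h6))
    have hsK : (s0 : T) ∈ Subgroup.normalizer (K : Set T) := by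
      rw [Subgroup.normalizer_eq_top]; exact Subgroup.mem_top _
    exact nz_lemS ρ Z0 hfree hfix q aq haq haqq (s0 : T) hs0' (hPbpow _ s0.2) K hK1 hKq hsK
  · obtain ⟨w, hwN, hwC⟩ := SetLike.not_le_iff_exists.mp hNC
    have hn : 0 < orderOf w := orderOf_pos w
    obtain ⟨c, hc⟩ : ∃ c : ℕ, c = q ^ (orderOf w).factorization q := ⟨_, rfl⟩
    obtain ⟨b, hb⟩ : ∃ b : ℕ, b = orderOf w / q ^ (orderOf w).factorization q := ⟨_, rfl⟩
    have hcb : c * b = orderOf w := by
      rw [hc, hb]; exact Nat.ordProj_mul_ordCompl_eq_self (orderOf w) q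
    have hcopb : Nat.Coprime q b := by
      rw [hb]; exact Nat.coprime_ordCompl hq hn.ne'
    have hcop : Nat.Coprime b c := by
      rw [hc]; exact Nat.Coprime.pow_right _ hcopb.symm
    -- the q-part lies in Q hence centralizes Q
    have hw1N : w ^ b ∈ Subgroup.normalizer ((Q : Subgroup T) : Set T) := pow_mem hwN b
    have hw1p : IsPGroup q (Subgroup.zpowers (w ^ b)) := by
      intro g
      refine ⟨(orderOf w).factorization q, ?_⟩
      obtain ⟨z, hz⟩ := Subgroup.mem_zpowers_iff.mp g.2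
      apply Subtype.ext
      have h1 : (w ^ b) ^ q ^ (orderOf w).factorization q = 1 := by
        rw [← pow_mul, ← hc, mul_comm, hcb, pow_orderOf_eq_one]
      rw [Subgroup.coe_pow, Subgroup.coe_one, ← hz, ← zpow_natCast, ← zpow_mul, mul_comm, zpow_mul,
        zpow_natCast, h1, one_zpow]
    have hw1Q : w ^ b ∈ (Q : Subgroup T) := by
      have h1 := hw1p.inf_normalizer_sylow Q
      have h2 : w ^ b ∈ Subgroup.zpowers (w ^ b) ⊓ Subgroup.normalizer ((Q : Subgroup T) : Set T) :=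
        ⟨Subgroup.mem_zpowers _, hw1N⟩
      exact (le_of_eq h1 h2).2
    have hQcomm : ∀ x ∈ (Q : Subgroup T), ∀ y ∈ (Q : Subgroup T), x * y = y * x := by
      intro x hx y hy
      rw [hQ] at hx hy
      exact hPbc x hx y hy
    have hw1C : w ^ b ∈ Subgroup.centralizer ((Q : Subgroup T) : Set T) := by
      rw [Subgroup.mem_centralizer_iff]
      intro x hx
      exact hQcomm x hx _ hw1Q
    have hw2N : w ^ c ∈ Subgroup.normalizer ((Q : Subgroup T) : Set T) := pow_mem hwN c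
    have hw2C : w ^ c ∉ Subgroup.centralizer ((Q : Subgroup T) : Set T) := by
      intro h
      apply hwC
      obtain ⟨x, y, hxy⟩ := nz_bezout_pow w b c hcop
      rw [hxy]
      exact mul_mem (zpow_mem hw1C x) (zpow_mem h y)
    have hw2ord : (orderOf (w ^ c)).Coprime q := by
      have h1 : (w ^ c) ^ b = 1 := by rw [← pow_mul, hcb, pow_orderOf_eq_one]
      exact Nat.Coprime.coprime_dvd_left (orderOf_dvd_of_pow_eq_one h1) hcopb.symm
    have hw21 : w ^ c ≠ 1 := by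
      intro h
      apply hw2C
      rw [h]; exact one_mem _
    have hH1 : Subgroup.zpowers (w ^ c) ≠ ⊥ := Subgroup.zpowers_ne_bot.mpr hw21
    have hHQ : Subgroup.zpowers (w ^ c) ≤ Subgroup.normalizer ((Q : Subgroup T) : Set T) := by
      rw [Subgroup.zpowers_le]; exact hw2N
    have hQ1 : (Q : Subgroup T) ≠ ⊥ := by rw [hQ]; exact hPb1
    have hfrob : ∀ h ∈ Subgroup.zpowers (w ^ c), h ≠ 1 → ∀ k ∈ (Q : Subgroup T),
        h * k = k * h → k = 1 := by
      intro h hh hh1 k hk hcomm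
      by_contra hk1
      have hkq : ∃ j : ℕ, k ^ q ^ j = 1 := hPbpow k (by rw [← hQ]; exact hk)
      have hK1 : Subgroup.zpowers h ≠ ⊥ := Subgroup.zpowers_ne_bot.mpr hh1
      have hKq : (Nat.card (Subgroup.zpowers h)).Coprime q := by
        rw [Nat.card_zpowers]
        exact Nat.Coprime.coprime_dvd_left (orderOf_dvd_of_mem_zpowers hh) hw2ord
      have hkK : k ∈ Subgroup.normalizer ((Subgroup.zpowers h : Subgroup T) : Set T) := by
        apply Subgroup.centralizer_le_normalizer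
        rw [Subgroup.mem_centralizer_iff]
        intro x hx
        obtain ⟨z, rfl⟩ := Subgroup.mem_zpowers_iff.mp hx
        have hc1 : Commute h k := hcomm
        exact (hc1.zpow_left z).eq
      exact nz_lemS ρ Z0 hfree hfix q aq haq haqq k hk1 hkq (Subgroup.zpowers h) hK1 hKq hkK
    have hfin := nz_lemFA ρ Z0 hfree (Q : Subgroup T) (Subgroup.zpowers (w ^ c)) hQ1 hH1 hHQ hfrob ar
    obtain ⟨n, hn'⟩ := IsPGroup.iff_card.mp Q.2
    rw [hn'] at hfin
    obtain ⟨i, hi⟩ := harr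
    have hcop2 : Nat.Coprime (q ^ n) (r ^ i) :=
      Nat.Coprime.pow _ _ ((Nat.coprime_primes hq hr).mpr hqr)
    obtain ⟨x, y, hxy⟩ := nz_bezout_pow ar (q ^ n) (r ^ i) hcop2
    rw [hi, one_zpow, mul_one] at hxy
    apply har
    rw [hxy]
    exact zpow_mem hfin x

end NZa

end Cfsg.Agent.Helper27
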