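import Mathlib
import Cfsg.Agent.Lead.NilBound

set_option autoImplicit false

namespace Cfsg.Agent.Helper27

open Cfsg.Agent

/-- Legendre: `(p - 1) * v_p(q!) ≤ q - 1`. -/
theorem nilp_E_bound (p : ℕ) (hp : p.Prime) (q : ℕ) (hq : q ≠ 0) :
    (p - 1) * (q.factorial.factorization p) ≤ q - 1 := by
  haveI : Fact p.Prime := ⟨hp⟩
  rw [Nat.factorization_def _ hp]
  have := sub_one_mul_padicValNat_factorial_lt_of_ne_zero p hq
  omega

/-- Legendre for `p = 2`: `v_2(q!) = q - s_2(q)`. -/
theorem nilp_V_eq (q : ℕ) : q.factorial.factorization 2 = q - (Nat.digits 2 q).sum := by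
  haveI : Fact (Nat.Prime 2) := ⟨Nat.prime_two⟩
  rw [Nat.factorization_def _ Nat.prime_two]
  have := sub_one_mul_padicValNat_factorial (p := 2) q
  simpa using this

theorem nilp_V_bound (q : ℕ) (hq : q ≠ 0) :
    2 ^ (q - 1) ≤ 2 ^ (q.factorial.factorization 2) * q := by
  rw [nilp_V_eq]
  have hlen : (Nat.digits 2 q).length = Nat.log 2 q + 1 := Nat.length_digits 2 q (by norm_num) hq
  have hsum : (Nat.digits 2 q).sum ≤ Nat.log 2 q + 1 := by
    have h1 := List.sum_le_card_nsmul (Nat.digits 2 q) 1 (fun x hx => by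
      have := Nat.digits_lt_base (by norm_num : 1 < 2) hx
      omega)
    rw [hlen] at h1
    simpa using h1
  have hle : (Nat.digits 2 q).sum ≤ q := Nat.digit_sum_le 2 q
  have hpow : 2 ^ Nat.log 2 q ≤ q := Nat.pow_log_le_self 2 hq
  calc 2 ^ (q - 1) ≤ 2 ^ ((q - (Nat.digits 2 q).sum) + Nat.log 2 q) :=
        Nat.pow_le_pow_right (by norm_num) (by omega)
    _ = 2 ^ (q - (Nat.digits 2 q).sum) * 2 ^ Nat.log 2 q := pow_add _ _ _
    _ ≤ 2 ^ (q - (Nat.digits 2 q).sum) * q := Nat.mul_le_mul_left _ hpow

theorem nilp_V_mono (a b : ℕ) (h : a ≤ b) :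
    a.factorial.factorization 2 ≤ b.factorial.factorization 2 :=
  (Nat.factorization_le_iff_dvd a.factorial_ne_zero b.factorial_ne_zero).mpr
    (Nat.factorial_dvd_factorial h) 2

theorem nilp_V_add (a b : ℕ) :
    a.factorial.factorization 2 + b.factorial.factorization 2 ≤
      (a + b).factorial.factorization 2 := by
  have hd := Nat.factorial_mul_factorial_dvd_factorial_add a b
  have h1 := (Nat.factorization_le_iff_dvd
    (Nat.mul_ne_zero a.factorial_ne_zero b.factorial_ne_zero)
    (a + b).factorial_ne_zero).mpr hd 2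
  rw [Nat.factorization_mul a.factorial_ne_zero b.factorial_ne_zero] at h1
  simpa using h1

theorem nilp_sq_le (p : ℕ) (hp : 3 ≤ p) : p ^ 2 ≤ 3 ^ (p - 1) := by
  induction p, hp using Nat.le_induction with
  | base => norm_num
  | succ n hn ih =>
    have h3 : 3 ^ (n + 1 - 1) = 3 * 3 ^ (n - 1) := by
      rw [show n + 1 - 1 = (n - 1) + 1 by omega, pow_succ]; ring
    rw [h3]; nlinarith

theorem nilp_sq_le_two (p : ℕ) (hp : 7 ≤ p) : p ^ 2 ≤ 2 ^ (p - 1) := by
  induction p, hp using Nat.le_induction with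
  | base => norm_num
  | succ n hn ih =>
    have h3 : 2 ^ (n + 1 - 1) = 2 * 2 ^ (n - 1) := by
      rw [show n + 1 - 1 = (n - 1) + 1 by omega, pow_succ]; ring
    rw [h3]; nlinarith

theorem nilp_big (q : ℕ) (hq : 27 ≤ q) : 3 ^ (q - 1) * q ^ 2 ≤ 4 ^ (q - 1) := by
  induction q, hq using Nat.le_induction with
  | base => norm_num
  | succ n hn ih =>
    have h3 : 3 ^ (n + 1 - 1) = 3 * 3 ^ (n - 1) := by
      rw [show n + 1 - 1 = (n - 1) + 1 by omega, pow_succ]; ring
    have h4 : 4 ^ (n + 1 - 1) = 4 * 4 ^ (n - 1) := by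
      rw [show n + 1 - 1 = (n - 1) + 1 by omega, pow_succ]; ring
    rw [h3, h4]
    have h5 : 3 * (n + 1) ^ 2 ≤ 4 * n ^ 2 := by nlinarith
    calc 3 * 3 ^ (n - 1) * (n + 1) ^ 2 = 3 ^ (n - 1) * (3 * (n + 1) ^ 2) := by ring
      _ ≤ 3 ^ (n - 1) * (4 * n ^ 2) := Nat.mul_le_mul_left _ h5
      _ = 4 * (3 ^ (n - 1) * n ^ 2) := by ring
      _ ≤ 4 * 4 ^ (n - 1) := Nat.mul_le_mul_left _ ih

theorem nilp_V5 : (5 : ℕ).factorial.factorization 2 = 3 := by
  rw [nilp_V_eq]; norm_num

theorem nilp_V9 : (9 : ℕ).factorial.factorization 2 = 7 := by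
  rw [nilp_V_eq]; norm_num

theorem nilp_V4 : (4 : ℕ).factorial.factorization 2 = 3 := by
  rw [nilp_V_eq]; norm_num

/-- For an odd prime power `q = p ^ n ≠ 3`, the `p`-part of `q!` is at most its `2`-part. -/
theorem nilp_key (p : ℕ) (hp : p.Prime) (hp2 : p ≠ 2) (n : ℕ) (hn : n ≠ 0) (hq3 : p ^ n ≠ 3) :
    p ^ ((p ^ n).factorial.factorization p) ≤ 2 ^ ((p ^ n).factorial.factorization 2) := by
  have hp3 : 3 ≤ p := by have := hp.two_le; omega
  have hq0 : p ^ n ≠ 0 := pow_ne_zero _ hp.ne_zero
  have hE := nilp_E_bound p hp (p ^ n) hq0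
  have hV := nilp_V_bound (p ^ n) hq0
  have hqpos : 0 < p ^ n := Nat.pos_of_ne_zero hq0
  have hsuff : p ^ ((p ^ n).factorial.factorization p) * p ^ n ≤ 2 ^ (p ^ n - 1) →
      p ^ ((p ^ n).factorial.factorization p) ≤ 2 ^ ((p ^ n).factorial.factorization 2) :=
    fun h => Nat.le_of_mul_le_mul_right (h.trans hV) hqpos
  generalize hEdef : (p ^ n).factorial.factorization p = E at *
  by_cases hbig : 27 ≤ p ^ n
  · apply hsuff
    have h1 : (p ^ E) ^ 2 ≤ 3 ^ (p ^ n - 1) := by
      calc (p ^ E) ^ 2 = (p ^ 2) ^ E := by rw [← pow_mul, ← pow_mul, mul_comm]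
        _ ≤ (3 ^ (p - 1)) ^ E := Nat.pow_le_pow_left (nilp_sq_le p hp3) E
        _ = 3 ^ ((p - 1) * E) := by rw [← pow_mul]
        _ ≤ 3 ^ (p ^ n - 1) := Nat.pow_le_pow_right (by norm_num) hE
    have h2 : (p ^ E * p ^ n) ^ 2 ≤ (2 ^ (p ^ n - 1)) ^ 2 := by
      calc (p ^ E * p ^ n) ^ 2 = (p ^ E) ^ 2 * (p ^ n) ^ 2 := by ring
        _ ≤ 3 ^ (p ^ n - 1) * (p ^ n) ^ 2 := Nat.mul_le_mul_right _ h1
        _ ≤ 4 ^ (p ^ n - 1) := nilp_big (p ^ n) hbig
        _ = (2 ^ (p ^ n - 1)) ^ 2 := by
            rw [← pow_mul, mul_comm, pow_mul]; norm_num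
    exact (Nat.pow_le_pow_iff_left (by norm_num : (2 : ℕ) ≠ 0)).1 h2
  · push_neg at hbig
    have h4 : p ≠ 4 := by rintro rfl; norm_num at hp
    have h6 : p ≠ 6 := by rintro rfl; norm_num at hp
    rcases Nat.lt_or_ge n 2 with hn2 | hn2
    · -- n = 1
      have hn1 : n = 1 := by omega
      subst hn1
      rw [pow_one] at *
      have hE1 : E ≤ 1 := by
        have hp1 : 0 < p - 1 := by omega
        have : (p - 1) * E ≤ (p - 1) * 1 := by omega
        exact Nat.le_of_mul_le_mul_left this hp1
      have hpE : p ^ E ≤ p := by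
        calc p ^ E ≤ p ^ 1 := Nat.pow_le_pow_right (by omega) hE1
          _ = p := pow_one p
      by_cases h5 : p = 5
      · subst h5
        rw [nilp_V5]
        omega
      · have h7 : 7 ≤ p := by omega
        have hsq := nilp_sq_le_two p h7
        have : p * p ≤ 2 ^ (p.factorial.factorization 2) * p := by
          calc p * p = p ^ 2 := by ring
            _ ≤ 2 ^ (p - 1) := hsq
            _ ≤ _ := hV
        exact hpE.trans (Nat.le_of_mul_le_mul_right this hqpos)
    · -- n ≥ 2, p ^ n < 27
      have hpp : p ^ 2 ≤ p ^ n := Nat.pow_le_pow_right (by omega) hn2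
      have hp5 : p ≤ 5 := by nlinarith
      have hp35 : p = 3 ∨ p = 5 := by omega
      rcases hp35 with rfl | rfl
      · have hn3 : n < 3 := by
          by_contra h
          push_neg at h
          have : 3 ^ 3 ≤ 3 ^ n := Nat.pow_le_pow_right (by norm_num) h
          omega
        have hn2' : n = 2 := by omega
        subst hn2'
        have hE4 : E ≤ 4 := by norm_num at hE; omega
        have h9 : (3 : ℕ) ^ 2 = 9 := by norm_num
        rw [h9, nilp_V9]
        calc 3 ^ E ≤ 3 ^ 4 := Nat.pow_le_pow_right (by norm_num) hE4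
          _ ≤ 2 ^ 7 := by norm_num
      · have hn3 : n < 3 := by
          by_contra h
          push_neg at h
          have : 5 ^ 3 ≤ 5 ^ n := Nat.pow_le_pow_right (by norm_num) h
          omega
        have hn2' : n = 2 := by omega
        subst hn2'
        have hE6 : E ≤ 6 := by norm_num at hE; omega
        have h25 : (5 : ℕ) ^ 2 = 25 := by norm_num
        rw [h25] at hV ⊢
        have h56 : 5 ^ E ≤ 5 ^ 6 := Nat.pow_le_pow_right (by norm_num) hE6
        by_contra hcon
        push_neg at hcon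
        have : 2 ^ ((25 : ℕ).factorial.factorization 2) < 5 ^ 6 := lt_of_lt_of_le hcon h56
        norm_num at hV this
        omega

theorem nilp_mul (a b : ℕ) (hab : Nat.Coprime a b) :
    Lead.nilBound (a * b) = Lead.nilBound a * Lead.nilBound b := by
  unfold Lead.nilBound
  rw [Nat.Coprime.primeFactors_mul hab, Finset.prod_union hab.disjoint_primeFactors]
  congr 1
  · apply Finset.prod_congr rfl
    intro p hp
    rw [Nat.factorization_eq_of_coprime_left hab (List.mem_toFinset.mp hp)]
  · apply Finset.prod_congr rfl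
    intro p hp
    rw [Nat.factorization_eq_of_coprime_right hab (List.mem_toFinset.mp hp)]

theorem nilBound_three : Lead.nilBound 3 = 3 := by
  unfold Lead.nilBound
  rw [Nat.Prime.primeFactors Nat.prime_three, Finset.prod_singleton,
    Nat.Prime.factorization_self Nat.prime_three, pow_one]
  have h1 := nilp_E_bound 3 Nat.prime_three 3 (by norm_num)
  have h2 : 0 < (3 : ℕ).factorial.factorization 3 :=
    Nat.Prime.factorization_pos_of_dvd Nat.prime_three (Nat.factorial_ne_zero 3)
      (Nat.dvd_factorial (by norm_num) (le_refl 3))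
  have h3 : (3 : ℕ).factorial.factorization 3 = 1 := by omega
  rw [h3, pow_one]

theorem nilp_L1 (m : ℕ) : m.factorization 3 ≠ 1 →
    Lead.nilBound m ≤ 2 ^ (m.factorial.factorization 2) := by
  induction m using Nat.recOnPrimeCoprime with
  | zero =>
    intro _
    have : Lead.nilBound 0 = 1 := by simp [Lead.nilBound]
    rw [this]
    exact Nat.one_le_two_pow
  | prime_pow p n hp =>
    intro h
    by_cases hn : n = 0
    · subst hn
      have : Lead.nilBound (p ^ 0) = 1 := by simp [Lead.nilBound]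
      rw [this]
      exact Nat.one_le_two_pow
    · have hnb : Lead.nilBound (p ^ n) = p ^ ((p ^ n).factorial.factorization p) := by
        unfold Lead.nilBound
        rw [Nat.primeFactors_prime_pow hn hp, Finset.prod_singleton,
          Nat.factorization_pow_self hp]
      rw [hnb]
      by_cases hp2 : p = 2
      · subst hp2; exact le_refl _
      · apply nilp_key p hp hp2 n hn
        intro h3
        apply h
        rw [h3]
        exact Nat.Prime.factorization_self Nat.prime_three
  | coprime a b ha hb hab iha ihb =>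
    intro h
    have hsum : (a * b).factorization 3 = a.factorization 3 + b.factorization 3 := by
      rw [Nat.factorization_mul (by omega) (by omega)]; rfl
    have hz : a.factorization 3 = 0 ∨ b.factorization 3 = 0 := by
      by_cases h3a : 3 ∣ a
      · right
        apply Nat.factorization_eq_zero_of_not_dvd
        intro h3b
        have := Nat.dvd_gcd h3a h3b
        rw [hab] at this
        omega
      · left; exact Nat.factorization_eq_zero_of_not_dvd h3a
    have ha3 : a.factorization 3 ≠ 1 := by rcases hz with hz | hz <;> omega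
    have hb3 : b.factorization 3 ≠ 1 := by rcases hz with hz | hz <;> omega
    rw [nilp_mul a b hab]
    have hab' : a + b ≤ a * b := by nlinarith
    calc Lead.nilBound a * Lead.nilBound b
        ≤ 2 ^ (a.factorial.factorization 2) * 2 ^ (b.factorial.factorization 2) :=
          Nat.mul_le_mul (iha ha3) (ihb hb3)
      _ = 2 ^ (a.factorial.factorization 2 + b.factorial.factorization 2) := (pow_add _ _ _).symm
      _ ≤ 2 ^ ((a + b).factorial.factorization 2) :=
          Nat.pow_le_pow_right (by norm_num) (nilp_V_add a b)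
      _ ≤ 2 ^ ((a * b).factorial.factorization 2) :=
          Nat.pow_le_pow_right (by norm_num) (nilp_V_mono _ _ hab')

theorem nilBound_le (m : ℕ) (hm : 0 < m) (h3 : m ≠ 3) :
    Lead.nilBound m ≤ 2 ^ (m.factorial.factorization 2) := by
  by_cases h : m.factorization 3 = 1
  · have h3m : 3 ∣ m := by
      by_contra hnd
      rw [Nat.factorization_eq_zero_of_not_dvd hnd] at h
      omega
    obtain ⟨u, rfl⟩ := h3m
    have hu0 : u ≠ 0 := by rintro rfl; omega
    have hu1 : u ≠ 1 := by rintro rfl; omega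
    have hu2 : 2 ≤ u := by omega
    have hfu : u.factorization 3 = 0 := by
      have hsum : (3 * u).factorization 3 = (3 : ℕ).factorization 3 + u.factorization 3 := by
        rw [Nat.factorization_mul (by norm_num) hu0]; rfl
      rw [Nat.Prime.factorization_self Nat.prime_three] at hsum
      omega
    have h3u : ¬ 3 ∣ u := by
      intro hd
      have := Nat.Prime.factorization_pos_of_dvd Nat.prime_three hu0 hd
      omega
    have hcop : Nat.Coprime 3 u := (Nat.Prime.coprime_iff_not_dvd Nat.prime_three).2 h3u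
    rw [nilp_mul 3 u hcop, nilBound_three]
    have hu := nilp_L1 u (by omega)
    have h4u : 4 + u ≤ 3 * u := by omega
    calc 3 * Lead.nilBound u ≤ 2 ^ 3 * 2 ^ (u.factorial.factorization 2) :=
          Nat.mul_le_mul (by norm_num) hu
      _ = 2 ^ ((4 : ℕ).factorial.factorization 2 + u.factorial.factorization 2) := by
          rw [nilp_V4, pow_add]
      _ ≤ 2 ^ ((4 + u).factorial.factorization 2) :=
          Nat.pow_le_pow_right (by norm_num) (nilp_V_add 4 u)
      _ ≤ 2 ^ ((3 * u).factorial.factorization 2) :=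
          Nat.pow_le_pow_right (by norm_num) (nilp_V_mono _ _ h4u)
  · exact nilp_L1 m h

end Cfsg.Agent.Helper27
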