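import Cfsg.Agent.Helper27.NormalSub
import Cfsg.Agent.Helper26.FusionFactor
import Cfsg.Agent.Helper26.GroupQuot

set_option autoImplicit false

namespace Cfsg.Agent.Helper27

open Cfsg Cfsg.FusionSystem Cfsg.Agent.Helper26

section GroupSide

variable {G : Type*} [Group G]

/-- An element of `N` normalizing `T = S ∩ N` can be adjusted by an element of `C_N(T)` so as to
normalize `C_S(T)` as well. -/
theorem exists_adjust_normalizer [Finite G] (p : ℕ) [Fact p.Prime] (S : Sylow p G)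
    (N : Subgroup G) [hN : N.Normal] (T : Subgroup G) (hT : T = (S : Subgroup G) ⊓ N)
    (n : G) (hnN : n ∈ N) (hnT : n ∈ Subgroup.normalizer (T : Set G)) :
    ∃ n' ∈ N, (∀ t ∈ T, n' * t * n'⁻¹ = n * t * n⁻¹) ∧
      ∀ c ∈ centralizerIn (S : Subgroup G) T,
        n' * c * n'⁻¹ ∈ centralizerIn (S : Subgroup G) T := by
  have hsylC := centralizer_sylowIn p S N T hT
  obtain ⟨C, hC⟩ : ∃ C : Subgroup G, C = centralizerIn (S : Subgroup G) T := ⟨_, rfl⟩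
  rw [← hC] at hsylC ⊢
  have hCS : C ≤ S := by rw [hC]; exact inf_le_left
  have hCc : C ≤ Subgroup.centralizer (T : Set G) := by rw [hC]; exact inf_le_right
  have hCp : IsPGroup p C := S.2.to_le hCS
  have hCfin : Finite C := inferInstance
  have hcent : ∀ c ∈ Subgroup.centralizer (T : Set G), n * c * n⁻¹ ∈
      Subgroup.centralizer (T : Set G) := by
    intro c hc
    rw [Subgroup.mem_centralizer_iff]
    intro t ht
    have ht' : n⁻¹ * t * n ∈ T := (Subgroup.mem_normalizer_iff''.1 hnT t).1 ht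
    have hcomm : (n⁻¹ * t * n) * c = c * (n⁻¹ * t * n) :=
      (Subgroup.mem_centralizer_iff.1 hc) _ ht'
    calc t * (n * c * n⁻¹) = n * ((n⁻¹ * t * n) * c) * n⁻¹ := by group
      _ = n * (c * (n⁻¹ * t * n)) * n⁻¹ := by rw [hcomm]
      _ = n * c * n⁻¹ * t := by group
  have hle : C.map (MulAut.conj n).toMonoidHom ≤
      N ⊓ Subgroup.centralizer (T : Set G) ⊔ C := by
    rintro _ ⟨c, hc, rfl⟩
    show n * c * n⁻¹ ∈ _
    have e : n * c * n⁻¹ = (n * c * n⁻¹ * c⁻¹) * c := by group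
    rw [e]
    refine Subgroup.mul_mem_sup ⟨?_, ?_⟩ hc
    · have h1 : c * n⁻¹ * c⁻¹ ∈ N := hN.conj_mem _ (N.inv_mem hnN) c
      have e2 : n * c * n⁻¹ * c⁻¹ = n * (c * n⁻¹ * c⁻¹) := by group
      rw [e2]; exact N.mul_mem hnN h1
    · exact Subgroup.mul_mem _ (hcent c (hCc hc)) (Subgroup.inv_mem _ (hCc hc))
  obtain ⟨y, hy, hyC⟩ := exists_conj_le_of_sylowIn hsylC (isPGroup_map_conj hCp n) hle
  have hCnorm : C ≤ Subgroup.normalizer
      ((N ⊓ Subgroup.centralizer (T : Set G) : Subgroup G) : Set G) := by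
    intro c hc
    apply mem_normalizer_of_conj_mem_finite
    rintro x ⟨hxN, hxc⟩
    refine ⟨hN.conj_mem x hxN c, ?_⟩
    exact Subgroup.mul_mem _ (Subgroup.mul_mem _ (hCc hc) hxc) (Subgroup.inv_mem _ (hCc hc))
  rw [sup_comm] at hy
  obtain ⟨c₀, hc₀, x₀, hx₀, rfl⟩ := mem_sup_of_le_normalizer hCnorm hy
  obtain ⟨hx₀N, hx₀c⟩ := hx₀
  refine ⟨x₀ * n, N.mul_mem hx₀N hnN, ?_, ?_⟩
  · intro t ht
    have h1 : n * t * n⁻¹ ∈ T := (Subgroup.mem_normalizer_iff.1 hnT t).1 ht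
    have h2 : (n * t * n⁻¹) * x₀ = x₀ * (n * t * n⁻¹) :=
      (Subgroup.mem_centralizer_iff.1 hx₀c) _ h1
    calc (x₀ * n) * t * (x₀ * n)⁻¹ = (x₀ * (n * t * n⁻¹)) * x₀⁻¹ := by group
      _ = ((n * t * n⁻¹) * x₀) * x₀⁻¹ := by rw [h2]
      _ = n * t * n⁻¹ := by group
  · intro c hc
    have h1 : (c₀ * x₀) * (n * c * n⁻¹) * (c₀ * x₀)⁻¹ ∈ C := hyC ⟨_, ⟨c, hc, rfl⟩, rfl⟩
    have e : (x₀ * n) * c * (x₀ * n)⁻¹ =
        c₀⁻¹ * ((c₀ * x₀) * (n * c * n⁻¹) * (c₀ * x₀)⁻¹) * c₀ := by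
      group
    rw [e]
    exact C.mul_mem (C.mul_mem (C.inv_mem hc₀) h1) hc₀

end GroupSide

variable {Ω : Type*} [Group Ω] {S : Subgroup Ω} {G : Type*} [Group G]

/-- `ι` extended by `1` outside `S`. -/
noncomputable def ext1 (ι : S →* G) (x : Ω) : G :=
  open Classical in if h : x ∈ S then ι ⟨x, h⟩ else 1

theorem ext1_of_mem (ι : S →* G) {x : Ω} (h : x ∈ S) : ext1 ι x = ι ⟨x, h⟩ := dif_pos h

theorem ext1_mul (ι : S →* G) {x y : Ω} (hx : x ∈ S) (hy : y ∈ S) :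
    ext1 ι (x * y) = ext1 ι x * ext1 ι y := by
  rw [ext1_of_mem ι hx, ext1_of_mem ι hy, ext1_of_mem ι (S.mul_mem hx hy), ← map_mul]
  rfl

theorem ext1_inv (ι : S →* G) {x : Ω} (hx : x ∈ S) : ext1 ι x⁻¹ = (ext1 ι x)⁻¹ := by
  rw [ext1_of_mem ι hx, ext1_of_mem ι (S.inv_mem hx), ← map_inv]
  rfl

theorem ext1_conj (ι : S →* G) {g x : Ω} (hg : g ∈ S) (hx : x ∈ S) :
    ext1 ι (g * x * g⁻¹) = ext1 ι g * ext1 ι x * (ext1 ι g)⁻¹ := by
  rw [ext1_mul ι (S.mul_mem hg hx) (S.inv_mem hg), ext1_mul ι hg hx, ext1_inv ι hg]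

theorem ext1_inj (ι : S →* G) (hι : Function.Injective ι) {x y : Ω} (hx : x ∈ S) (hy : y ∈ S)
    (h : ext1 ι x = ext1 ι y) : x = y := by
  rw [ext1_of_mem ι hx, ext1_of_mem ι hy] at h
  exact congrArg Subtype.val (hι h)

theorem ext1_mem_range (ι : S →* G) {x : Ω} (hx : x ∈ S) : ext1 ι x ∈ ι.range := by
  rw [ext1_of_mem ι hx]; exact ⟨_, rfl⟩

theorem exists_ext1_eq (ι : S →* G) {y : G} (hy : y ∈ ι.range) : ∃ x ∈ S, ext1 ι x = y := by
  obtain ⟨s, rfl⟩ := hy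
  exact ⟨s, s.2, ext1_of_mem ι s.2⟩

theorem realized_iff (F : FusionSystem S) (ι : S →* G) (hι : F.IsRealizedBy ι) {P : Subgroup Ω}
    (hP : P ≤ S) (φ : P →* Ω) (hφ : ∀ x : P, φ x ∈ S) :
    φ ∈ F.Hom P ↔ ∃ g : G, ∀ x : P, ext1 ι (φ x) = g * ext1 ι (x : Ω) * g⁻¹ := by
  rw [hι.2 P hP φ hφ]
  constructor
  · rintro ⟨g, hg⟩
    refine ⟨g, fun x => ?_⟩
    rw [ext1_of_mem ι (hφ x), ext1_of_mem ι (hP x.2)]; exact hg x
  · rintro ⟨g, hg⟩
    refine ⟨g, fun x => ?_⟩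
    have := hg x
    rw [ext1_of_mem ι (hφ x), ext1_of_mem ι (hP x.2)] at this; exact this

theorem mem_pre (ι : S →* G) (N : Subgroup G) {x : Ω} :
    x ∈ preimageAlong ι N ↔ x ∈ S ∧ ext1 ι x ∈ N := by
  rw [mem_preimageAlong]
  constructor
  · rintro ⟨hx, h⟩
    exact ⟨hx, by rw [ext1_of_mem ι hx]; exact h⟩
  · rintro ⟨hx, h⟩
    exact ⟨hx, by rw [ext1_of_mem ι hx] at h; exact h⟩

/-- The automorphism of `U ≤ S` induced, through `ι`, by an element of `G` normalizing `ι(U)`. -/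
theorem exists_aut_of_conj (ι : S →* G) (hι : Function.Injective ι) {U : Subgroup Ω}
    (hU : U ≤ S) [Finite U] (m : G)
    (hm : ∀ u ∈ U, ∃ v ∈ U, ext1 ι v = m * ext1 ι u * m⁻¹) :
    ∃ α : MulAut U, ∀ u : U, ext1 ι ((α u : U) : Ω) = m * ext1 ι (u : Ω) * m⁻¹ := by
  choose f hfU hf using hm
  let φ : U →* U := MonoidHom.mk' (fun u => ⟨f u u.2, hfU u u.2⟩) (by
    intro a b
    apply Subtype.ext
    apply ext1_inj ι hι (hU (hfU _ _)) (S.mul_mem (hU (hfU _ _)) (hU (hfU _ _)))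
    show ext1 ι (f ((a : Ω) * (b : Ω)) _) = ext1 ι (f a a.2 * f b b.2)
    rw [hf, ext1_mul ι (hU (hfU _ _)) (hU (hfU _ _)), hf, hf,
      ext1_mul ι (hU a.2) (hU b.2)]
    group)
  have hinj : Function.Injective φ := by
    intro a b hab
    have h1 : f a a.2 = f b b.2 := congrArg Subtype.val hab
    have h2 : m * ext1 ι (a : Ω) * m⁻¹ = m * ext1 ι (b : Ω) * m⁻¹ := by
      rw [← hf a a.2, ← hf b b.2, h1]
    exact Subtype.ext (ext1_inj ι hι (hU a.2) (hU b.2) (mul_left_cancel (mul_right_cancel h2)))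
  have hbij : Function.Bijective φ := Finite.injective_iff_bijective.1 hinj
  exact ⟨MulEquiv.ofBijective φ hbij, fun u => hf u u.2⟩

/-- The subsystem of `F` (realized by `ι`) induced by a normal subgroup `N` of `G`. -/
def normSys (F : FusionSystem S) (ι : S →* G) (hι : F.IsRealizedBy ι) (N : Subgroup G)
    [hN : N.Normal] : FusionSystem (preimageAlong ι N) where
  Hom P := {φ | P ≤ preimageAlong ι N ∧ (∀ x : P, φ x ∈ preimageAlong ι N) ∧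
    ∃ n ∈ N, ∀ x : P, ext1 ι (φ x) = n * ext1 ι (x : Ω) * n⁻¹}
  le_of_mem h := ⟨h.1, h.2.1⟩
  injective_of_mem := by
    rintro P φ ⟨hP, hv, n, hn, h⟩ a b hab
    have hTS := preimageAlong_le ι N
    have h2 : n * ext1 ι (a : Ω) * n⁻¹ = n * ext1 ι (b : Ω) * n⁻¹ := by
      rw [← h a, ← h b, hab]
    exact Subtype.ext (ext1_inj ι hι.1 (hTS (hP a.2)) (hTS (hP b.2))
      (mul_left_cancel (mul_right_cancel h2)))
  conj_mem := by
    intro P g hP hg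
    have hTS := preimageAlong_le ι N
    refine ⟨hP, fun x => ?_, ext1 ι g, ((mem_pre ι N).1 hg).2, fun x => ?_⟩
    · exact Subgroup.mul_mem _ (Subgroup.mul_mem _ hg (hP x.2)) (Subgroup.inv_mem _ hg)
    · exact ext1_conj ι (hTS hg) (hTS (hP x.2))
  comp_mem := by
    rintro P Q φ ψ ⟨hP, hv, n, hn, h⟩ ⟨hQ', hv', n', hn', h'⟩ hQ
    refine ⟨hP, fun x => hv' _, n' * n, N.mul_mem hn' hn, fun x => ?_⟩
    show ext1 ι (ψ ⟨φ x, hQ x⟩) = _
    rw [h' ⟨φ x, hQ x⟩]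
    show n' * ext1 ι (φ x) * n'⁻¹ = _
    rw [h x]; group
  inv_mem := by
    rintro P φ ⟨hP, hv, n, hn, h⟩
    have hTS := preimageAlong_le ι N
    have hφF : φ ∈ F.Hom P :=
      (realized_iff F ι hι (hP.trans hTS) φ (fun x => hTS (hv x))).2 ⟨n, h⟩
    obtain ⟨ψ, hψ, hinv⟩ := F.inv_mem hφF
    refine ⟨ψ, ⟨?_, ?_, n⁻¹, N.inv_mem hn, ?_⟩, hinv⟩
    · rintro _ ⟨x, rfl⟩; exact hv x
    · rintro ⟨_, x, rfl⟩; rw [hinv x]; exact hP x.2
    · rintro ⟨_, x, rfl⟩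
      rw [hinv x]
      show ext1 ι (x : Ω) = n⁻¹ * ext1 ι (φ x) * n⁻¹⁻¹
      rw [h x]; group

/-- Transport of a map `φ : P → T` by an automorphism `α` of `T`. -/
theorem exists_conj_hom {T : Subgroup Ω} (α : MulAut T) {P : Subgroup Ω} (hPT : P ≤ T)
    (φ : P →* Ω) (hφT : ∀ x, φ x ∈ T) :
    ∃ χ : ↥((P.subgroupOf T).map (T.subtype.comp α.toMonoidHom)) →* Ω,
      ∀ (x : P) (hαx : ((α ⟨x, hPT x.2⟩ : T) : Ω) ∈
        (P.subgroupOf T).map (T.subtype.comp α.toMonoidHom)),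
        χ ⟨(α ⟨x, hPT x.2⟩ : T), hαx⟩ = ((α ⟨φ x, hφT x⟩ : T) : Ω) := by
  have hαPT : (P.subgroupOf T).map (T.subtype.comp α.toMonoidHom) ≤ T := by
    rintro _ ⟨t, -, rfl⟩
    exact (α t).2
  have hmem : ∀ y : ↥((P.subgroupOf T).map (T.subtype.comp α.toMonoidHom)),
      ((T.subtype.comp (α⁻¹).toMonoidHom).comp (Subgroup.inclusion hαPT)) y ∈ P := by
    rintro ⟨_, t, ht, rfl⟩
    have e : Subgroup.inclusion hαPT ⟨(T.subtype.comp α.toMonoidHom) t, ⟨t, ht, rfl⟩⟩ = α t :=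
      Subtype.ext rfl
    show ((α⁻¹ (Subgroup.inclusion hαPT ⟨_, _⟩) : T) : Ω) ∈ P
    rw [e, MulAut.inv_apply_self]
    exact Subgroup.mem_subgroupOf.1 ht
  let ρ : ↥((P.subgroupOf T).map (T.subtype.comp α.toMonoidHom)) →* P :=
    ((T.subtype.comp (α⁻¹).toMonoidHom).comp (Subgroup.inclusion hαPT)).codRestrict P hmem
  refine ⟨(T.subtype.comp α.toMonoidHom).comp ((φ.codRestrict T hφT).comp ρ), fun x hαx => ?_⟩
  have hρ : ρ ⟨(α ⟨x, hPT x.2⟩ : T), hαx⟩ = x := by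
    apply Subtype.ext
    have e : Subgroup.inclusion hαPT ⟨((α ⟨x, hPT x.2⟩ : T) : Ω), hαx⟩ = α ⟨x, hPT x.2⟩ :=
      Subtype.ext rfl
    show ((α⁻¹ (Subgroup.inclusion hαPT ⟨_, _⟩) : T) : Ω) = x
    rw [e, MulAut.inv_apply_self]
  show ((α ⟨φ (ρ ⟨(α ⟨x, hPT x.2⟩ : T), hαx⟩), _⟩ : T) : Ω) = _
  congr 2
  exact Subtype.ext (by rw [hρ])

theorem normSys_normalIn [Finite G] (p : ℕ) [Fact p.Prime] (F : FusionSystem S)
    (hF : F.IsSaturated p) (ι : S →* G) (hι : F.IsRealizedBy ι) (Sy : Sylow p G)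
    (hSy : (Sy : Subgroup G) = ι.range) (N : Subgroup G) [hN : N.Normal] :
    (normSys F ι hι N).IsNormalIn F p := by
  have hSfin : Finite S := Finite.of_injective ι hι.1
  have hTS : preimageAlong ι N ≤ S := preimageAlong_le ι N
  have hTfin : Finite ↥(preimageAlong ι N) := finite_of_le hTS
  have hM1 : ∀ x ∈ preimageAlong ι N, ext1 ι x ∈ (Sy : Subgroup G) ⊓ N := fun x hx =>
    ⟨by rw [hSy]; exact ext1_mem_range ι (hTS hx), ((mem_pre ι N).1 hx).2⟩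
  have hM2 : ∀ y ∈ (Sy : Subgroup G) ⊓ N, ∃ x ∈ preimageAlong ι N, ext1 ι x = y := by
    rintro y ⟨hy1, hy2⟩
    rw [hSy] at hy1
    obtain ⟨x, hx, rfl⟩ := exists_ext1_eq ι hy1
    exact ⟨x, (mem_pre ι N).2 ⟨hx, hy2⟩, rfl⟩
  obtain ⟨R, hR⟩ := sylow_inf_normal Sy N
  have hEsat : (normSys F ι hι N).IsSaturated p := by
    let ιT : ↥(preimageAlong ι N) →* ↥N := (ι.comp (Subgroup.inclusion hTS)).codRestrict N
      (fun x => preimageAlong_map_mem ι N x)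
    refine model_saturated p _ ιT ⟨?_, ?_⟩ R ?_
    · intro a b hab
      have h1 : ι ⟨a, hTS a.2⟩ = ι ⟨b, hTS b.2⟩ := congrArg Subtype.val hab
      have h2 := hι.1 h1
      exact Subtype.ext (congrArg (fun z : S => (z : Ω)) h2)
    · intro P hP φ hφ
      constructor
      · rintro ⟨_, _, n, hn, h⟩
        refine ⟨⟨n, hn⟩, fun x => Subtype.ext ?_⟩
        have := h x
        rw [ext1_of_mem ι (hTS (hφ x)), ext1_of_mem ι (hTS (hP x.2))] at this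
        exact this
      · rintro ⟨g, h⟩
        refine ⟨hP, hφ, g, g.2, fun x => ?_⟩
        rw [ext1_of_mem ι (hTS (hφ x)), ext1_of_mem ι (hTS (hP x.2))]
        exact congrArg Subtype.val (h x)
    · rw [hR]
      ext y
      rw [Subgroup.mem_subgroupOf, hSy]
      constructor
      · rintro ⟨s, hs⟩
        refine ⟨⟨s, mem_preimageAlong.2 ⟨s.2, ?_⟩⟩, Subtype.ext hs⟩
        have e : ι ⟨(s : Ω), s.2⟩ = (y : G) := hs
        rw [e]; exact y.2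
      · rintro ⟨t, rfl⟩
        exact ⟨⟨t, hTS t.2⟩, rfl⟩
  have hRmap : (R : Subgroup N).map N.subtype = (Sy : Subgroup G) ⊓ N := by
    rw [hR, Subgroup.subgroupOf_map_subtype]
  have hFrat : Subgroup.normalizer ((((Sy : Subgroup G) ⊓ N : Subgroup G)) : Set G) ⊔ N = ⊤ := by
    rw [← hRmap]; exact Sylow.normalizer_sup_eq_top R
  have hsc : F.StronglyClosed (preimageAlong ι N) := by
    refine ⟨hTS, fun R' hR' φ hφ x => ?_⟩
    obtain ⟨hR'S, hφS⟩ := F.le_of_mem hφ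
    obtain ⟨g, hg⟩ := (realized_iff F ι hι hR'S φ hφS).1 hφ
    refine (mem_pre ι N).2 ⟨hφS x, ?_⟩
    rw [hg x]
    exact hN.conj_mem _ ((mem_pre ι N).1 (hR' x.2)).2 g
  refine ⟨⟨hEsat, hF, ?_, hsc, ?_, ?_⟩, ?_⟩
  · -- subsystem
    rintro P φ ⟨hP, hv, n, hn, h⟩
    exact (realized_iff F ι hι (hP.trans hTS) φ (fun x => hTS (hv x))).2 ⟨n, h⟩
  · -- invariance
    intro P hPT φ hφ α hα
    obtain ⟨_, hφT, n, hnN, hn⟩ := hφ
    obtain ⟨g, hg⟩ := (realized_iff F ι hι hTS _ (fun t => hTS (α t).2)).1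
      ((mem_autGroup_iff F hTS).1 hα)
    have hg' : ∀ t : ↥(preimageAlong ι N),
        ext1 ι ((α t : ↥(preimageAlong ι N)) : Ω) = g * ext1 ι (t : Ω) * g⁻¹ := hg
    obtain ⟨χ, hχ⟩ := exists_conj_hom α hPT φ hφT
    refine ⟨χ, ⟨?_, ?_, g * n * g⁻¹, hN.conj_mem n hnN g, ?_⟩, fun x hφx hαx => hχ x hαx⟩
    · rintro _ ⟨t, -, rfl⟩
      exact (α t).2
    · rintro ⟨_, t, ht, rfl⟩
      have h1 : χ ⟨((preimageAlong ι N).subtype.comp (MulEquiv.toMonoidHom α)) t, ⟨t, ht, rfl⟩⟩ =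
          ((α ⟨φ ⟨t, Subgroup.mem_subgroupOf.1 ht⟩, hφT _⟩ : ↥(preimageAlong ι N)) : Ω) :=
        hχ ⟨t, Subgroup.mem_subgroupOf.1 ht⟩ ⟨t, ht, rfl⟩
      rw [h1]; exact (α _).2
    · rintro ⟨_, t, ht, rfl⟩
      have h1 : χ ⟨((preimageAlong ι N).subtype.comp (MulEquiv.toMonoidHom α)) t, ⟨t, ht, rfl⟩⟩ =
          ((α ⟨φ ⟨t, Subgroup.mem_subgroupOf.1 ht⟩, hφT _⟩ : ↥(preimageAlong ι N)) : Ω) :=
        hχ ⟨t, Subgroup.mem_subgroupOf.1 ht⟩ ⟨t, ht, rfl⟩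
      rw [h1, hg']
      show g * ext1 ι (φ ⟨t, _⟩) * g⁻¹ = g * n * g⁻¹ * ext1 ι ((α t : ↥(preimageAlong ι N)) : Ω) *
        (g * n * g⁻¹)⁻¹
      rw [hn ⟨t, Subgroup.mem_subgroupOf.1 ht⟩, hg' t]
      group
  · -- Frattini
    intro P hPT φ hφ
    obtain ⟨hPS, hφS⟩ := F.le_of_mem hφ
    obtain ⟨g, hg⟩ := (realized_iff F ι hι hPS φ hφS).1 hφ
    have hgmem : g ∈ Subgroup.normalizer ((((Sy : Subgroup G) ⊓ N : Subgroup G)) : Set G) ⊔ N := by
      rw [hFrat]; exact Subgroup.mem_top g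
    have hnorm : Subgroup.normalizer ((((Sy : Subgroup G) ⊓ N : Subgroup G)) : Set G) ≤
        Subgroup.normalizer (N : Set G) := by
      have hNtop : Subgroup.normalizer (N : Set G) = ⊤ := Subgroup.normalizer_eq_top N
      rw [hNtop]; exact le_top
    obtain ⟨m, hm, n, hnN, rfl⟩ := mem_sup_of_le_normalizer hnorm hgmem
    obtain ⟨α, hα⟩ := exists_aut_of_conj ι hι.1 hTS m (fun u hu => by
      obtain ⟨v, hv, e⟩ := hM2 _ ((Subgroup.mem_normalizer_iff.1 hm _).1 (hM1 u hu))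
      exact ⟨v, hv, e⟩)
    have hαF : α ∈ F.autGroup (preimageAlong ι N) := by
      rw [mem_autGroup_iff F hTS]
      exact (realized_iff F ι hι hTS _ (fun t => hTS (α t).2)).2 ⟨m, fun t => hα t⟩
    have hφT : ∀ x : P, φ x ∈ preimageAlong ι N := fun x => hsc.2 P hPT φ hφ x
    have hαinv : ∀ t : ↥(preimageAlong ι N),
        ext1 ι ((α⁻¹ t : ↥(preimageAlong ι N)) : Ω) = m⁻¹ * ext1 ι (t : Ω) * m := by
      intro t
      have h1 := hα (α⁻¹ t)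
      rw [MulAut.apply_inv_self] at h1
      rw [h1]; group
    refine ⟨α, hαF, ((preimageAlong ι N).subtype.comp (α⁻¹).toMonoidHom).comp
      (φ.codRestrict _ hφT), ⟨hPT, fun x => (α⁻¹ _).2, n, hnN, fun x => ?_⟩, fun x hx => ?_⟩
    · show ext1 ι ((α⁻¹ ⟨φ x, hφT x⟩ : ↥(preimageAlong ι N)) : Ω) = _
      rw [hαinv]
      show m⁻¹ * ext1 ι (φ x) * m = _
      rw [hg x]; group
    · have e : (⟨_, hx⟩ : ↥(preimageAlong ι N)) = α⁻¹ ⟨φ x, hφT x⟩ := Subtype.ext rfl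
      rw [e, MulAut.apply_inv_self]
  · -- extension condition
    intro α hα
    obtain ⟨_, _, n, hnN, hn⟩ := (mem_autGroup_iff (normSys F ι hι N) le_rfl).1 hα
    have hn' : ∀ t : ↥(preimageAlong ι N),
        ext1 ι ((α t : ↥(preimageAlong ι N)) : Ω) = n * ext1 ι (t : Ω) * n⁻¹ := hn
    have hnT : n ∈ Subgroup.normalizer ((((Sy : Subgroup G) ⊓ N : Subgroup G)) : Set G) := by
      apply mem_normalizer_of_conj_mem_finite
      intro y hy
      obtain ⟨x, hx, rfl⟩ := hM2 y hy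
      rw [← hn' ⟨x, hx⟩]
      exact hM1 _ (α _).2
    obtain ⟨n₁, hn₁N, hn₁T, hn₁C⟩ := exists_adjust_normalizer p Sy N _ rfl n hnN hnT
    have hCS : centralizerIn S (preimageAlong ι N) ≤ S := centralizerIn_le _ _
    have hUS : preimageAlong ι N ⊔ centralizerIn S (preimageAlong ι N) ≤ S := sup_le hTS hCS
    have hUfin : Finite ↥(preimageAlong ι N ⊔ centralizerIn S (preimageAlong ι N)) :=
      finite_of_le hUS
    have hL1 : ∀ c ∈ centralizerIn S (preimageAlong ι N),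
        ext1 ι c ∈ centralizerIn (Sy : Subgroup G) ((Sy : Subgroup G) ⊓ N) := by
      intro c hc
      obtain ⟨hcS, hcc⟩ := mem_centralizerIn.1 hc
      refine mem_centralizerIn.2 ⟨by rw [hSy]; exact ext1_mem_range ι hcS, fun y hy => ?_⟩
      obtain ⟨t, ht, rfl⟩ := hM2 y hy
      rw [← ext1_mul ι (hTS ht) hcS, ← ext1_mul ι hcS (hTS ht), hcc t ht]
    have hL2 : ∀ x ∈ S, ext1 ι x ∈ centralizerIn (Sy : Subgroup G) ((Sy : Subgroup G) ⊓ N) →
        x ∈ centralizerIn S (preimageAlong ι N) := by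
      intro x hx h
      obtain ⟨_, hcc⟩ := mem_centralizerIn.1 h
      refine mem_centralizerIn.2 ⟨hx, fun t ht => ?_⟩
      apply ext1_inj ι hι.1 (S.mul_mem (hTS ht) hx) (S.mul_mem hx (hTS ht))
      rw [ext1_mul ι (hTS ht) hx, ext1_mul ι hx (hTS ht)]
      exact hcc _ (hM1 t ht)
    have hconjT : ∀ t ∈ preimageAlong ι N, ∃ v ∈ preimageAlong ι N,
        ext1 ι v = n₁ * ext1 ι t * n₁⁻¹ := by
      intro t ht
      refine ⟨(α ⟨t, ht⟩ : ↥(preimageAlong ι N)), (α _).2, ?_⟩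
      rw [hn' ⟨t, ht⟩, hn₁T _ (hM1 t ht)]
    have hconjC : ∀ c ∈ centralizerIn S (preimageAlong ι N),
        ∃ v ∈ centralizerIn S (preimageAlong ι N), ext1 ι v = n₁ * ext1 ι c * n₁⁻¹ := by
      intro c hc
      have h1 := hn₁C _ (hL1 c hc)
      have h2 : n₁ * ext1 ι c * n₁⁻¹ ∈ ι.range := by rw [← hSy]; exact h1.1
      obtain ⟨v, hv, e⟩ := exists_ext1_eq ι h2
      exact ⟨v, hL2 v hv (by rw [e]; exact h1), e⟩
    obtain ⟨β, hβ⟩ := exists_aut_of_conj ι hι.1 hUS n₁ (fun u hu => by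
      have hCnorm : centralizerIn S (preimageAlong ι N) ≤
          Subgroup.normalizer ((preimageAlong ι N : Subgroup Ω) : Set Ω) :=
        inf_le_right.trans (Subgroup.centralizer_le_normalizer _)
      rw [sup_comm] at hu
      obtain ⟨c, hc, t, ht, rfl⟩ := mem_sup_of_le_normalizer hCnorm hu
      obtain ⟨v1, hv1, e1⟩ := hconjC c hc
      obtain ⟨v2, hv2, e2⟩ := hconjT t ht
      refine ⟨v1 * v2, Subgroup.mul_mem _ (Subgroup.mem_sup_right hv1)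
        (Subgroup.mem_sup_left hv2), ?_⟩
      rw [ext1_mul ι (hCS hv1) (hTS hv2), e1, e2, ext1_mul ι (hCS hc) (hTS ht)]; group)
    refine ⟨β, ?_, ?_, ?_⟩
    · rw [mem_autGroup_iff F hUS]
      exact (realized_iff F ι hι hUS _ (fun u => hUS (β u).2)).2 ⟨n₁, fun u => hβ u⟩
    · intro x
      apply ext1_inj ι hι.1 (hUS (β _).2) (hTS (α x).2)
      rw [hβ, hn' x]
      exact hn₁T _ (hM1 x x.2)
    · intro c hc
      have hβc : ((β c : ↥(preimageAlong ι N ⊔ centralizerIn S (preimageAlong ι N))) : Ω) ∈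
          centralizerIn S (preimageAlong ι N) := by
        apply hL2 _ (hUS (β c).2)
        rw [hβ]; exact hn₁C _ (hL1 c hc)
      refine ⟨(mem_pre ι N).2 ⟨S.mul_mem (S.inv_mem (hCS hc)) (hCS hβc), ?_⟩, ?_⟩
      · rw [ext1_mul ι (S.inv_mem (hCS hc)) (hCS hβc), ext1_inv ι (hCS hc), hβ]
        have h2 : (ext1 ι (c : Ω))⁻¹ * n₁ * ((ext1 ι (c : Ω))⁻¹)⁻¹ ∈ N := hN.conj_mem _ hn₁N _
        have e : (ext1 ι (c : Ω))⁻¹ * (n₁ * ext1 ι (c : Ω) * n₁⁻¹) =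
            ((ext1 ι (c : Ω))⁻¹ * n₁ * ((ext1 ι (c : Ω))⁻¹)⁻¹) * n₁⁻¹ := by group
        rw [e]; exact N.mul_mem h2 (N.inv_mem hn₁N)
      · exact Subgroup.mul_mem _ (Subgroup.inv_mem _ hc.2) hβc.2

end Cfsg.Agent.Helper27
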