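import Mathlib

set_option autoImplicit false

namespace Cfsg.Agent.Helper27

/-- shortlex normal-form words of `S₄` in the adjacent transpositions. -/
def s4wd : Fin 24 → List (Fin 3) :=
  ![[], [0], [1], [2], [0, 1], [0, 2], [1, 0], [1, 2], [2, 1], [0, 1, 0], [0, 1, 2], [0, 2, 1], [1, 0, 2], [1, 2, 1], [2, 1, 0], [0, 1, 0, 2], [0, 1, 2, 1], [0, 2, 1, 0], [1, 0, 2, 1], [1, 2, 1, 0], [0, 1, 0, 2, 1], [0, 1, 2, 1, 0], [1, 0, 2, 1, 0], [0, 1, 0, 2, 1, 0]]

/-- right multiplication table of `S₄` on normal forms. -/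
def s4rho : Fin 3 → Fin 24 → Fin 24 :=
  ![![1, 0, 6, 5, 9, 3, 2, 12, 14, 4, 15, 17, 7, 19, 8, 10, 21, 11, 22, 13, 23, 16, 18, 20],
    ![2, 4, 0, 8, 1, 11, 9, 13, 3, 6, 16, 5, 18, 7, 17, 20, 10, 14, 12, 22, 15, 23, 19, 21],
    ![3, 5, 7, 0, 10, 1, 12, 2, 13, 15, 4, 16, 6, 8, 19, 9, 11, 21, 20, 14, 18, 17, 23, 22]]

/-- the adjacent transpositions of `S₄`. -/
def s4sw : Fin 3 → Equiv.Perm (Fin 4) :=
  ![Equiv.swap 0 1, Equiv.swap 1 2, Equiv.swap 2 3]

/-- evaluation of a word. -/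
def s4ev {M : Type*} [Monoid M] (g : Fin 3 → M) (l : List (Fin 3)) : M := (l.map g).prod

theorem s4ev_inj : Function.Injective (fun i => s4ev s4sw (s4wd i)) := by decide

theorem s4ev_rho : ∀ k i, s4ev s4sw (s4wd (s4rho k i)) = s4ev s4sw (s4wd i) * s4sw k := by decide

theorem s4ev_rho_G {G : Type*} [Group G] (a b c : G) (ha : a * a = 1) (hb : b * b = 1)
    (hc : c * c = 1) (hab : b * (a * b) = a * (b * a)) (hbc : c * (b * c) = b * (c * b))
    (hac : c * a = a * c) :
    ∀ k i, s4ev ![a, b, c] (s4wd (s4rho k i)) = s4ev ![a, b, c] (s4wd i) * ![a, b, c] k := by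
  have ha' : ∀ x, a * (a * x) = x := fun x => by rw [← mul_assoc, ha, one_mul]
  have hb' : ∀ x, b * (b * x) = x := fun x => by rw [← mul_assoc, hb, one_mul]
  have hc' : ∀ x, c * (c * x) = x := fun x => by rw [← mul_assoc, hc, one_mul]
  have hab' : ∀ x, b * (a * (b * x)) = a * (b * (a * x)) := fun x => by
    rw [← mul_assoc a b, ← mul_assoc b, hab, mul_assoc, mul_assoc]
  have hbc' : ∀ x, c * (b * (c * x)) = b * (c * (b * x)) := fun x => by
    rw [← mul_assoc b c, ← mul_assoc c, hbc, mul_assoc, mul_assoc]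
  have hac' : ∀ x, c * (a * x) = a * (c * x) := fun x => by
    rw [← mul_assoc, hac, mul_assoc]
  have h4 : c * (b * (a * c)) = b * (c * (b * a)) := by
    rw [← hac, hbc']
  have h4' : ∀ x, c * (b * (a * (c * x))) = b * (c * (b * (a * x))) := fun x => by
    rw [← hac', hbc']
  intro k i
  fin_cases k <;> fin_cases i <;>
    simp [s4ev, s4wd, s4rho, mul_assoc, ha, hb, hc, hab, hbc, hac, ha', hb', hab', hac', h4]

theorem s4sw_eq (k : Fin 3) : s4sw k = Equiv.swap k.castSucc k.succ := by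
  fin_cases k <;> rfl

/-- Coxeter presentation of `S₄`, existence of the homomorphism. -/
theorem exists_hom_S4 {G : Type*} [Group G] (a b c : G) (ha : a * a = 1) (hb : b * b = 1)
    (hc : c * c = 1) (hab : b * (a * b) = a * (b * a)) (hbc : c * (b * c) = b * (c * b))
    (hac : c * a = a * c) :
    ∃ φ : Equiv.Perm (Fin 4) →* G, φ (Equiv.swap 0 1) = a ∧ φ (Equiv.swap 1 2) = b ∧
      φ (Equiv.swap 2 3) = c := by
  have hbij : Function.Bijective (fun i : Fin 24 => s4ev s4sw (s4wd i)) := by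
    rw [Fintype.bijective_iff_injective_and_card]
    refine ⟨s4ev_inj, ?_⟩
    rw [Fintype.card_perm]
    rfl
  let e : Fin 24 ≃ Equiv.Perm (Fin 4) := Equiv.ofBijective _ hbij
  have he : ∀ i, e i = s4ev s4sw (s4wd i) := fun i => rfl
  let f : Equiv.Perm (Fin 4) → G := fun σ => s4ev ![a, b, c] (s4wd (e.symm σ))
  have hf : ∀ i, f (e i) = s4ev ![a, b, c] (s4wd i) := by
    intro i
    show s4ev ![a, b, c] (s4wd (e.symm (e i))) = _
    rw [Equiv.symm_apply_apply]
  have hstep : ∀ σ k, f (σ * s4sw k) = f σ * ![a, b, c] k := by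
    intro σ k
    obtain ⟨i, rfl⟩ := e.surjective σ
    have h1 : e i * s4sw k = e (s4rho k i) := by
      rw [he, he, s4ev_rho]
    rw [h1, hf, hf, s4ev_rho_G a b c ha hb hc hab hbc hac]
  have hone : f 1 = 1 := by
    have h0 : e 0 = 1 := rfl
    rw [← h0, hf]
    rfl
  have hgen : ∀ k, f (s4sw k) = ![a, b, c] k := by
    intro k
    have := hstep 1 k
    rwa [one_mul, hone, one_mul] at this
  have hmul : ∀ τ σ : Equiv.Perm (Fin 4), f (σ * τ) = f σ * f τ := by
    intro τ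
    have hτ : τ ∈ Submonoid.closure (Set.range fun i : Fin 3 => Equiv.swap i.castSucc i.succ) := by
      rw [Equiv.Perm.mclosure_swap_castSucc_succ]
      exact Submonoid.mem_top τ
    induction hτ using Submonoid.closure_induction with
    | mem x hx =>
      obtain ⟨k, rfl⟩ := hx
      intro σ
      show f (σ * Equiv.swap k.castSucc k.succ) = f σ * f (Equiv.swap k.castSucc k.succ)
      rw [← s4sw_eq, hstep, hgen]
    | one =>
      intro σ
      rw [mul_one, hone, mul_one]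
    | mul x y _ _ hx hy =>
      intro σ
      rw [← mul_assoc, hy, hx, hy, mul_assoc]
  refine ⟨MonoidHom.mk' f (fun σ τ => hmul τ σ), ?_, ?_, ?_⟩
  · exact hgen 0
  · exact hgen 1
  · exact hgen 2

/-- every nontrivial normal subgroup of `S₄` contains `(0 1)(2 3)`. -/
theorem s4_normal_witness : ∀ σ : Equiv.Perm (Fin 4), σ ≠ 1 →
    ∃ g h : Equiv.Perm (Fin 4), (g * σ * g⁻¹) * (h * σ * h⁻¹)⁻¹ = Equiv.swap 0 1 * Equiv.swap 2 3 := by
  decide +kernel

/-- a homomorphism from `S₄` not identifying `(0 1)` and `(2 3)` is injective. -/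
theorem s4_hom_injective {G : Type*} [Group G] (φ : Equiv.Perm (Fin 4) →* G)
    (h : φ (Equiv.swap 0 1) ≠ φ (Equiv.swap 2 3)) : Function.Injective φ := by
  rw [injective_iff_map_eq_one]
  intro σ hσ
  by_contra hne
  obtain ⟨g, k, hgk⟩ := s4_normal_witness σ hne
  have h1 := congrArg φ hgk
  simp only [map_mul, map_inv, hσ, mul_one, mul_inv_cancel, inv_one] at h1
  apply h
  have h2 : Equiv.swap (2 : Fin 4) 3 * Equiv.swap 2 3 = 1 := Equiv.swap_mul_self _ _
  have h3 := congrArg φ h2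
  rw [map_mul, map_one] at h3
  calc φ (Equiv.swap 0 1) = φ (Equiv.swap 0 1) * (φ (Equiv.swap 2 3) * φ (Equiv.swap 2 3)) := by
        rw [h3, mul_one]
    _ = (φ (Equiv.swap 0 1) * φ (Equiv.swap 2 3)) * φ (Equiv.swap 2 3) := by rw [mul_assoc]
    _ = φ (Equiv.swap 2 3) := by rw [← h1, one_mul]

end Cfsg.Agent.Helper27
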