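import Cfsg.Agent.Helper27.RealNormal

set_option autoImplicit false

namespace Cfsg.Agent.Helper27

open Cfsg Cfsg.FusionSystem Cfsg.Agent.Helper26

universe u

theorem simple_realization {Ω : Type u} [Group Ω] {S : Subgroup Ω} (p : ℕ) [Fact p.Prime]
    (F : FusionSystem S) (hsimple : F.IsSimple p) :
    ∀ k : ℕ, ∀ (G : Type u) [Group G] [Finite G] (ι : S →* G), Nat.card G = k →
      F.IsRealizedBy ι → (∃ T : Sylow p G, (T : Subgroup G) = ι.range) →
      ∃ (G' : Type u) (_ : Group G') (_ : Finite G') (_ : IsSimpleGroup G') (ι' : S →* G'),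
        F.IsRealizedBy ι' ∧ ∃ T : Sylow p G', (T : Subgroup G') = ι'.range := by
  intro k
  induction k using Nat.strong_induction_on with
  | _ k ih =>
    intro G _ _ ι hk hι hSyl
    obtain ⟨Sy, hSy⟩ := hSyl
    by_cases hsimp : IsSimpleGroup G
    · exact ⟨G, inferInstance, inferInstance, hsimp, ι, hι, Sy, hSy⟩
    · have hnt : Nontrivial G := by
        obtain ⟨s, hs⟩ := (Subgroup.ne_bot_iff_exists_ne_one).1 hsimple.2.1
        refine ⟨ι s, 1, fun h => hs ?_⟩
        exact hι.1 (h.trans (map_one ι).symm)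
      have hex : ∃ N : Subgroup G, N.Normal ∧ N ≠ ⊥ ∧ N ≠ ⊤ := by
        by_contra hcon
        push Not at hcon
        exact hsimp { toNontrivial := hnt
                      eq_bot_or_eq_top_of_normal := fun N hN => by
                        by_cases h : N = ⊥
                        · exact Or.inl h
                        · exact Or.inr (hcon N hN h) }
      obtain ⟨N, hN, hNbot, hNtop⟩ := hex
      have hE := normSys_normalIn p F hsimple.1 ι hι Sy hSy N
      rcases hsimple.2.2 _ _ hE with hT | ⟨hT, hEF⟩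
      · -- N ∩ ι(S) = 1: the quotient G/N realizes F
        have hcap : ∀ y ∈ N, y ∈ ι.range → y = 1 := by
          rintro _ hy ⟨s, rfl⟩
          have h1 : (s : Ω) ∈ preimageAlong ι N := mem_preimageAlong.2 ⟨s.2, hy⟩
          rw [hT, Subgroup.mem_bot] at h1
          have h2 : s = 1 := Subtype.ext h1
          rw [h2, map_one]
        have hlt : Nat.card (G ⧸ N) < k := by
          rw [← hk, Subgroup.card_eq_card_quotient_mul_card_subgroup N]
          have h1 : 1 < Nat.card N := (Subgroup.one_lt_card_iff_ne_bot N).2 hNbot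
          have h2 : 0 < Nat.card (G ⧸ N) := Nat.card_pos
          nlinarith
        refine ih _ hlt (G ⧸ N) ((QuotientGroup.mk' N).comp ι) rfl ⟨?_, ?_⟩
          ⟨Sy.mapSurjective (QuotientGroup.mk'_surjective N), ?_⟩
        · intro a b hab
          have h1 : (QuotientGroup.mk (ι a) : G ⧸ N) = QuotientGroup.mk (ι b) := hab
          rw [QuotientGroup.eq] at h1
          have h2 : (ι a)⁻¹ * ι b = 1 :=
            hcap _ h1 ⟨a⁻¹ * b, by rw [map_mul, map_inv]⟩
          have h3 : ι a = ι b := by
            rw [inv_mul_eq_one] at h2; exact h2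
          exact hι.1 h3
        · intro P hP φ hφ
          rw [hι.2 P hP φ hφ]
          constructor
          · rintro ⟨g, hg⟩
            refine ⟨QuotientGroup.mk g, fun x => ?_⟩
            show (QuotientGroup.mk (ι ⟨φ x, hφ x⟩) : G ⧸ N) = _
            rw [hg x]; rfl
          · rintro ⟨γ, hγ⟩
            have hPG : (P.subgroupOf S).map ι ≤ (Sy : Subgroup G) := by
              rw [hSy]; rintro _ ⟨s, -, rfl⟩; exact ⟨s, rfl⟩
            obtain ⟨g, hg⟩ := fusion_lifts_quot N Sy ((P.subgroupOf S).map ι) hPG γ (by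
              rintro _ ⟨s, hs, rfl⟩
              have hsP : (s : Ω) ∈ P := Subgroup.mem_subgroupOf.1 hs
              have h1 := hγ ⟨s, hsP⟩
              have h2 : (QuotientGroup.mk (ι ⟨φ ⟨s, hsP⟩, hφ _⟩) : G ⧸ N) =
                  γ * QuotientGroup.mk (ι s) * γ⁻¹ := h1
              rw [← h2]
              refine ⟨ι ⟨φ ⟨s, hsP⟩, hφ _⟩, ?_, rfl⟩
              rw [SetLike.mem_coe, hSy]; exact ⟨_, rfl⟩)
            refine ⟨g, fun x => ?_⟩
            obtain ⟨h1, h2⟩ := hg (ι ⟨x, hP x.2⟩) ⟨⟨x, hP x.2⟩, Subgroup.mem_subgroupOf.2 x.2, rfl⟩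
            have h3 : (QuotientGroup.mk (ι ⟨φ x, hφ x⟩) : G ⧸ N) =
                γ * QuotientGroup.mk (ι ⟨x, hP x.2⟩) * γ⁻¹ := hγ x
            rw [← h2, eq_comm, QuotientGroup.eq] at h3
            have h1' : g * ι ⟨x, hP x.2⟩ * g⁻¹ ∈ ι.range := by rw [← hSy]; exact h1
            have h4 : (g * ι ⟨x, hP x.2⟩ * g⁻¹)⁻¹ * ι ⟨φ x, hφ x⟩ = 1 :=
              hcap _ h3 (Subgroup.mul_mem _ (Subgroup.inv_mem _ h1') ⟨_, rfl⟩)
            rw [inv_mul_eq_one] at h4
            exact h4.symm
        · rw [Sylow.coe_mapSurjective, hSy, MonoidHom.map_range]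
      · -- ι(S) ≤ N and the subsystem is F: N realizes F
        have hmem : ∀ s : S, ι s ∈ N := by
          intro s
          have h1 : (s : Ω) ∈ preimageAlong ι N := by rw [hT]; exact s.2
          obtain ⟨hs, h2⟩ := mem_preimageAlong.1 h1
          exact h2
        have hlt : Nat.card N < k := by
          rw [← hk]
          exact lt_of_le_of_ne (Subgroup.card_le_card_group N)
            (fun h => hNtop ((Subgroup.card_eq_iff_eq_top N).1 h))
        obtain ⟨R, hR⟩ := sylow_inf_normal Sy N
        refine ih _ hlt N (ι.codRestrict N hmem) rfl ⟨?_, ?_⟩ ⟨R, ?_⟩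
        · intro a b hab
          exact hι.1 (congrArg Subtype.val hab)
        · intro P hP φ hφ
          rw [← hEF P]
          constructor
          · rintro ⟨_, _, n, hn, h⟩
            refine ⟨⟨n, hn⟩, fun x => Subtype.ext ?_⟩
            have := h x
            rw [ext1_of_mem ι (hφ x), ext1_of_mem ι (hP x.2)] at this
            exact this
          · rintro ⟨g, hg⟩
            refine ⟨hP.trans hT.ge, fun x => hT.ge (hφ x), g, g.2, fun x => ?_⟩
            rw [ext1_of_mem ι (hφ x), ext1_of_mem ι (hP x.2)]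
            exact congrArg Subtype.val (hg x)
        · rw [hR]
          ext y
          rw [Subgroup.mem_subgroupOf, hSy]
          constructor
          · rintro ⟨s, hs⟩
            exact ⟨s, Subtype.ext hs⟩
          · rintro ⟨s, rfl⟩
            exact ⟨s, rfl⟩

end Cfsg.Agent.Helper27
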