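import Cfsg.Agent.Helper26.FusionNormal2
import Cfsg.Agent.Helper26.FusionQuot
import Cfsg.Agent.Helper27.CyclicExt
import Cfsg.Agent.Helper27.EigenP
import Cfsg.Agent.Helper27.CycStep

set_option autoImplicit false

namespace Cfsg.Agent.Helper27

open Cfsg Cfsg.FusionSystem Cfsg.Agent.Helper26

variable {Ω : Type*} [Group Ω]

/-- A finite chain from `a` to `b` whose terms satisfy `Pr` and whose steps satisfy `R`. -/
def ChainTo {α : Type*} (Pr : α → Prop) (R : α → α → Prop) (a b : α) : Prop :=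
  ∃ (n : ℕ) (c : Fin (n + 1) → α), c 0 = a ∧ c (Fin.last n) = b ∧ (∀ i, Pr (c i)) ∧
    ∀ i : Fin n, R (c i.castSucc) (c i.succ)

theorem chainTo_refl {α : Type*} {Pr : α → Prop} {R : α → α → Prop} {a : α} (h : Pr a) :
    ChainTo Pr R a a :=
  ⟨0, fun _ => a, rfl, rfl, fun _ => h, fun i => i.elim0⟩

theorem chainTo_snoc {α : Type*} {Pr : α → Prop} {R : α → α → Prop} {a b b' : α}
    (h : ChainTo Pr R a b) (hb' : Pr b') (hR : R b b') : ChainTo Pr R a b' := by
  obtain ⟨n, c, h0, hl, hP, hstep⟩ := h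
  refine ⟨n + 1, (Fin.snoc c b' : Fin (n + 2) → α), ?_, ?_, ?_, ?_⟩
  · have : (0 : Fin (n + 2)) = Fin.castSucc (0 : Fin (n + 1)) := rfl
    rw [this, Fin.snoc_castSucc]; exact h0
  · rw [Fin.snoc_last]
  · intro i
    refine Fin.lastCases ?_ (fun j => ?_) i
    · rw [Fin.snoc_last]; exact hb'
    · rw [Fin.snoc_castSucc]; exact hP j
  · intro i
    refine Fin.lastCases ?_ (fun j => ?_) i
    · rw [Fin.snoc_castSucc, Fin.succ_last, Fin.snoc_last, hl]; exact hR
    · rw [Fin.snoc_castSucc, Fin.succ_castSucc, Fin.snoc_castSucc]; exact hstep j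

theorem mem_inn_sup {P : Type*} [Group P] (H : Subgroup (MulAut P)) (α : MulAut P) :
    α ∈ Cfsg.Inn P ⊔ H ↔ ∃ n : P, ∃ z ∈ H, α = MulAut.conj n * z := by
  rw [← SetLike.mem_coe, Subgroup.normal_mul]
  constructor
  · rintro ⟨_, ⟨n, rfl⟩, z, hz, rfl⟩
    exact ⟨n, z, hz, rfl⟩
  · rintro ⟨n, z, hz, rfl⟩
    exact ⟨_, ⟨n, rfl⟩, z, hz, rfl⟩

theorem autSys_saturated' (P : Subgroup Ω) [Finite P] (p : ℕ) [Fact p.Prime] (hP : IsPGroup p P)
    (H : Subgroup (MulAut P)) (hH : (Nat.card H).Coprime p) :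
    (autSys P (Cfsg.Inn P ⊔ H) le_sup_left).IsSaturated p := by
  have : Finite (P ⋊[H.subtype] H) := Finite.of_equiv _ SemidirectProduct.equivProd.symm
  have hreal : (autSys P (Cfsg.Inn P ⊔ H) le_sup_left).IsRealizedBy
      (SemidirectProduct.inl : P →* P ⋊[H.subtype] H) := by
    refine ⟨SemidirectProduct.inl_injective, ?_⟩
    intro R hR φ hφ
    constructor
    · rintro ⟨hR', α, hα, h⟩
      obtain ⟨n, z, hz, rfl⟩ := (mem_inn_sup H α).1 hα
      refine ⟨SemidirectProduct.inl n * SemidirectProduct.inr ⟨z, hz⟩, fun x => ?_⟩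
      rw [semidirect_conj]
      congr 1
      exact Subtype.ext (h x)
    · rintro ⟨g, hg⟩
      refine ⟨hR, MulAut.conj g.left * (g.right : MulAut P),
        (mem_inn_sup H _).2 ⟨g.left, g.right, g.right.2, rfl⟩, fun x => ?_⟩
      have h1 := hg x
      rw [← SemidirectProduct.inl_left_mul_inr_right g, semidirect_conj] at h1
      have h2 := SemidirectProduct.inl_injective h1
      exact congrArg Subtype.val h2
  have hpg : IsPGroup p (SemidirectProduct.inl : P →* P ⋊[H.subtype] H).range :=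
    IsPGroup.of_surjective hP _ (MonoidHom.rangeRestrict_surjective _)
  have hidx : ¬ p ∣ (SemidirectProduct.inl : P →* P ⋊[H.subtype] H).range.index := by
    have hc1 : Nat.card (SemidirectProduct.inl : P →* P ⋊[H.subtype] H).range = Nat.card P :=
      (Nat.card_congr (Equiv.ofInjective _ SemidirectProduct.inl_injective)).symm
    have hc2 := Subgroup.card_mul_index (SemidirectProduct.inl : P →* P ⋊[H.subtype] H).range
    rw [hc1, SemidirectProduct.card] at hc2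
    have hc3 : (SemidirectProduct.inl : P →* P ⋊[H.subtype] H).range.index = Nat.card H :=
      Nat.eq_of_mul_eq_mul_left Nat.card_pos hc2
    rw [hc3]
    exact (Nat.Prime.coprime_iff_not_dvd Fact.out).1 hH.symm
  exact model_saturated p _ _ hreal (hpg.toSylow hidx) (IsPGroup.toSylow_coe _ _)

section Step

variable {S : Subgroup Ω}

theorem map_sup_zpowers {A : Subgroup Ω} (hA : A ≤ S) (x : S) :
    ((A.subgroupOf S) ⊔ Subgroup.zpowers x).map S.subtype = A ⊔ Subgroup.zpowers (x : Ω) := by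
  rw [Subgroup.map_sup, MonoidHom.map_zpowers, Subgroup.map_subgroupOf_eq_of_le hA]; rfl

theorem mem_mapD {A : Subgroup Ω} (hA : A ≤ S) [(A.subgroupOf S).Normal] (x : S) (p j : ℕ)
    (y : Ω) : y ∈ (cycD (A.subgroupOf S) x p j).map S.subtype ↔
      y ∈ A ⊔ Subgroup.zpowers (x : Ω) ∧ y ^ (p ^ j) ∈ A := by
  constructor
  · rintro ⟨y', hy', rfl⟩
    have h1 : y' ∈ cycD (A.subgroupOf S) x p j := hy'
    rw [mem_cycD] at h1
    refine ⟨?_, ?_⟩
    · rw [← map_sup_zpowers hA x]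
      exact ⟨y', (mem_sup_zpowers_iff _ x y').2 h1.1, rfl⟩
    · have h2 : ((y' ^ (p ^ j) : S) : S ⧸ A.subgroupOf S) = 1 := h1.2
      have h3 := (QuotientGroup.eq_one_iff _).1 h2
      exact Subgroup.mem_subgroupOf.1 h3
  · rintro ⟨h1, h2⟩
    rw [← map_sup_zpowers hA x] at h1
    obtain ⟨y', hy', rfl⟩ := h1
    refine ⟨y', ?_, rfl⟩
    show y' ∈ cycD (A.subgroupOf S) x p j
    rw [mem_cycD]
    refine ⟨(mem_sup_zpowers_iff _ x y').1 hy', ?_⟩
    have h3 : y' ^ (p ^ j) ∈ A.subgroupOf S := Subgroup.mem_subgroupOf.2 h2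
    exact (QuotientGroup.eq_one_iff _).2 h3

/-- The step relation of a series witnessing normality of `S`. -/
def GoodRel (F : FusionSystem S) (T T' : Subgroup Ω) : Prop :=
  T ≤ T' ∧ F.StronglyClosed T' ∧ ⁅S, T'⁆ ≤ T

theorem subgroupOf_normal_of_sc (F : FusionSystem S) {A : Subgroup Ω} (hA : F.StronglyClosed A) :
    (A.subgroupOf S).Normal := by
  constructor
  intro n hn g
  rw [Subgroup.mem_subgroupOf] at hn ⊢
  exact stronglyClosed_conj_mem F hA g.2 hn

theorem quot_pow_card [Finite S] (p : ℕ) [Fact p.Prime] (N : Subgroup S) [N.Normal] {n : ℕ}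
    (hn : Nat.card S = p ^ n) (q : S ⧸ N) : q ^ (p ^ n) = 1 := by
  induction q using QuotientGroup.induction_on with
  | H y =>
    rw [← QuotientGroup.mk_pow, ← hn, pow_card_eq_one']; rfl

theorem good_step [Finite S] (p : ℕ) [Fact p.Prime] (hS : IsPGroup p S) (F : FusionSystem S)
    {A B : Subgroup Ω} (hA : F.StronglyClosed A) (hB : F.StronglyClosed B) {x : Ω} (hx : x ∈ S)
    (hAB : B = A ⊔ Subgroup.zpowers x)
    (hg : ChainTo (fun _ : Subgroup Ω => True) (GoodRel F) ⊥ A) :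
    ChainTo (fun _ : Subgroup Ω => True) (GoodRel F) ⊥ B := by
  have hN : (A.subgroupOf S).Normal := subgroupOf_normal_of_sc F hA
  have hmem := fun j y => mem_mapD hA.1 (⟨x, hx⟩ : S) p j y
  have hD0 : (cycD (A.subgroupOf S) (⟨x, hx⟩ : S) p 0).map S.subtype = A := by
    rw [cycD_zero, Subgroup.map_subgroupOf_eq_of_le hA.1]
  obtain ⟨n, hn⟩ := IsPGroup.iff_card.1 hS
  have hDn : (cycD (A.subgroupOf S) (⟨x, hx⟩ : S) p n).map S.subtype = B := by
    rw [cycD_top _ _ _ _ (quot_pow_card p _ hn), map_sup_zpowers hA.1 ⟨x, hx⟩, hAB]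
  have hDsc : ∀ j, F.StronglyClosed ((cycD (A.subgroupOf S) (⟨x, hx⟩ : S) p j).map S.subtype) := by
    intro j
    refine ⟨Subgroup.map_subtype_le _, fun R hR φ hφ r => ?_⟩
    have hr := hR r.2
    rw [hmem] at hr ⊢
    have hRB : R ≤ B := fun z hz => by
      have := hR hz
      rw [hmem] at this
      rw [hAB]; exact this.1
    refine ⟨?_, ?_⟩
    · have := hB.2 R hRB φ hφ r
      rw [hAB] at this; exact this
    · rw [← map_pow]
      exact stronglyClosed_hom_mem F hA hφ (r ^ (p ^ j)) (by rw [Subgroup.coe_pow]; exact hr.2)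
  have hDcomm : ∀ j, ⁅S, (cycD (A.subgroupOf S) (⟨x, hx⟩ : S) p (j + 1)).map S.subtype⁆ ≤
      (cycD (A.subgroupOf S) (⟨x, hx⟩ : S) p j).map S.subtype := by
    intro j
    rw [Subgroup.commutator_le]
    rintro s hs _ ⟨y', hy', rfl⟩
    obtain ⟨e, he⟩ := hS ⟨s, hs⟩
    have hsx : (⟨s, hs⟩ : S) * ⟨x, hx⟩ * (⟨s, hs⟩ : S)⁻¹ ∈
        A.subgroupOf S ⊔ Subgroup.zpowers (⟨x, hx⟩ : S) := by
      have h1 : s * x * s⁻¹ ∈ B := stronglyClosed_conj_mem F hB hs
        (by rw [hAB]; exact Subgroup.mem_sup_right (Subgroup.mem_zpowers x))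
      rw [hAB, ← map_sup_zpowers hA.1 ⟨x, hx⟩] at h1
      obtain ⟨z, hz, hz'⟩ := h1
      have : z = (⟨s, hs⟩ : S) * ⟨x, hx⟩ * (⟨s, hs⟩ : S)⁻¹ := Subtype.ext hz'
      rw [← this]; exact hz
    exact ⟨_, cycD_comm _ (⟨x, hx⟩ : S) p ⟨s, hs⟩ he hsx j hy', rfl⟩
  have hall : ∀ j, ChainTo (fun _ : Subgroup Ω => True) (GoodRel F) ⊥
      ((cycD (A.subgroupOf S) (⟨x, hx⟩ : S) p j).map S.subtype) := by
    intro j
    induction j with
    | zero => rw [hD0]; exact hg
    | succ j ih =>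
      exact chainTo_snoc ih trivial
        ⟨Subgroup.map_mono (cycD_mono _ _ p j), hDsc (j + 1), hDcomm j⟩
  rw [← hDn]; exact hall n

theorem resistant_of_chain [Finite S] (p : ℕ) [Fact p.Prime] (hS : IsPGroup p S)
    (F : FusionSystem S) (hF : F.IsSaturated p) (m : ℕ) (c : Fin (m + 1) → Subgroup Ω)
    (h0 : c 0 = ⊥) (hl : c (Fin.last m) = S) (hsc : ∀ i, F.StronglyClosed (c i))
    (hstep : ∀ i : Fin m, c i.castSucc ≤ c i.succ ∧
      ∃ x ∈ S, c i.succ = c i.castSucc ⊔ Subgroup.zpowers x) :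
    F.IsNormal S := by
  have hall : ∀ i : Fin (m + 1), ChainTo (fun _ : Subgroup Ω => True) (GoodRel F) ⊥ (c i) := by
    intro i
    induction i using Fin.induction with
    | zero => rw [h0]; exact chainTo_refl trivial
    | succ i ih =>
      obtain ⟨-, x, hx, hAB⟩ := hstep i
      exact good_step p hS F (hsc _) (hsc _) hx hAB ih
  obtain ⟨n, Qs, hQ0, hQl, -, hQ⟩ := hall (Fin.last m)
  rw [hl] at hQl
  rw [normal_iff_series p hS F hF S]
  exact ⟨n, Qs, hQ0, hQl, Fin.monotone_iff_le_succ.2 (fun i => (hQ i).1),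
    fun i => ⟨(hQ i).2.1, (hQ i).2.2⟩⟩

theorem autSys_inv (H : Subgroup (MulAut S)) {T : Subgroup Ω}
    (hT : (autSys S (Cfsg.Inn S ⊔ H) le_sup_left).StronglyClosed T) {h : MulAut S} (hh : h ∈ H)
    (y : S) (hy : (y : Ω) ∈ T) : ((h y : S) : Ω) ∈ T := by
  have hψ : S.subtype.comp h.toMonoidHom ∈ (autSys S (Cfsg.Inn S ⊔ H) le_sup_left).Hom S :=
    ⟨le_rfl, h, Subgroup.mem_sup_right hh, fun x => rfl⟩
  exact stronglyClosed_hom_mem _ hT hψ y hy

theorem pprime_of_chain [Finite S] (p : ℕ) [Fact p.Prime] (hS : IsPGroup p S)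
    (H : Subgroup (MulAut S)) (hH : (Nat.card H).Coprime p)
    (m : ℕ) (c : Fin (m + 1) → Subgroup Ω) (h0 : c 0 = ⊥) (hl : c (Fin.last m) = S)
    (hsc : ∀ i, (autSys S (Cfsg.Inn S ⊔ H) le_sup_left).StronglyClosed (c i))
    (hstep : ∀ i : Fin m, c i.castSucc ≤ c i.succ ∧
      ∃ x ∈ S, c i.succ = c i.castSucc ⊔ Subgroup.zpowers x) :
    (∀ a ∈ H, ∀ b ∈ H, a * b = b * a) ∧ ∀ h ∈ H, h ^ (p - 1) = 1 := by
  have hcard : ∀ γ ∈ H, γ ^ (Nat.card H) = 1 := by
    intro γ hγ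
    have h1 : (⟨γ, hγ⟩ : H) ^ (Nat.card H) = 1 := pow_card_eq_one'
    have h2 := congrArg Subtype.val h1
    rw [Subgroup.coe_pow] at h2
    exact h2
  have fix_all : ∀ γ ∈ H, (∀ i : Fin m, (∀ y : S, (y : Ω) ∈ c i.castSucc → γ y = y) →
      ∀ y : S, (y : Ω) ∈ c i.succ → γ y = y) → γ = 1 := by
    intro γ _ hst
    have hall : ∀ i : Fin (m + 1), ∀ y : S, (y : Ω) ∈ c i → γ y = y := by
      intro i
      induction i using Fin.induction with
      | zero =>
        intro y hy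
        rw [h0, Subgroup.mem_bot] at hy
        have : y = 1 := Subtype.ext hy
        rw [this, map_one]
      | succ i ih => exact hst i ih
    apply MulEquiv.ext
    intro y
    have := hall (Fin.last m) y (by rw [hl]; exact y.2)
    rw [this]; rfl
  have key : ∀ i : Fin m, ∀ γ ∈ H,
      ((∃ h ∈ H, ∃ h' ∈ H, γ = (h * h') * (h' * h)⁻¹) ∨ (∃ h ∈ H, γ = h ^ (p - 1))) →
      (∀ y : S, (y : Ω) ∈ c i.castSucc → γ y = y) → ∀ y : S, (y : Ω) ∈ c i.succ → γ y = y := by
    intro i γ hγ hform hfixA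
    obtain ⟨-, x, hx, hAB⟩ := hstep i
    have hA := hsc i.castSucc
    have hB := hsc i.succ
    have hN : ((c i.castSucc).subgroupOf S).Normal := subgroupOf_normal_of_sc _ hA
    have hinvN : ∀ h ∈ H, ∀ n ∈ (c i.castSucc).subgroupOf S, h n ∈ (c i.castSucc).subgroupOf S :=
      fun h hh n hn => Subgroup.mem_subgroupOf.2 (autSys_inv H hA hh n (Subgroup.mem_subgroupOf.1 hn))
    have hmemB : ∀ y : S, (y : Ω) ∈ c i.succ ↔
        y ∈ (c i.castSucc).subgroupOf S ⊔ Subgroup.zpowers (⟨x, hx⟩ : S) := by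
      intro y
      rw [hAB, ← map_sup_zpowers hA.1 ⟨x, hx⟩]
      constructor
      · rintro ⟨z, hz, hz'⟩
        have : z = y := Subtype.ext hz'
        rw [← this]; exact hz
      · intro hy; exact ⟨y, hy, rfl⟩
    have hinvx : ∀ h ∈ H, h (⟨x, hx⟩ : S) ∈
        (c i.castSucc).subgroupOf S ⊔ Subgroup.zpowers (⟨x, hx⟩ : S) := by
      intro h hh
      rw [← hmemB]
      exact autSys_inv H hB hh ⟨x, hx⟩
        (by rw [hAB]; exact Subgroup.mem_sup_right (Subgroup.mem_zpowers x))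
    have hfixN : ∀ a ∈ (c i.castSucc).subgroupOf S, γ a = a :=
      fun a ha => hfixA a (Subgroup.mem_subgroupOf.1 ha)
    intro y hy
    rw [hmemB] at hy
    rcases hform with ⟨h, hh, h', hh', rfl⟩ | ⟨h, hh, rfl⟩
    · refine stab_triv p hS _ (hcard _ hγ) hH ((c i.castSucc).subgroupOf S)
        ((c i.castSucc).subgroupOf S ⊔ Subgroup.zpowers (⟨x, hx⟩ : S)) hfixN ?_ y hy
      intro z hz
      have hz0 : (h' * h)⁻¹ z ∈ (c i.castSucc).subgroupOf S ⊔ Subgroup.zpowers (⟨x, hx⟩ : S) :=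
        sup_aut _ _ _ (hinvN _ (H.inv_mem (H.mul_mem hh' hh)))
          (hinvx _ (H.inv_mem (H.mul_mem hh' hh))) hz
      have h1 := comm_triv _ _ h h' (hinvN h hh) (hinvx h hh) (hinvN h' hh') (hinvx h' hh') hz0
      have e1 : h' (h ((h' * h)⁻¹ z)) = z := by
        show (h' * h) ((h' * h)⁻¹ z) = z
        simp
      have e2 : ((h * h') * (h' * h)⁻¹) z = h (h' ((h' * h)⁻¹ z)) := rfl
      rw [e1] at h1
      rw [e2]; exact h1
    · obtain ⟨n, hn⟩ := IsPGroup.iff_card.1 hS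
      have hall : ∀ j, ∀ z ∈ cycD ((c i.castSucc).subgroupOf S) (⟨x, hx⟩ : S) p j,
          (h ^ (p - 1)) z = z := by
        intro j
        induction j with
        | zero => intro z hz; rw [cycD_zero] at hz; exact hfixN z hz
        | succ j ih =>
          refine stab_triv p hS _ (hcard _ hγ) hH _ _ ih ?_
          intro z hz
          exact pow_triv _ _ p h (hinvN h hh) (hinvx h hh) (hinvN _ (H.inv_mem hh))
            (hinvx _ (H.inv_mem hh)) j hz
      have hDn := cycD_top ((c i.castSucc).subgroupOf S) (⟨x, hx⟩ : S) p n (quot_pow_card p _ hn)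
      exact hall n y (by rw [hDn]; exact hy)
  constructor
  · intro a ha b hb
    have hγ : (a * b) * (b * a)⁻¹ ∈ H :=
      H.mul_mem (H.mul_mem ha hb) (H.inv_mem (H.mul_mem hb ha))
    have := fix_all _ hγ (fun i => key i _ hγ (Or.inl ⟨a, ha, b, hb, rfl⟩))
    exact mul_inv_eq_one.1 this
  · intro h hh
    have hγ : h ^ (p - 1) ∈ H := H.pow_mem hh _
    exact fix_all _ hγ (fun i => key i _ hγ (Or.inr ⟨h, hh, rfl⟩))

end Step

end Cfsg.Agent.Helper27
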