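import Cfsg.Agent.Helper27.Biset9
import Cfsg.Agent.Helper27.FZa

set_option autoImplicit false

namespace Cfsg.Agent.Helper27.TT

open Cfsg Cfsg.FusionSystem MulAction Cfsg.Agent.Helper27.Biset
open scoped Classical

universe u

/-- An equivariant map exists as soon as every point stabilizer fixes some point of the target. -/
theorem exists_equivariant_map {Γ X Y : Type*} [Group Γ] [MulAction Γ X]
    (act : Γ →* Equiv.Perm Y)
    (h : ∀ x : X, ∃ y : Y, ∀ g ∈ stabilizer Γ x, act g y = y) :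
    ∃ f : X → Y, ∀ (g : Γ) (x : X), f (g • x) = act g (f x) := by
  choose y hy using h
  obtain ⟨rep, hrep⟩ : ∃ rep : X → X, ∀ x, rep x = (Quotient.mk (orbitRel Γ X) x).out :=
    ⟨_, fun _ => rfl⟩
  have hrep1 : ∀ x, ∃ g : Γ, g • rep x = x := by
    intro x
    have h1 : rep x ∈ orbit Γ x := by
      rw [hrep]
      exact Quotient.exact (s := orbitRel Γ X) (Quotient.out_eq (Quotient.mk (orbitRel Γ X) x))
    obtain ⟨g, hg⟩ := h1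
    refine ⟨g⁻¹, ?_⟩
    have hg' : g • x = rep x := hg
    rw [← hg', inv_smul_smul]
  have hrk : ∀ (k : Γ) (x : X), rep (k • x) = rep x := by
    intro k x
    rw [hrep, hrep]
    congr 1
    exact Quotient.sound (s := orbitRel Γ X) (show k • x ∈ orbit Γ x from ⟨k, rfl⟩)
  choose g hg using hrep1
  refine ⟨fun x => act (g x) (y (rep x)), fun k x => ?_⟩
  show act (g (k • x)) (y (rep (k • x))) = act k (act (g x) (y (rep x)))
  rw [hrk]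
  have e : g (k • x) • rep x = (k * g x) • rep x := by
    have h1 := hg (k • x)
    rw [hrk] at h1
    rw [h1, mul_smul, hg x]
  have h1 : (k * g x)⁻¹ * g (k • x) ∈ stabilizer Γ (rep x) := by
    rw [mem_stabilizer_iff, mul_smul, e, inv_smul_smul]
  have h2 := hy (rep x) _ h1
  have e2 : g (k • x) = (k * g x) * ((k * g x)⁻¹ * g (k • x)) := by rw [mul_inv_cancel_left]
  rw [e2, map_mul, Equiv.Perm.mul_apply, h2, map_mul, Equiv.Perm.mul_apply]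

section swap
variable {Ω : Type u} [Group Ω] {S : Subgroup Ω} {X : Type*} [MulAction (↥S × ↥S) X]

/-- The swap of two right `N`-orbits. -/
theorem exists_swapN
    (hfree : ∀ (y : X) (s s' : ↥S), ((1, s) : ↥S × ↥S) • y = ((1, s') : ↥S × ↥S) • y → s = s')
    (N : Subgroup ↥S) (x₀ y : X)
    (hy : ¬ ∃ s : ↥N, x₀ = ((1, (s : ↥S)) : ↥S × ↥S) • y) :
    ∃ f : Equiv.Perm X, f x₀ = y ∧
      (∀ (t : ↥N) (w : X), f (((1, (t : ↥S)) : ↥S × ↥S) • w) = ((1, (t : ↥S)) : ↥S × ↥S) • f w) ∧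
      (∀ w : X, f w = w ∨
        (∃ t : ↥N, w = ((1, (t : ↥S)) : ↥S × ↥S) • x₀ ∧ f w = ((1, (t : ↥S)) : ↥S × ↥S) • y) ∨
        (∃ t : ↥N, w = ((1, (t : ↥S)) : ↥S × ↥S) • y ∧
          f w = ((1, (t : ↥S)) : ↥S × ↥S) • x₀)) := by
  have hmulN : ∀ (a b : ↥N) (v : X), ((1, (a : ↥S)) : ↥S × ↥S) • ((1, (b : ↥S)) : ↥S × ↥S) • v =
      ((1, ((a * b : ↥N) : ↥S)) : ↥S × ↥S) • v := by
    intro a b v; rw [Biset.smul_one_mul]; rfl
  have honeN : ∀ v : X, ((1, ((1 : ↥N) : ↥S)) : ↥S × ↥S) • v = v := fun v => smul_one_one v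
  have hfreeN : ∀ (v : X) (a b : ↥N),
      ((1, (a : ↥S)) : ↥S × ↥S) • v = ((1, (b : ↥S)) : ↥S × ↥S) • v → a = b :=
    fun v a b h => Subtype.ext (hfree v _ _ h)
  have hdisj : ∀ s t : ↥N,
      ((1, (s : ↥S)) : ↥S × ↥S) • x₀ ≠ ((1, (t : ↥S)) : ↥S × ↥S) • y := by
    intro s t h
    apply hy
    refine ⟨s⁻¹ * t, ?_⟩
    rw [← hmulN, ← h, hmulN, inv_mul_cancel, honeN]
  let f : X → X := fun w =>
    if h : ∃ s : ↥N, w = ((1, (s : ↥S)) : ↥S × ↥S) • x₀ then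
      ((1, ((Classical.choose h : ↥N) : ↥S)) : ↥S × ↥S) • y
    else if h' : ∃ s : ↥N, w = ((1, (s : ↥S)) : ↥S × ↥S) • y then
      ((1, ((Classical.choose h' : ↥N) : ↥S)) : ↥S × ↥S) • x₀
    else w
  have hf1 : ∀ s : ↥N, f (((1, (s : ↥S)) : ↥S × ↥S) • x₀) = ((1, (s : ↥S)) : ↥S × ↥S) • y := by
    intro s
    have h : ∃ s' : ↥N, ((1, (s : ↥S)) : ↥S × ↥S) • x₀ = ((1, (s' : ↥S)) : ↥S × ↥S) • x₀ :=
      ⟨s, rfl⟩
    simp only [f, dif_pos h]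
    rw [← hfreeN x₀ _ _ (Classical.choose_spec h)]
  have hf2 : ∀ s : ↥N, f (((1, (s : ↥S)) : ↥S × ↥S) • y) = ((1, (s : ↥S)) : ↥S × ↥S) • x₀ := by
    intro s
    have hn : ¬ ∃ s' : ↥N, ((1, (s : ↥S)) : ↥S × ↥S) • y = ((1, (s' : ↥S)) : ↥S × ↥S) • x₀ :=
      fun ⟨s', h⟩ => hdisj s' s h.symm
    have h : ∃ s' : ↥N, ((1, (s : ↥S)) : ↥S × ↥S) • y = ((1, (s' : ↥S)) : ↥S × ↥S) • y :=
      ⟨s, rfl⟩
    simp only [f, dif_neg hn, dif_pos h]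
    rw [← hfreeN y _ _ (Classical.choose_spec h)]
  have hf3 : ∀ w : X, (¬ ∃ s : ↥N, w = ((1, (s : ↥S)) : ↥S × ↥S) • x₀) →
      (¬ ∃ s : ↥N, w = ((1, (s : ↥S)) : ↥S × ↥S) • y) → f w = w := by
    intro w h1 h2
    simp only [f, dif_neg h1, dif_neg h2]
  have hinv : Function.Involutive f := by
    intro w
    by_cases h1 : ∃ s : ↥N, w = ((1, (s : ↥S)) : ↥S × ↥S) • x₀
    · obtain ⟨s, rfl⟩ := h1
      rw [hf1, hf2]
    · by_cases h2 : ∃ s : ↥N, w = ((1, (s : ↥S)) : ↥S × ↥S) • y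
      · obtain ⟨s, rfl⟩ := h2
        rw [hf2, hf1]
      · rw [hf3 w h1 h2, hf3 w h1 h2]
  have hback : ∀ (t : ↥N) (w v : X) (s : ↥N),
      ((1, (t : ↥S)) : ↥S × ↥S) • w = ((1, (s : ↥S)) : ↥S × ↥S) • v →
      w = ((1, ((t⁻¹ * s : ↥N) : ↥S)) : ↥S × ↥S) • v := by
    intro t w v s hs
    rw [← hmulN, ← hs, hmulN, inv_mul_cancel, honeN]
  have hcomm : ∀ (t : ↥N) (w : X),
      f (((1, (t : ↥S)) : ↥S × ↥S) • w) = ((1, (t : ↥S)) : ↥S × ↥S) • f w := by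
    intro t w
    by_cases h1 : ∃ s : ↥N, w = ((1, (s : ↥S)) : ↥S × ↥S) • x₀
    · obtain ⟨s, rfl⟩ := h1
      rw [hmulN, hf1, hf1, hmulN]
    · by_cases h2 : ∃ s : ↥N, w = ((1, (s : ↥S)) : ↥S × ↥S) • y
      · obtain ⟨s, rfl⟩ := h2
        rw [hmulN, hf2, hf2, hmulN]
      · have h1' : ¬ ∃ s : ↥N,
            ((1, (t : ↥S)) : ↥S × ↥S) • w = ((1, (s : ↥S)) : ↥S × ↥S) • x₀ :=
          fun ⟨s, hs⟩ => h1 ⟨_, hback t w x₀ s hs⟩
        have h2' : ¬ ∃ s : ↥N,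
            ((1, (t : ↥S)) : ↥S × ↥S) • w = ((1, (s : ↥S)) : ↥S × ↥S) • y :=
          fun ⟨s, hs⟩ => h2 ⟨_, hback t w y s hs⟩
        rw [hf3 _ h1' h2', hf3 w h1 h2]
  refine ⟨hinv.toPerm f, ?_, fun t w => hcomm t w, fun w => ?_⟩
  · show f x₀ = y
    have h := hf1 1
    rw [honeN, honeN] at h
    exact h
  · by_cases h1 : ∃ s : ↥N, w = ((1, (s : ↥S)) : ↥S × ↥S) • x₀
    · obtain ⟨s, rfl⟩ := h1
      exact Or.inr (Or.inl ⟨s, rfl, hf1 s⟩)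
    · by_cases h2 : ∃ s : ↥N, w = ((1, (s : ↥S)) : ↥S × ↥S) • y
      · obtain ⟨s, rfl⟩ := h2
        exact Or.inr (Or.inr ⟨s, rfl, hf2 s⟩)
      · exact Or.inl (hf3 w h1 h2)

end swap

end Cfsg.Agent.Helper27.TT
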