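import Cfsg.Agent.Helper27.TTa

set_option autoImplicit false

namespace Cfsg.Agent.Helper27.TT

open Cfsg Cfsg.FusionSystem MulAction Cfsg.Agent.Helper27.Biset
open scoped Classical

universe u

variable {Ω : Type u} [Group Ω] {S : Subgroup Ω}

theorem perm_apply_inv {α : Type*} (f : Equiv.Perm α) (x : α) : f (f⁻¹ x) = x :=
  f.apply_symm_apply x

theorem perm_inv_apply {α : Type*} (f : Equiv.Perm α) (x : α) : f⁻¹ (f x) = x :=
  f.symm_apply_apply x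

/-- Extension by `1` of a homomorphism defined on a subgroup. -/
noncomputable def cext (N : Subgroup ↥S) {A : Type*} [CommGroup A] (c : ↥N →* A) : ↥S → A :=
  fun t => if h : t ∈ N then c ⟨t, h⟩ else 1

theorem cext_mem (N : Subgroup ↥S) {A : Type*} [CommGroup A] (c : ↥N →* A) {t : ↥S}
    (ht : t ∈ N) : cext N c t = c ⟨t, ht⟩ := dif_pos ht

theorem cext_mul (N : Subgroup ↥S) {A : Type*} [CommGroup A] (c : ↥N →* A) {t t' : ↥S}
    (ht : t ∈ N) (ht' : t' ∈ N) : cext N c (t * t') = cext N c t * cext N c t' := by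
  rw [cext_mem N c ht, cext_mem N c ht', cext_mem N c (N.mul_mem ht ht'), ← map_mul]
  rfl

section semi
variable {X : Type*} [MulAction (↥S × ↥S) X] (N : Subgroup ↥S) [hN : N.Normal]
  (π : X → ↥S ⧸ N) (x₀ : X)

/-- The permutations preserving the fibre of `π` through `x₀` that are locally semilinear for
the right action of `N` on that fibre. -/
def semi : Subgroup (Equiv.Perm X) where
  carrier := {f | (∀ ξ, π (f ξ) = π x₀ ↔ π ξ = π x₀) ∧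
    ∀ ξ, π ξ = π x₀ → ∃ s : ↥S, ∀ t ∈ N,
      f (((1, t) : ↥S × ↥S) • ξ) = ((1, s * t * s⁻¹) : ↥S × ↥S) • f ξ}
  one_mem' := by
    refine ⟨fun ξ => Iff.rfl, fun ξ _ => ⟨1, fun t _ => ?_⟩⟩
    show ((1, t) : ↥S × ↥S) • ξ = ((1, 1 * t * 1⁻¹) : ↥S × ↥S) • ξ
    rw [one_mul, inv_one, mul_one]
  mul_mem' := by
    rintro f f' ⟨h1, h2⟩ ⟨h1', h2'⟩
    refine ⟨fun ξ => (h1 (f' ξ)).trans (h1' ξ), fun ξ hξ => ?_⟩
    obtain ⟨s', hs'⟩ := h2' ξ hξ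
    obtain ⟨s, hs⟩ := h2 (f' ξ) ((h1' ξ).2 hξ)
    refine ⟨s * s', fun t ht => ?_⟩
    show f (f' (((1, t) : ↥S × ↥S) • ξ)) = ((1, s * s' * t * (s * s')⁻¹) : ↥S × ↥S) • f (f' ξ)
    rw [hs' t ht, hs _ (hN.conj_mem t ht s')]
    have e : s * (s' * t * s'⁻¹) * s⁻¹ = s * s' * t * (s * s')⁻¹ := by group
    rw [e]
  inv_mem' := by
    rintro f ⟨h1, h2⟩
    have hfib : ∀ ξ, π (f⁻¹ ξ) = π x₀ ↔ π ξ = π x₀ := by
      intro ξ
      have := h1 (f⁻¹ ξ)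
      rw [perm_apply_inv] at this
      exact this.symm
    refine ⟨hfib, fun ξ hξ => ?_⟩
    obtain ⟨s, hs⟩ := h2 (f⁻¹ ξ) ((hfib ξ).2 hξ)
    refine ⟨s⁻¹, fun t ht => ?_⟩
    rw [Equiv.Perm.inv_eq_iff_eq]
    have ht' : s⁻¹ * t * s⁻¹⁻¹ ∈ N := hN.conj_mem t ht s⁻¹
    rw [hs _ ht', perm_apply_inv]
    have e : s * (s⁻¹ * t * s⁻¹⁻¹) * s⁻¹ = t := by group
    rw [e]

theorem mem_semi {f : Equiv.Perm X} : f ∈ semi N π x₀ ↔
    (∀ ξ, π (f ξ) = π x₀ ↔ π ξ = π x₀) ∧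
    ∀ ξ, π ξ = π x₀ → ∃ s : ↥S, ∀ t ∈ N,
      f (((1, t) : ↥S × ↥S) • ξ) = ((1, s * t * s⁻¹) : ↥S × ↥S) • f ξ := Iff.rfl

/-- The stabilizer of the right `N`-orbit of `x₀`. -/
def semiStab : Subgroup ↥(semi N π x₀) where
  carrier := {f | ∃ τ ∈ N, (f : Equiv.Perm X) x₀ = ((1, τ) : ↥S × ↥S) • x₀}
  one_mem' := ⟨1, N.one_mem, (smul_one_one x₀).symm⟩
  mul_mem' := by
    rintro f f' ⟨τ, hτ, h⟩ ⟨τ', hτ', h'⟩
    obtain ⟨s, hs⟩ := f.2.2 x₀ rfl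
    refine ⟨s * τ' * s⁻¹ * τ, N.mul_mem (hN.conj_mem τ' hτ' s) hτ, ?_⟩
    show (f : Equiv.Perm X) ((f' : Equiv.Perm X) x₀) = _
    rw [h', hs τ' hτ', h, Biset.smul_one_mul]
  inv_mem' := by
    rintro f ⟨τ, hτ, h⟩
    obtain ⟨s, hs⟩ := (f⁻¹).2.2 x₀ rfl
    refine ⟨(s * τ * s⁻¹)⁻¹, N.inv_mem (hN.conj_mem τ hτ s), ?_⟩
    have h1 := hs τ hτ
    rw [← h] at h1
    have h2 : ((f⁻¹ : ↥(semi N π x₀)) : Equiv.Perm X) ((f : Equiv.Perm X) x₀) = x₀ := by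
      show ((f : Equiv.Perm X))⁻¹ ((f : Equiv.Perm X) x₀) = x₀
      rw [perm_inv_apply]
    rw [h2] at h1
    conv_rhs => rw [h1]
    rw [Biset.smul_one_mul, inv_mul_cancel, smul_one_one]

theorem mem_semiStab {f : ↥(semi N π x₀)} : f ∈ semiStab N π x₀ ↔
    ∃ τ ∈ N, (f : Equiv.Perm X) x₀ = ((1, τ) : ↥S × ↥S) • x₀ := Iff.rfl

/-- The homomorphism on the orbit stabilizer read off from the point `x₀`. -/
theorem exists_theta
    (hfree : ∀ (y : X) (s s' : ↥S), ((1, s) : ↥S × ↥S) • y = ((1, s') : ↥S × ↥S) • y → s = s')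
    {A : Type*} [CommGroup A] (c : ↥N →* A)
    (hc : ∀ (s t : ↥S) (ht : t ∈ N), c ⟨s * t * s⁻¹, hN.conj_mem t ht s⟩ = c ⟨t, ht⟩) :
    ∃ θ : ↥(semiStab N π x₀) →* A, ∀ (f : ↥(semiStab N π x₀)) (τ : ↥S), τ ∈ N →
      ((f : ↥(semi N π x₀)) : Equiv.Perm X) x₀ = ((1, τ) : ↥S × ↥S) • x₀ →
      θ f = cext N c τ := by
  have hspec : ∀ f : ↥(semiStab N π x₀), Classical.choose f.2 ∈ N ∧
      ((f : ↥(semi N π x₀)) : Equiv.Perm X) x₀ = ((1, Classical.choose f.2) : ↥S × ↥S) • x₀ :=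
    fun f => Classical.choose_spec f.2
  have huniq : ∀ (f : ↥(semiStab N π x₀)) (τ : ↥S),
      ((f : ↥(semi N π x₀)) : Equiv.Perm X) x₀ = ((1, τ) : ↥S × ↥S) • x₀ →
      Classical.choose f.2 = τ :=
    fun f τ h => hfree x₀ _ _ ((hspec f).2.symm.trans h)
  refine ⟨MonoidHom.mk' (fun f => cext N c (Classical.choose f.2)) (fun a b => ?_),
    fun f τ _ h => ?_⟩
  · obtain ⟨s, hs⟩ := (a : ↥(semi N π x₀)).2.2 x₀ rfl
    obtain ⟨τa, hτa⟩ : ∃ τ, τ = Classical.choose a.2 := ⟨_, rfl⟩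
    obtain ⟨τb, hτb⟩ : ∃ τ, τ = Classical.choose b.2 := ⟨_, rfl⟩
    have ha := hspec a
    have hb := hspec b
    rw [← hτa] at ha
    rw [← hτb] at hb
    have hab : Classical.choose (a * b).2 = s * τb * s⁻¹ * τa := by
      apply huniq
      show ((a : ↥(semi N π x₀)) : Equiv.Perm X) (((b : ↥(semi N π x₀)) : Equiv.Perm X) x₀) = _
      rw [hb.2, hs _ hb.1, ha.2, Biset.smul_one_mul]
    show cext N c (Classical.choose (a * b).2) =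
      cext N c (Classical.choose a.2) * cext N c (Classical.choose b.2)
    rw [hab, ← hτa, ← hτb, cext_mul N c (hN.conj_mem _ hb.1 s) ha.1,
      cext_mem N c (hN.conj_mem _ hb.1 s), hc s _ hb.1,
      ← cext_mem N c hb.1, mul_comm]
  · show cext N c (Classical.choose f.2) = _
    rw [huniq f τ h]

end semi

end Cfsg.Agent.Helper27.TT
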