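import Cfsg.Agent.Helper27.TTb

set_option autoImplicit false

namespace Cfsg.Agent.Helper27.TT

open Cfsg Cfsg.FusionSystem MulAction Cfsg.Agent.Helper27.Biset
open scoped Classical

universe u

variable {Ω : Type u} [Group Ω] {S : Subgroup Ω}

section semi
variable {X : Type*} [MulAction (↥S × ↥S) X] (N : Subgroup ↥S) [hN : N.Normal]
  (π : X → ↥S ⧸ N) (x₀ : X)

theorem semi_transitive
    (hfree : ∀ (y : X) (s s' : ↥S), ((1, s) : ↥S × ↥S) • y = ((1, s') : ↥S × ↥S) • y → s = s')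
    (hπ : ∀ (a b : ↥S) (ξ : X), π (((a, b) : ↥S × ↥S) • ξ) =
      (QuotientGroup.mk a : ↥S ⧸ N) * π ξ * (QuotientGroup.mk b : ↥S ⧸ N)⁻¹)
    (η : X) (hη : π η = π x₀) :
    ∃ f : ↥(semi N π x₀), ∃ t ∈ N, (f : Equiv.Perm X) x₀ = ((1, t) : ↥S × ↥S) • η := by
  have hπN : ∀ (t : ↥S), t ∈ N → ∀ ξ, π (((1, t) : ↥S × ↥S) • ξ) = π ξ := by
    intro t ht ξ
    rw [hπ, (QuotientGroup.eq_one_iff t).2 ht, inv_one, mul_one, QuotientGroup.mk_one, one_mul]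
  by_cases hy : ∃ s : ↥N, x₀ = ((1, (s : ↥S)) : ↥S × ↥S) • η
  · obtain ⟨s, hs⟩ := hy
    exact ⟨1, s, s.2, hs⟩
  · obtain ⟨f, hf1, hf2, hf3⟩ := exists_swapN hfree N x₀ η hy
    refine ⟨⟨f, ?_, ?_⟩, 1, N.one_mem, ?_⟩
    · intro ξ
      rcases hf3 ξ with h | ⟨t, h1, h2⟩ | ⟨t, h1, h2⟩
      · rw [h]
      · subst h1
        rw [h2, hπN _ t.2, hπN _ t.2, hη]
      · subst h1
        rw [h2, hπN _ t.2, hπN _ t.2, hη]
    · intro ξ _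
      refine ⟨1, fun t ht => ?_⟩
      rw [one_mul, inv_one, mul_one]
      exact hf2 ⟨t, ht⟩ ξ
    · show f x₀ = _
      rw [hf1]; exact (smul_one_one η).symm

theorem semi_index [Finite S] [Finite X]
    (hfree : ∀ (y : X) (s s' : ↥S), ((1, s) : ↥S × ↥S) • y = ((1, s') : ↥S × ↥S) • y → s = s')
    (hπ : ∀ (a b : ↥S) (ξ : X), π (((a, b) : ↥S × ↥S) • ξ) =
      (QuotientGroup.mk a : ↥S ⧸ N) * π ξ * (QuotientGroup.mk b : ↥S ⧸ N)⁻¹) :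
    (semiStab N π x₀).index * Nat.card S = Nat.card X := by
  rw [Subgroup.index, ← Nat.card_prod]
  refine Nat.card_congr (Equiv.ofBijective
    (fun qs : (↥(semi N π x₀) ⧸ semiStab N π x₀) × ↥S =>
      ((1, qs.2) : ↥S × ↥S) • ((qs.1.out : ↥(semi N π x₀)) : Equiv.Perm X) x₀) ⟨?_, ?_⟩)
  · rintro ⟨q, s⟩ ⟨q', s'⟩ h
    have h' : ((1, s) : ↥S × ↥S) • ((q.out : ↥(semi N π x₀)) : Equiv.Perm X) x₀ =
        ((1, s') : ↥S × ↥S) • ((q'.out : ↥(semi N π x₀)) : Equiv.Perm X) x₀ := h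
    have hfq : π (((q.out : ↥(semi N π x₀)) : Equiv.Perm X) x₀) = π x₀ :=
      ((q.out).2.1 x₀).2 rfl
    have hfq' : π (((q'.out : ↥(semi N π x₀)) : Equiv.Perm X) x₀) = π x₀ :=
      ((q'.out).2.1 x₀).2 rfl
    have h1 := congrArg π h'
    rw [hπ, hπ, hfq, hfq', QuotientGroup.mk_one, one_mul, mul_right_inj, inv_inj] at h1
    have hN' : s⁻¹ * s' ∈ N := QuotientGroup.eq.1 h1
    have h2 : ((q.out : ↥(semi N π x₀)) : Equiv.Perm X) x₀ =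
        ((1, s⁻¹ * s') : ↥S × ↥S) • ((q'.out : ↥(semi N π x₀)) : Equiv.Perm X) x₀ := by
      rw [← Biset.smul_one_mul, ← h', Biset.smul_one_mul, inv_mul_cancel, smul_one_one]
    obtain ⟨s'', hs''⟩ := ((q'.out)⁻¹).2.2 (((q'.out : ↥(semi N π x₀)) : Equiv.Perm X) x₀) hfq'
    have h3 : (q'.out)⁻¹ * q.out ∈ semiStab N π x₀ := by
      refine ⟨s'' * (s⁻¹ * s') * s''⁻¹, hN.conj_mem _ hN' s'', ?_⟩
      show (((q'.out)⁻¹ : ↥(semi N π x₀)) : Equiv.Perm X)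
        (((q.out : ↥(semi N π x₀)) : Equiv.Perm X) x₀) = _
      rw [h2, hs'' _ hN']
      congr 1
      show (((q'.out : ↥(semi N π x₀)) : Equiv.Perm X))⁻¹
        (((q'.out : ↥(semi N π x₀)) : Equiv.Perm X) x₀) = x₀
      exact perm_inv_apply _ _
    have hq : q' = q := by
      rw [← QuotientGroup.out_eq' q, ← QuotientGroup.out_eq' q', QuotientGroup.eq]
      exact h3
    subst hq
    have hs : s = s' := hfree _ _ _ h'
    rw [hs]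
  · intro ξ
    obtain ⟨b, hb⟩ := QuotientGroup.mk_surjective ((π x₀)⁻¹ * π ξ)
    have hη : π (((1, b) : ↥S × ↥S) • ξ) = π x₀ := by
      rw [hπ, hb, QuotientGroup.mk_one, one_mul, mul_inv_rev, inv_inv, mul_inv_cancel_left]
    obtain ⟨f, t, ht, hf⟩ := semi_transitive N π x₀ hfree hπ _ hη
    obtain ⟨δ, hδ⟩ := QuotientGroup.mk_out_eq_mul (semiStab N π x₀) f
    obtain ⟨τ, hτ, hδx⟩ := δ.2
    obtain ⟨s, hs⟩ := f.2.2 x₀ rfl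
    refine ⟨(QuotientGroup.mk f, (s * τ * s⁻¹ * t * b)⁻¹), ?_⟩
    show ((1, (s * τ * s⁻¹ * t * b)⁻¹) : ↥S × ↥S) •
      (((QuotientGroup.mk f : ↥(semi N π x₀) ⧸ semiStab N π x₀).out : ↥(semi N π x₀)) :
        Equiv.Perm X) x₀ = ξ
    rw [hδ]
    show ((1, (s * τ * s⁻¹ * t * b)⁻¹) : ↥S × ↥S) • (f : Equiv.Perm X)
      (((δ : ↥(semi N π x₀)) : Equiv.Perm X) x₀) = ξ
    rw [hδx, hs τ hτ, hf, Biset.smul_one_mul, Biset.smul_one_mul, Biset.smul_one_mul]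
    have e : (s * τ * s⁻¹ * t * b)⁻¹ * (s * τ * s⁻¹) * t * b = 1 := by group
    rw [e, smul_one_one]

end semi

/-- The transfer identity behind Tate's theorem, for a biset with an equivariant map to a
quotient of `S`. -/
theorem tate_biset [Finite S] {X : Type*} [Finite X] [MulAction (↥S × ↥S) X]
    (hfree : ∀ (y : X) (s s' : ↥S), ((1, s) : ↥S × ↥S) • y = ((1, s') : ↥S × ↥S) • y → s = s')
    (N : Subgroup ↥S) [hN : N.Normal] (π : X → ↥S ⧸ N)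
    (hπ : ∀ (a b : ↥S) (ξ : X), π (((a, b) : ↥S × ↥S) • ξ) =
      (QuotientGroup.mk a : ↥S ⧸ N) * π ξ * (QuotientGroup.mk b : ↥S ⧸ N)⁻¹)
    (x₀ : X) (hx₀ : ∀ a : ↥S, ((a, a) : ↥S × ↥S) • x₀ = x₀)
    {A : Type*} [CommGroup A] (c : ↥N →* A)
    (hc : ∀ (s t : ↥S) (ht : t ∈ N), c ⟨s * t * s⁻¹, hN.conj_mem t ht s⟩ = c ⟨t, ht⟩)
    (hl : ∀ (l : ↥S →* A) (t : ↥N), l t = 1) :
    ∃ n : ℕ, n * Nat.card S = Nat.card X ∧ ∃ W : ↥N → A, (∀ t : ↥N, W t * c t ^ n = 1) ∧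
      ∀ (t t' : ↥N) (f₀ : Equiv.Perm X),
        (∀ (s : ↥S) (ξ : X), f₀ (((1, s) : ↥S × ↥S) • ξ) = ((1, s) : ↥S × ↥S) • f₀ ξ) →
        (∀ ξ : X, f₀ ((((t : ↥S), 1) : ↥S × ↥S) • ξ) = (((t' : ↥S), 1) : ↥S × ↥S) • f₀ ξ) →
        W t = W t' := by
  have hcen : ∀ a : ↥S, (QuotientGroup.mk a : ↥S ⧸ N) * π x₀ =
      π x₀ * (QuotientGroup.mk a : ↥S ⧸ N) := by
    intro a
    have h1 := hπ a a x₀
    rw [hx₀ a, eq_mul_inv_iff_mul_eq] at h1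
    exact h1.symm
  have hmkN : ∀ t : ↥S, t ∈ N → (QuotientGroup.mk t : ↥S ⧸ N) = 1 :=
    fun t ht => (QuotientGroup.eq_one_iff t).2 ht
  have hmk1 : (QuotientGroup.mk (1 : ↥S) : ↥S ⧸ N) = 1 := QuotientGroup.mk_one N
  obtain ⟨θ, hθ⟩ := exists_theta N π x₀ hfree c hc
  have hR : ∀ x : ↥S, x ∈ N → (MulAction.toPermHom (↥S × ↥S) X (1, x)) ∈ semi N π x₀ := by
    intro x hx
    refine ⟨fun ξ => ?_, fun ξ _ => ⟨x, fun t _ => ?_⟩⟩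
    · show π (((1, x) : ↥S × ↥S) • ξ) = π x₀ ↔ π ξ = π x₀
      rw [hπ, hmkN x hx, hmk1, one_mul, inv_one, mul_one]
    · show ((1, x) : ↥S × ↥S) • ((1, t) : ↥S × ↥S) • ξ =
        ((1, x * t * x⁻¹) : ↥S × ↥S) • ((1, x) : ↥S × ↥S) • ξ
      rw [Biset.smul_one_mul, Biset.smul_one_mul, inv_mul_cancel_right]
  have hC : ∀ a : ↥S, (MulAction.toPermHom (↥S × ↥S) X (a, a)) ∈ semi N π x₀ := by
    intro a
    refine ⟨fun ξ => ?_, fun ξ _ => ⟨a, fun t _ => ?_⟩⟩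
    · show π (((a, a) : ↥S × ↥S) • ξ) = π x₀ ↔ π ξ = π x₀
      rw [hπ, mul_inv_eq_iff_eq_mul, ← hcen a, mul_right_inj]
    · show ((a, a) : ↥S × ↥S) • ((1, t) : ↥S × ↥S) • ξ =
        ((1, a * t * a⁻¹) : ↥S × ↥S) • ((a, a) : ↥S × ↥S) • ξ
      rw [← mul_smul, ← mul_smul]
      congr 1
      ext <;> simp
  have hL : ∀ x : ↥S, x ∈ N → (MulAction.toPermHom (↥S × ↥S) X (x, 1)) ∈ semi N π x₀ := by
    intro x hx
    refine ⟨fun ξ => ?_, fun ξ _ => ⟨1, fun t _ => ?_⟩⟩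
    · show π (((x, 1) : ↥S × ↥S) • ξ) = π x₀ ↔ π ξ = π x₀
      rw [hπ, hmkN x hx, hmk1, one_mul, inv_one, mul_one]
    · show ((x, 1) : ↥S × ↥S) • ((1, t) : ↥S × ↥S) • ξ =
        ((1, 1 * t * 1⁻¹) : ↥S × ↥S) • ((x, 1) : ↥S × ↥S) • ξ
      rw [one_mul, inv_one, mul_one, smul_left_right]
  let Rh : ↥N →* ↥(semi N π x₀) := MonoidHom.codRestrict
    ((MulAction.toPermHom (↥S × ↥S) X).comp ((MonoidHom.inr ↥S ↥S).comp N.subtype))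
    (semi N π x₀) (fun x => hR x x.2)
  let Ch : ↥S →* ↥(semi N π x₀) := MonoidHom.codRestrict
    ((MulAction.toPermHom (↥S × ↥S) X).comp ((MonoidHom.id ↥S).prod (MonoidHom.id ↥S)))
    (semi N π x₀) (fun a => hC a)
  let Lh : ↥N →* ↥(semi N π x₀) := MonoidHom.codRestrict
    ((MulAction.toPermHom (↥S × ↥S) X).comp ((MonoidHom.inl ↥S ↥S).comp N.subtype))
    (semi N π x₀) (fun x => hL x x.2)
  have hRa : ∀ (x : ↥N) (ξ : X), ((Rh x : ↥(semi N π x₀)) : Equiv.Perm X) ξ =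
      ((1, (x : ↥S)) : ↥S × ↥S) • ξ := fun _ _ => rfl
  have hCLR : ∀ x : ↥N, Ch (x : ↥S) = Lh x * Rh x := by
    intro x
    apply Subtype.ext
    apply Equiv.ext
    intro ξ
    show (((x : ↥S), (x : ↥S)) : ↥S × ↥S) • ξ =
      (((x : ↥S), 1) : ↥S × ↥S) • ((1, (x : ↥S)) : ↥S × ↥S) • ξ
    rw [← mul_smul]
    congr 1
    ext <;> simp
  have hVR : ∀ x : ↥N, MonoidHom.transfer θ (Rh x) = c x ^ (semiStab N π x₀).index := by
    intro x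
    apply Cfsg.Agent.Helper27.FZ.transfer_const θ (Rh x) (c x)
    intro k w hk
    obtain ⟨s, hs⟩ := (w⁻¹).2.2 ((w : Equiv.Perm X) x₀) ((w.2.1 x₀).2 rfl)
    have hxk : ((x ^ k : ↥N) : ↥S) ∈ N := (x ^ k).2
    have e1 : ((w⁻¹ * Rh x ^ k * w : ↥(semi N π x₀)) : Equiv.Perm X) x₀ =
        ((1, s * ((x ^ k : ↥N) : ↥S) * s⁻¹) : ↥S × ↥S) • x₀ := by
      rw [← map_pow]
      show ((w⁻¹ : ↥(semi N π x₀)) : Equiv.Perm X)
        (((Rh (x ^ k) : ↥(semi N π x₀)) : Equiv.Perm X) ((w : Equiv.Perm X) x₀)) = _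
      rw [hRa, hs _ hxk]
      congr 1
      show ((w : Equiv.Perm X))⁻¹ ((w : Equiv.Perm X) x₀) = x₀
      exact perm_inv_apply _ _
    rw [hθ ⟨_, hk⟩ _ (hN.conj_mem _ hxk s) e1, cext_mem N c (hN.conj_mem _ hxk s), hc s _ hxk]
    show c (x ^ k) = c x ^ k
    rw [map_pow]
  have hVC : ∀ x : ↥N, MonoidHom.transfer θ (Ch (x : ↥S)) = 1 :=
    fun x => hl ((MonoidHom.transfer θ).comp Ch) x
  refine ⟨(semiStab N π x₀).index, semi_index N π x₀ hfree hπ,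
    fun t => MonoidHom.transfer θ (Lh t), fun t => ?_, ?_⟩
  · have h1 := hVC t
    rw [hCLR, map_mul, hVR] at h1
    exact h1
  · intro t t' f₀ hf₀ hconj
    obtain ⟨σ, hσ⟩ : ∃ σ : X → ↥S, ∀ ξ, σ ξ = ((π ξ)⁻¹ * π (f₀ ξ)).out := ⟨_, fun _ => rfl⟩
    have hσmk : ∀ ξ, (QuotientGroup.mk (σ ξ) : ↥S ⧸ N) = (π ξ)⁻¹ * π (f₀ ξ) := by
      intro ξ; rw [hσ]; exact QuotientGroup.out_eq' _
    have hσN : ∀ (u : ↥S), u ∈ N → ∀ ξ, σ (((1, u) : ↥S × ↥S) • ξ) = σ ξ := by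
      intro u hu ξ
      rw [hσ, hσ, hf₀, hπ, hπ, hmkN u hu, hmk1, one_mul, one_mul, inv_one, mul_one, mul_one]
    have hσL : ∀ ξ, σ ((((t : ↥S), 1) : ↥S × ↥S) • ξ) = σ ξ := by
      intro ξ
      rw [hσ, hσ, hconj, hπ, hπ, hmkN _ t.2, hmkN _ t'.2, hmk1, one_mul, one_mul, inv_one,
        mul_one, mul_one]
    obtain ⟨f₁, hf₁⟩ : ∃ f₁ : X → X, ∀ ξ, f₁ ξ = ((1, σ ξ) : ↥S × ↥S) • f₀ ξ :=
      ⟨_, fun _ => rfl⟩
    have hπf₁ : ∀ ξ, π (f₁ ξ) = π ξ := by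
      intro ξ
      rw [hf₁, hπ, hσmk, hmk1, one_mul, mul_inv_rev, inv_inv, mul_inv_cancel_left]
    have hinj : Function.Injective f₁ := by
      intro ξ ξ' h
      have h0 : π ξ = π ξ' := by rw [← hπf₁ ξ, ← hπf₁ ξ', h]
      rw [hf₁, hf₁] at h
      obtain ⟨u, hu⟩ : ∃ u, u = (σ ξ)⁻¹ * σ ξ' := ⟨_, rfl⟩
      have h1 : f₀ ξ = f₀ (((1, u) : ↥S × ↥S) • ξ') := by
        rw [hf₀, hu, ← Biset.smul_one_mul, ← h, Biset.smul_one_mul, inv_mul_cancel, smul_one_one]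
      have h2 : ξ = ((1, u) : ↥S × ↥S) • ξ' := f₀.injective h1
      have h3 : u ∈ N := by
        have h4 := congrArg π h2
        rw [hπ, hmk1, one_mul, h0, left_eq_mul, inv_eq_one] at h4
        exact (QuotientGroup.eq_one_iff _).1 h4
      have h5 : σ ξ = σ ξ' := by rw [h2]; exact hσN u h3 ξ'
      have hu1 : u = 1 := by rw [hu, h5, inv_mul_cancel]
      rw [h2, hu1, smul_one_one]
    have hbij : Function.Bijective f₁ := Finite.injective_iff_bijective.1 hinj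
    obtain ⟨e₁, he₁a⟩ : ∃ e₁ : Equiv.Perm X, ∀ ξ, e₁ ξ = f₁ ξ :=
      ⟨Equiv.ofBijective f₁ hbij, fun _ => rfl⟩
    have he₁ : e₁ ∈ semi N π x₀ := by
      refine ⟨fun ξ => ?_, fun ξ _ => ⟨σ ξ, fun u hu => ?_⟩⟩
      · rw [he₁a, hπf₁]
      · rw [he₁a, he₁a, hf₁, hf₁, hσN u hu, hf₀, Biset.smul_one_mul, Biset.smul_one_mul,
          inv_mul_cancel_right]
    have hrel : (⟨e₁, he₁⟩ : ↥(semi N π x₀)) * Lh t = Lh t' * ⟨e₁, he₁⟩ := by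
      apply Subtype.ext
      apply Equiv.ext
      intro ξ
      show e₁ ((((t : ↥S), 1) : ↥S × ↥S) • ξ) = (((t' : ↥S), 1) : ↥S × ↥S) • e₁ ξ
      rw [he₁a, he₁a, hf₁, hf₁, hσL, hconj, smul_left_right]
    show MonoidHom.transfer θ (Lh t) = MonoidHom.transfer θ (Lh t')
    have h2 : Lh t' = ⟨e₁, he₁⟩ * Lh t * (⟨e₁, he₁⟩ : ↥(semi N π x₀))⁻¹ := by
      rw [hrel, mul_inv_cancel_right]
    rw [h2, map_mul, map_mul, map_inv, mul_comm, inv_mul_cancel_left]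

end Cfsg.Agent.Helper27.TT
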