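import Cfsg.Agent.Helper27.TTc
import Cfsg.Agent.Helper26.FusionHyp2
import Cfsg.Agent.Lead.Tate

set_option autoImplicit false

namespace Cfsg.Agent.Helper27.TT

open Cfsg Cfsg.FusionSystem MulAction Cfsg.Agent.Helper26 Cfsg.Agent.Helper27.Biset
open scoped Classical

universe u

variable {Ω : Type u} [Group Ω] {S : Subgroup Ω}

theorem hyp_map_mem [Finite S] (p : ℕ) [Fact p.Prime] (hS : IsPGroup p S)
    (F : FusionSystem S) (hF : F.IsSaturated p) {P : Subgroup Ω} {φ : P →* Ω}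
    (hφ : φ ∈ F.Hom P) (x : P) (hx : (x : Ω) ∈ F.hyperfocalSubgroup p) :
    φ x ∈ F.hyperfocalSubgroup p := by
  obtain ⟨s, hs, h⟩ := exists_conj_mod_hyperfocal p hS F hF hφ
  have e : φ x = (s * (x : Ω) * s⁻¹) * ((s * (x : Ω) * s⁻¹)⁻¹ * φ x) := by group
  rw [e]
  exact Subgroup.mul_mem _ (hyperfocal_conj_mem F p hs hx) (h x)

/-- An `S`-invariant homomorphism on the hyperfocal subgroup is invariant under the whole
system, as soon as the homomorphisms defined on `S` are trivial on the hyperfocal subgroup. -/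
theorem hyp_hom_invariant [Finite S] (p : ℕ) [Fact p.Prime] (hS : IsPGroup p S)
    (F : FusionSystem S) (hF : F.IsSaturated p)
    (N : Subgroup ↥S) [hN : N.Normal]
    (hNT : ∀ t : ↥S, t ∈ N ↔ (t : Ω) ∈ F.hyperfocalSubgroup p)
    {A : Type*} [CommGroup A] (hA : ∀ a : A, a ^ p = 1) (c : ↥N →* A)
    (hc : ∀ (s t : ↥S) (ht : t ∈ N), c ⟨s * t * s⁻¹, hN.conj_mem t ht s⟩ = c ⟨t, ht⟩)
    (hl : ∀ (l : ↥S →* A) (t : ↥N), l t = 1)
    {P : Subgroup Ω} {φ : P →* Ω} (hφ : φ ∈ F.Hom P) (x : P)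
    (hx : (x : Ω) ∈ F.hyperfocalSubgroup p) (hx' : φ x ∈ F.hyperfocalSubgroup p) :
    c ⟨⟨φ x, (F.le_of_mem hφ).2 x⟩, (hNT _).2 hx'⟩ =
      c ⟨⟨x, (F.le_of_mem hφ).1 x.2⟩, (hNT _).2 hx⟩ := by
  obtain ⟨X, hXfin, hXact, hgr, hst, ⟨x₀, hx₀⟩, r, hr, hcard⟩ := exists_char_biset p hS F hF
  have hfree : ∀ (y : X) (s s' : ↥S),
      ((1, s) : ↥S × ↥S) • y = ((1, s') : ↥S × ↥S) • y → s = s' :=
    fun y s s' h => free_right F hgr y h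
  obtain ⟨act, hact⟩ : ∃ act : ↥S × ↥S →* Equiv.Perm (↥S ⧸ N), ∀ (g : ↥S × ↥S) (q : ↥S ⧸ N),
      act g q = (QuotientGroup.mk g.1 : ↥S ⧸ N) * (q * (QuotientGroup.mk g.2 : ↥S ⧸ N)⁻¹) := by
    refine ⟨{ toFun := fun g => (Equiv.mulLeft (QuotientGroup.mk g.1 : ↥S ⧸ N)) *
                (Equiv.mulRight ((QuotientGroup.mk g.2 : ↥S ⧸ N))⁻¹)
              map_one' := ?_
              map_mul' := ?_ }, fun g q => rfl⟩
    · ext q
      simp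
    · intro g g'
      ext q
      simp [mul_assoc]
  obtain ⟨π, hπ'⟩ := exists_equivariant_map (X := X) act (fun ξ => by
    obtain ⟨R, χ, hχ, hmem⟩ := hgr ξ
    obtain ⟨s, hs, hsχ⟩ := exists_conj_mod_hyperfocal p hS F hF hχ
    refine ⟨(QuotientGroup.mk (⟨s, hs⟩ : ↥S) : ↥S ⧸ N), fun g hg => ?_⟩
    obtain ⟨rr, hr1, hr2⟩ := (hmem g).1 hg
    have h1 : ((⟨s, hs⟩ : ↥S) * g.2 * (⟨s, hs⟩ : ↥S)⁻¹)⁻¹ * g.1 ∈ N := by
      rw [hNT]
      have h2 := hsχ rr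
      rw [hr1, hr2] at h2
      exact h2
    have h2 : (QuotientGroup.mk g.1 : ↥S ⧸ N) =
        QuotientGroup.mk ((⟨s, hs⟩ : ↥S) * g.2 * (⟨s, hs⟩ : ↥S)⁻¹) :=
      (QuotientGroup.eq.2 h1).symm
    rw [hact, h2]
    simp)
  have hπ : ∀ (a b : ↥S) (ξ : X), π (((a, b) : ↥S × ↥S) • ξ) =
      (QuotientGroup.mk a : ↥S ⧸ N) * π ξ * (QuotientGroup.mk b : ↥S ⧸ N)⁻¹ := by
    intro a b ξ
    rw [hπ', hact, mul_assoc]
  have hx₀' : ∀ a : ↥S, ((a, a) : ↥S × ↥S) • x₀ = x₀ := by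
    intro a
    have h1 : ((a, a) : ↥S × ↥S) ∈ stabilizer (↥S × ↥S) x₀ := by
      rw [hx₀]; exact rfl
    exact h1
  obtain ⟨n, hn, W, hW, hWinv⟩ := tate_biset hfree N π hπ x₀ hx₀' c hc hl
  have hpn : ¬ p ∣ n := by
    intro hdvd
    rw [← hn] at hcard
    have hpos : 0 < Nat.card S := Nat.card_pos
    have h2 : n ≡ r [MOD p] := Nat.ModEq.mul_right_cancel' hpos.ne' hcard
    exact hr ((Nat.ModEq.dvd_iff h2 (dvd_refl p)).1 hdvd)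
  have hreal : F.IsRealizedBy (leftHom S X) :=
    realized F X hgr ⟨x₀, hx₀⟩ (fun P ψ₁ ψ₂ h₁ h₂ K => by
      have : Finite P := finite_of_le (F.le_of_mem h₁).1
      exact hst P ψ₁ ψ₂ h₁ h₂ K Nat.card_pos)
  obtain ⟨g, hg⟩ := (hreal.2 P (F.le_of_mem hφ).1 φ (F.le_of_mem hφ).2).1 hφ
  obtain ⟨t, ht⟩ : ∃ t : ↥N, t = ⟨⟨x, (F.le_of_mem hφ).1 x.2⟩, (hNT _).2 hx⟩ := ⟨_, rfl⟩
  obtain ⟨t', ht'⟩ : ∃ t' : ↥N, t' = ⟨⟨φ x, (F.le_of_mem hφ).2 x⟩, (hNT _).2 hx'⟩ := ⟨_, rfl⟩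
  have hWtt : W t = W t' := by
    refine hWinv t t' (g : Equiv.Perm X) (fun s ξ => mem_autGrp.1 g.2 s ξ) (fun ξ => ?_)
    have h1 := hg x
    have h2 : leftHom S X ⟨φ x, (F.le_of_mem hφ).2 x⟩ * g =
        g * leftHom S X ⟨x, (F.le_of_mem hφ).1 x.2⟩ := by
      rw [h1, inv_mul_cancel_right]
    have h3 := congrArg (fun e : ↥(autGrp S X) => (e : Equiv.Perm X) ξ) h2
    rw [ht, ht']
    exact h3.symm
  rw [← ht, ← ht']
  have e1 := hW t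
  have e2 := hW t'
  have e3 : c t ^ n = c t' ^ n := by
    rw [hWtt] at e1
    exact mul_left_cancel (e1.trans e2.symm)
  have hcop : Nat.Coprime n p :=
    ((Nat.Prime.coprime_iff_not_dvd (Fact.out : p.Prime)).2 hpn).symm
  have e4 : (c t' * (c t)⁻¹) ^ n = 1 := by rw [mul_pow, inv_pow, e3, mul_inv_cancel]
  have e5 : c t' * (c t)⁻¹ = 1 := by
    have o1 := orderOf_dvd_of_pow_eq_one e4
    have o2 := orderOf_dvd_of_pow_eq_one (hA (c t' * (c t)⁻¹))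
    have o3 := Nat.dvd_gcd o1 o2
    rw [Nat.Coprime.gcd_eq_one hcop] at o3
    exact orderOf_eq_one_iff.1 (Nat.dvd_one.1 o3)
  exact mul_inv_eq_one.1 e5

end Cfsg.Agent.Helper27.TT
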