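import Cfsg.Agent.Helper27.TTd
import Cfsg.Agent.Helper26.FusionAlperin

set_option autoImplicit false

namespace Cfsg.Agent.Helper27.TT

open Cfsg Cfsg.FusionSystem MulAction Cfsg.Agent.Helper26 Cfsg.Agent.Helper27.Biset
open scoped Classical

universe u

variable {Ω : Type u} [Group Ω] {S : Subgroup Ω}

/-- Tate's theorem for fusion systems, first form: if the homomorphisms from `S` to a group of
order `p` are trivial on the hyperfocal subgroup, the hyperfocal subgroup is trivial. -/
theorem hyperfocal_eq_bot [Finite S] (p : ℕ) [Fact p.Prime] (hS : IsPGroup p S)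
    (F : FusionSystem S) (hF : F.IsSaturated p)
    (hl : ∀ (l : ↥S →* Multiplicative (ZMod p)) (t : ↥S),
      (t : Ω) ∈ F.hyperfocalSubgroup p → l t = 1) :
    F.hyperfocalSubgroup p = ⊥ := by
  by_contra hne
  obtain ⟨N, hNdef⟩ : ∃ N : Subgroup ↥S, N = (F.hyperfocalSubgroup p).subgroupOf S := ⟨_, rfl⟩
  have hNT : ∀ t : ↥S, t ∈ N ↔ (t : Ω) ∈ F.hyperfocalSubgroup p := by
    intro t; rw [hNdef, Subgroup.mem_subgroupOf]
  have hN : N.Normal := ⟨fun t ht s => by
    rw [hNT] at ht ⊢
    exact hyperfocal_conj_mem F p s.2 ht⟩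
  have hNne : N ≠ ⊥ := by
    intro h
    apply hne
    rw [eq_bot_iff]
    intro y hy
    have hyS : y ∈ S := hyperfocal_le F p hy
    have h1 : (⟨y, hyS⟩ : ↥S) ∈ N := (hNT _).2 hy
    rw [h, Subgroup.mem_bot] at h1
    rw [Subgroup.mem_bot]
    exact congrArg Subtype.val h1
  have hAcard : Nat.card (Multiplicative (ZMod p)) = p := by
    rw [Nat.card_eq_fintype_card, Fintype.card_multiplicative, ZMod.card]
  obtain ⟨c, hc, f, hf⟩ := Cfsg.Agent.Lead.exists_invariant_hom
    (A := Multiplicative (ZMod p)) hAcard hS N hNne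
  have hAp : ∀ a : Multiplicative (ZMod p), a ^ p = 1 := fun a => by
    have := pow_card_eq_one' (x := a); rwa [hAcard] at this
  have hc' : ∀ (s t : ↥S) (ht : t ∈ N), c ⟨s * t * s⁻¹, hN.conj_mem t ht s⟩ = c ⟨t, ht⟩ :=
    fun s t ht => hc s ⟨t, ht⟩
  have hl' : ∀ (l : ↥S →* Multiplicative (ZMod p)) (t : ↥N), l t = 1 :=
    fun l t => hl l t ((hNT _).1 t.2)
  obtain ⟨ct, hct, hct'⟩ : ∃ ct : Ω → Multiplicative (ZMod p),
      (∀ (y : Ω) (h : y ∈ F.hyperfocalSubgroup p),
        ct y = c ⟨⟨y, hyperfocal_le F p h⟩, (hNT _).2 h⟩) ∧ True :=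
    ⟨fun y => if h : y ∈ F.hyperfocalSubgroup p then
      c ⟨⟨y, hyperfocal_le F p h⟩, (hNT _).2 h⟩ else 1, fun y h => dif_pos h, trivial⟩
  have hctmul : ∀ y y' : Ω, y ∈ F.hyperfocalSubgroup p → y' ∈ F.hyperfocalSubgroup p →
      ct (y * y') = ct y * ct y' := by
    intro y y' h h'
    rw [hct y h, hct y' h', hct _ (mul_mem h h'), ← map_mul]
    rfl
  have hct1 : ct 1 = 1 := by
    rw [hct 1 (one_mem _)]
    exact map_one c
  have hctinv : ∀ y : Ω, y ∈ F.hyperfocalSubgroup p → ct y⁻¹ = (ct y)⁻¹ := by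
    intro y h
    have h1 := hctmul y y⁻¹ h (inv_mem h)
    rw [mul_inv_cancel, hct1] at h1
    exact eq_inv_of_mul_eq_one_right h1.symm
  have hctF : ∀ {P : Subgroup Ω} {φ : P →* Ω} (_ : φ ∈ F.Hom P) (x : P),
      (x : Ω) ∈ F.hyperfocalSubgroup p → ct (φ x) = ct x := by
    intro P φ hφ x hx
    have hx' := hyp_map_mem p hS F hF hφ x hx
    rw [hct _ hx', hct _ hx]
    exact hyp_hom_invariant p hS F hF N hNT hAp c hc' hl' hφ x hx hx'
  have hgen : ∀ (P : Subgroup Ω) (_ : P ≤ S) (β : ↥(F.autGroup P)),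
      β ∈ pResidual p ↥(F.autGroup P) →
      ∀ x : P, ct ((x : Ω)⁻¹ * ((β : MulAut P) x : P)) = 1 := by
    intro P hPS β hβ
    have hmemT : ∀ (β : ↥(F.autGroup P)), β ∈ pResidual p ↥(F.autGroup P) → ∀ x : P,
        (x : Ω)⁻¹ * ((β : MulAut P) x : P) ∈ F.hyperfocalSubgroup p :=
      fun β hβ x => Subgroup.subset_closure ⟨P, β, x, hPS, hβ, rfl⟩
    unfold pResidual at hβ
    induction hβ using Subgroup.closure_induction with
    | mem b hb =>
      intro x
      have hbres : b ∈ pResidual p ↥(F.autGroup P) := Subgroup.subset_closure hb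
      obtain ⟨y, hy⟩ : ∃ y : P, y = x⁻¹ * (b : MulAut P) x := ⟨_, rfl⟩
      have hyT : (y : Ω) ∈ F.hyperfocalSubgroup p := by
        rw [hy]; exact hmemT b hbres x
      have key : ∀ k : ℕ, ct ((x : Ω)⁻¹ * (((b : MulAut P) ^ k) x : P)) = ct (y : Ω) ^ k := by
        intro k
        induction k with
        | zero =>
          rw [pow_zero, pow_zero]
          show ct ((x : Ω)⁻¹ * (x : Ω)) = 1
          rw [inv_mul_cancel, hct1]
        | succ k ih =>
          have hbk : b ^ k ∈ pResidual p ↥(F.autGroup P) := pow_mem hbres k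
          have hk1 : (x : Ω)⁻¹ * (((b : MulAut P) ^ k) x : P) ∈ F.hyperfocalSubgroup p := by
            have := hmemT (b ^ k) hbk x
            rwa [Subgroup.coe_pow] at this
          have hφk : P.subtype.comp ((b : MulAut P) ^ k).toMonoidHom ∈ F.Hom P := by
            have h1 := (mem_autGroup_iff F hPS).1 (b ^ k).2
            rwa [Subgroup.coe_pow] at h1
          have hk2 := hctF hφk y hyT
          have hk2' : ct ((((b : MulAut P) ^ k) y : P) : Ω) = ct (y : Ω) := hk2
          have hk3 : ((((b : MulAut P) ^ k) y : P) : Ω) ∈ F.hyperfocalSubgroup p :=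
            hyp_map_mem p hS F hF hφk y hyT
          have e : (x : Ω)⁻¹ * (((b : MulAut P) ^ (k + 1)) x : P) =
              ((x : Ω)⁻¹ * (((b : MulAut P) ^ k) x : P)) * ((((b : MulAut P) ^ k) y : P) : Ω) := by
            rw [hy, pow_succ, MulAut.mul_apply, map_mul, map_inv, Subgroup.coe_mul,
              Subgroup.coe_inv]
            group
          rw [e, hctmul _ _ hk1 hk3, ih, hk2', pow_succ]
      have h1 := key (orderOf (b : MulAut P))
      rw [pow_orderOf_eq_one] at h1
      have h2 : ct (y : Ω) ^ orderOf (b : MulAut P) = 1 := by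
        rw [← h1]
        show ct ((x : Ω)⁻¹ * (x : Ω)) = 1
        rw [inv_mul_cancel, hct1]
      have hord : orderOf (b : MulAut P) = orderOf b := Subgroup.orderOf_coe b
      have hcop : Nat.Coprime (orderOf (b : MulAut P)) p := by rw [hord]; exact hb
      have o1 := orderOf_dvd_of_pow_eq_one h2
      have o2 := orderOf_dvd_of_pow_eq_one (hAp (ct (y : Ω)))
      have o3 := Nat.dvd_gcd o1 o2
      rw [Nat.Coprime.gcd_eq_one hcop] at o3
      have h3 : ct (y : Ω) = 1 := orderOf_eq_one_iff.1 (Nat.dvd_one.1 o3)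
      rw [hy] at h3
      exact h3
    | one =>
      intro x
      show ct ((x : Ω)⁻¹ * (x : Ω)) = 1
      rw [inv_mul_cancel, hct1]
    | mul a b ha hb iha ihb =>
      intro x
      have e : (x : Ω)⁻¹ * ((((a * b : ↥(F.autGroup P)) : MulAut P)) x : P) =
          ((x : Ω)⁻¹ * ((b : MulAut P) x : P)) *
            ((((b : MulAut P) x : P) : Ω)⁻¹ * ((a : MulAut P) ((b : MulAut P) x) : P)) := by
        rw [Subgroup.coe_mul, MulAut.mul_apply]
        group
      rw [e, hctmul _ _ (hmemT b hb x) (hmemT a ha _), ihb x, iha _, one_mul]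
    | inv a ha iha =>
      intro x
      have e : (x : Ω)⁻¹ * ((((a⁻¹ : ↥(F.autGroup P)) : MulAut P)) x : P) =
          (((((a : MulAut P)⁻¹ x : P)) : Ω)⁻¹ *
            ((a : MulAut P) ((a : MulAut P)⁻¹ x) : P))⁻¹ := by
        rw [Subgroup.coe_inv, MulAut.apply_inv_self]
        group
      rw [e, hctinv _ (hmemT a ha _), iha, inv_one]
  have hall : ∀ y : Ω, y ∈ F.hyperfocalSubgroup p → ct y = 1 := by
    intro y hy
    have hy' := hy
    unfold hyperfocalSubgroup at hy'
    induction hy' using Subgroup.closure_induction with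
    | mem z hz =>
      obtain ⟨P, β, x, hPS, hβ, rfl⟩ := hz
      exact hgen P hPS β hβ x
    | one => exact hct1
    | mul a b ha hb iha ihb =>
      rw [hctmul a b ha hb, iha ha, ihb hb, one_mul]
    | inv a ha iha =>
      rw [hctinv a ha, iha ha, inv_one]
  apply hf
  have h1 := hall (f : ↥S) ((hNT _).1 f.2)
  rw [hct _ ((hNT _).1 f.2)] at h1
  exact h1

/-- Tate's theorem for fusion systems: a saturated system whose hyperfocal subgroup is killed
by every homomorphism from `S` to a group of order `p` is the inner system. -/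
theorem fusion_tate [Finite S] (p : ℕ) [Fact p.Prime] (hS : IsPGroup p S)
    (F : FusionSystem S) (hF : F.IsSaturated p)
    (hl : ∀ (l : ↥S →* Multiplicative (ZMod p)) (t : ↥S),
      (t : Ω) ∈ F.hyperfocalSubgroup p → l t = 1) :
    F = innerFusionSystem S := by
  have hT := hyperfocal_eq_bot p hS F hF hl
  apply eq_inner_of_pGroups p hS F hF
  intro P hPS
  have hPfin : Finite P := finite_of_le hPS
  have hres : pResidual p ↥(F.autGroup P) = ⊥ := by
    rw [eq_bot_iff]
    intro β hβ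
    rw [Subgroup.mem_bot]
    apply Subtype.ext
    apply MulEquiv.ext
    intro x
    have h1 : (x : Ω)⁻¹ * ((β : MulAut P) x : P) ∈ F.hyperfocalSubgroup p :=
      Subgroup.subset_closure ⟨P, β, x, hPS, hβ, rfl⟩
    rw [hT, Subgroup.mem_bot] at h1
    apply Subtype.ext
    exact (inv_mul_eq_one.1 h1).symm
  have hnorm := Cfsg.Agent.Helper26.pResidual_normal p ↥(F.autGroup P)
  have hq := isPGroup_quot_pResidual p ↥(F.autGroup P) hnorm
  intro g
  obtain ⟨k, hk⟩ := hq (QuotientGroup.mk g)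
  refine ⟨k, ?_⟩
  rw [← QuotientGroup.mk_pow, QuotientGroup.eq_one_iff, hres, Subgroup.mem_bot] at hk
  exact hk

end Cfsg.Agent.Helper27.TT
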