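import Cfsg.Agent.Helper27.TTe
import Cfsg.Agent.Helper26.FusionQuot
import Cfsg.Agent.Helper26.FusionEss
import Cfsg.Agent.Lead.PGroup

set_option autoImplicit false

namespace Cfsg.Agent.Helper27.TT

open Cfsg Cfsg.FusionSystem Cfsg.Agent.Helper26
open scoped Classical

universe u

variable {Ω : Type u} [Group Ω] {S : Subgroup Ω}

/-- The subsystem of the maps acting trivially modulo a subgroup `T` containing the commutators
of `S`. -/
def trivSystem (F : FusionSystem S) (T : Subgroup Ω)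
    (hcomm : ∀ g ∈ S, ∀ x ∈ S, x⁻¹ * (g * x * g⁻¹) ∈ T) : FusionSystem S where
  Hom P := {φ | φ ∈ F.Hom P ∧ ∀ x : P, (x : Ω)⁻¹ * φ x ∈ T}
  le_of_mem := fun h => F.le_of_mem h.1
  injective_of_mem := fun h => F.injective_of_mem h.1
  conj_mem := by
    intro P g hP hg
    exact ⟨F.conj_mem hP hg, fun x => hcomm g hg x (hP x.2)⟩
  comp_mem := by
    intro P Q φ ψ hφ hψ h
    refine ⟨F.comp_mem hφ.1 hψ.1 h, fun x => ?_⟩
    have e : (x : Ω)⁻¹ * ψ ⟨φ x, h x⟩ = ((x : Ω)⁻¹ * φ x) * ((φ x)⁻¹ * ψ ⟨φ x, h x⟩) := by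
      group
    show (x : Ω)⁻¹ * ψ ⟨φ x, h x⟩ ∈ T
    rw [e]
    exact T.mul_mem (hφ.2 x) (hψ.2 ⟨φ x, h x⟩)
  inv_mem := by
    intro P φ hφ
    obtain ⟨χ, hχ, hχφ⟩ := F.inv_mem hφ.1
    refine ⟨χ, ⟨hχ, ?_⟩, hχφ⟩
    rintro ⟨_, x, rfl⟩
    rw [hχφ]
    have e : (φ x)⁻¹ * (x : Ω) = ((x : Ω)⁻¹ * φ x)⁻¹ := by group
    show (φ x)⁻¹ * (x : Ω) ∈ T
    rw [e]
    exact T.inv_mem (hφ.2 x)

/-- The Frattini argument along Alperin's theorem: if `T` is strongly closed, contains the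
commutators of `S`, and the automorphisms of `S` in the system act trivially modulo `T`, then so
does every map of the system. -/
theorem le_trivSystem [Finite S] (p : ℕ) [Fact p.Prime] (hS : IsPGroup p S)
    (F : FusionSystem S) (hF : F.IsSaturated p) (T : Subgroup Ω) (hT : F.StronglyClosed T)
    (hcomm : ∀ g ∈ S, ∀ x ∈ S, x⁻¹ * (g * x * g⁻¹) ∈ T)
    (htop : ∀ φ ∈ F.Hom S, ∀ x : S, (x : Ω)⁻¹ * φ x ∈ T) :
    F ≤ trivSystem F T hcomm := by
  apply alperin_strong p hS F hF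
  intro P hPn hbig α hα
  have hPS : P ≤ S := hPn.1
  rw [mem_autGroup_iff (trivSystem F T hcomm) hPS]
  have hαF := (mem_autGroup_iff F hPS).1 hα
  by_cases hPeq : P = S
  · subst hPeq
    exact ⟨hαF, fun x => htop _ hαF x⟩
  · obtain ⟨hPc, hPa⟩ := sat_fullyNormalized p hS F hF hPn
    have hrec := receptive_of_fullyCentralized p hS F hF hPc
    obtain ⟨-, R, hR⟩ := hPa
    have hPfin : Finite P := finite_of_le hPS
    have hAfin : Finite (F.autGroup P) := inferInstance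
    obtain ⟨C, hCdef⟩ : ∃ C : Subgroup ↥(F.autGroup P),
        C = (quotStab T P).subgroupOf (F.autGroup P) := ⟨_, rfl⟩
    have hCn : C.Normal := ⟨fun β hβ a => by
      rw [hCdef, Subgroup.mem_subgroupOf] at hβ ⊢
      exact quotStab_conj F hT hPS a.2 hβ⟩
    have hRC : (R : Subgroup ↥(F.autGroup P)) ≤ C := by
      intro β hβ
      rw [hR, Subgroup.mem_subgroupOf] at hβ
      obtain ⟨s, hs, hβs⟩ := mem_autInducedBy_iff.1 hβ
      rw [hCdef, Subgroup.mem_subgroupOf]
      intro x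
      show (((x⁻¹ * (β : MulAut P) x : P)) : Ω) ∈ T
      rw [Subgroup.coe_mul, Subgroup.coe_inv, hβs x]
      exact hcomm s hs x (hPS x.2)
    have hdec := Sylow.normalizer_sup_eq_top' R hRC
    have hmem0 : (⟨α, hα⟩ : ↥(F.autGroup P)) ∈ (⊤ : Subgroup ↥(F.autGroup P)) :=
      Subgroup.mem_top _
    rw [← hdec] at hmem0
    have hmem : (⟨α, hα⟩ : ↥(F.autGroup P)) ∈
        ((Subgroup.normalizer ((R : Subgroup ↥(F.autGroup P)) : Set ↥(F.autGroup P)) ⊔ C :
          Subgroup ↥(F.autGroup P)) : Set ↥(F.autGroup P)) := hmem0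
    rw [Subgroup.mul_normal] at hmem
    obtain ⟨ν, hν, γ, hγ, hνγ⟩ := Set.mem_mul.1 hmem
    have hνQ : (ν : MulAut P) ∈ quotStab T P := by
      have hνF := (mem_autGroup_iff F hPS).1 ν.2
      have hext : ∀ g ∈ S, ∀ hgN : g ∈ Subgroup.normalizer (P : Set Ω),
          g ∈ extender S P (P.subtype.comp (ν : MulAut P).toMonoidHom) := by
        intro g hgS hgN
        apply mem_extender_of_conj_mem (ν : MulAut P) hgS hgN
        have hcg : P.normalizerMonoidHom ⟨g, hgN⟩ ∈ autInducedBy S P :=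
          mem_autInducedBy_iff.2 ⟨g, hgS, fun x => rfl⟩
        have hcgA : P.normalizerMonoidHom ⟨g, hgN⟩ ∈ F.autGroup P :=
          autInducedBy_le_autGroup F hPS hcg
        have h1 : (⟨_, hcgA⟩ : ↥(F.autGroup P)) ∈ (R : Subgroup ↥(F.autGroup P)) := by
          rw [hR, Subgroup.mem_subgroupOf]; exact hcg
        have hν2 : ν ∈ Subgroup.normalizer
            ((R : Subgroup ↥(F.autGroup P)) : Set ↥(F.autGroup P)) := hν
        have h2 := (Subgroup.mem_normalizer_iff.1 hν2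
          (⟨P.normalizerMonoidHom ⟨g, hgN⟩, hcgA⟩ : ↥(F.autGroup P))).1 h1
        rw [hR, Subgroup.mem_subgroupOf] at h2
        exact h2
      obtain ⟨ψ, hψ, hψe⟩ := hrec.2 P _ hνF (range_iso (ν : MulAut P))
      obtain ⟨a, haS, haP, haN⟩ := exists_normalizing_not_mem hS hPS hPeq
      have hle : P ≤ extender S P (P.subtype.comp (ν : MulAut P).toMonoidHom) :=
        le_extender F hνF
      have hlt : P < extender S P (P.subtype.comp (ν : MulAut P).toMonoidHom) :=
        lt_of_le_of_ne hle (fun h => haP (h.ge (hext a haS haN)))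
      have hψE := hbig _ hlt hψ
      intro x
      have h3 := hψE.2 ⟨x, hle x.2⟩
      rw [hψe x x.2 (hle x.2)] at h3
      exact h3
    have hαQ : α ∈ quotStab T P := by
      have e : α = (ν : MulAut P) * (γ : MulAut P) := by
        rw [← Subgroup.coe_mul, hνγ]
      rw [e]
      have hγ' : (γ : MulAut P) ∈ quotStab T P := by
        have hγ2 : γ ∈ C := hγ
        rw [hCdef, Subgroup.mem_subgroupOf] at hγ2
        exact hγ2
      exact Subgroup.mul_mem _ hνQ hγ'
    exact ⟨hαF, fun x => hαQ x⟩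

end Cfsg.Agent.Helper27.TT
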