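import Cfsg.Agent.Helper27.TTf
import Cfsg.Agent.Helper26.FusionNC

set_option autoImplicit false

namespace Cfsg.Agent.Helper27.TT

open Cfsg Cfsg.FusionSystem Cfsg.Agent.Helper26
open scoped Classical

universe u

variable {Ω : Type u} [Group Ω] {S : Subgroup Ω}

/-- If the normalizer system of `S` is inner, every automorphism of `S` in the system is inner. -/
theorem top_inner_of_normalizer_inner [Finite S] (F : FusionSystem S)
    (hN : ∀ N : FusionSystem (normalizerIn S S), F.IsNormalizerSystem S N →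
      ∀ P : Subgroup Ω, N.Hom P = (innerFusionSystem (normalizerIn S S)).Hom P)
    {φ : S →* Ω} (hφ : φ ∈ F.Hom S) : ∃ g ∈ S, ∀ x : S, φ x = g * (x : Ω) * g⁻¹ := by
  have hN' := normalizerSystem_isNormalizerSystem F S le_rfl
  have h3 := hN _ hN' S
  have hmem : φ ∈ (normalizerSystem F S le_rfl).Hom S := by
    rw [hN' S]
    have hle : S ⊔ S ≤ S := sup_le le_rfl le_rfl
    refine ⟨hφ, le_inf le_rfl Subgroup.le_normalizer,
      fun y => Subgroup.mem_inf.2 ⟨(F.le_of_mem hφ).2 y,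
        Subgroup.le_normalizer ((F.le_of_mem hφ).2 y)⟩,
      φ.comp (Subgroup.inclusion hle),
      restrict_mem F hφ hle (fun _ => rfl), fun y => rfl, ?_⟩
    ext y
    constructor
    · rintro ⟨z, -, rfl⟩
      exact (F.le_of_mem hφ).2 _
    · intro hy
      have hr : φ.range = S := isConj_top_eq F ⟨φ, hφ, rfl⟩
      rw [← hr] at hy
      obtain ⟨w, rfl⟩ := hy
      exact ⟨⟨w, (le_sup_left : S ≤ S ⊔ S) w.2⟩, Subgroup.mem_subgroupOf.2 w.2, rfl⟩
  rw [h3] at hmem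
  obtain ⟨-, g, hg, hφg⟩ := hmem
  exact ⟨g, (Subgroup.mem_inf.1 hg).1, hφg⟩

/-- The commutators of `S` lie in any subgroup containing the image of the derived subgroup. -/
theorem comm_mem_of_commutator_le {Q : Subgroup Ω}
    (h1 : (commutator ↥S).map S.subtype ≤ Q) :
    ∀ g ∈ S, ∀ x ∈ S, x⁻¹ * (g * x * g⁻¹) ∈ Q := by
  intro g hg x hx
  apply h1
  refine ⟨(⟨x, hx⟩ : ↥S)⁻¹ * ⟨g, hg⟩ * (⟨x, hx⟩ : ↥S)⁻¹⁻¹ * (⟨g, hg⟩ : ↥S)⁻¹, ?_, ?_⟩
  · show _ ∈ commutator ↥S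
    rw [commutator_def]
    exact Subgroup.commutator_mem_commutator (Subgroup.mem_top ((⟨x, hx⟩ : ↥S)⁻¹))
      (Subgroup.mem_top (⟨g, hg⟩ : ↥S))
  · show x⁻¹ * g * x⁻¹⁻¹ * g⁻¹ = _
    group

/-- The hyperfocal subgroup lies in `T` when all maps act trivially modulo `T`. -/
theorem hyperfocal_le_of_le_trivSystem (F : FusionSystem S) (p : ℕ) (T : Subgroup Ω)
    (hcomm : ∀ g ∈ S, ∀ x ∈ S, x⁻¹ * (g * x * g⁻¹) ∈ T)
    (hle : F ≤ trivSystem F T hcomm) : F.hyperfocalSubgroup p ≤ T := by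
  unfold hyperfocalSubgroup
  rw [Subgroup.closure_le]
  rintro _ ⟨P, β, x, hPS, -, rfl⟩
  exact (hle P ((mem_autGroup_iff F hPS).1 β.2)).2 x

end Cfsg.Agent.Helper27.TT
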