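import Cfsg.Agent.Helper27.TTg

set_option autoImplicit false

namespace Cfsg.Agent.Helper27.TT

open Cfsg Cfsg.FusionSystem MulAction Cfsg.Agent.Helper26 Cfsg.Agent.Helper27.Biset
open scoped Classical

universe u

variable {Ω : Type u} [Group Ω] {S : Subgroup Ω}

/-- The transfer identity behind Tate's theorem, for a biset with an equivariant map to a
quotient of `S`. -/
theorem tate_biset' [Finite S] {X : Type*} [Finite X] [MulAction (↥S × ↥S) X]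
    (hfree : ∀ (y : X) (s s' : ↥S), ((1, s) : ↥S × ↥S) • y = ((1, s') : ↥S × ↥S) • y → s = s')
    (N : Subgroup ↥S) [hN : N.Normal] (π : X → ↥S ⧸ N)
    (hπ : ∀ (a b : ↥S) (ξ : X), π (((a, b) : ↥S × ↥S) • ξ) =
      (QuotientGroup.mk a : ↥S ⧸ N) * π ξ * (QuotientGroup.mk b : ↥S ⧸ N)⁻¹)
    (x₀ : X) (hx₀ : ∀ a : ↥S, ((a, a) : ↥S × ↥S) • x₀ = x₀)
    {A : Type*} [CommGroup A] (c : ↥N →* A)
    (hc : ∀ (s t : ↥S) (ht : t ∈ N), c ⟨s * t * s⁻¹, hN.conj_mem t ht s⟩ = c ⟨t, ht⟩) :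
    ∃ n : ℕ, n * Nat.card S = Nat.card X ∧ ∃ (l : ↥S →* A) (W : ↥N → A),
      (∀ t : ↥N, W t * c t ^ n = l t) ∧
      ∀ (t t' : ↥N) (f₀ : Equiv.Perm X),
        (∀ (s : ↥S) (ξ : X), f₀ (((1, s) : ↥S × ↥S) • ξ) = ((1, s) : ↥S × ↥S) • f₀ ξ) →
        (∀ ξ : X, f₀ ((((t : ↥S), 1) : ↥S × ↥S) • ξ) = (((t' : ↥S), 1) : ↥S × ↥S) • f₀ ξ) →
        W t = W t' := by
  have hcen : ∀ a : ↥S, (QuotientGroup.mk a : ↥S ⧸ N) * π x₀ =
      π x₀ * (QuotientGroup.mk a : ↥S ⧸ N) := by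
    intro a
    have h1 := hπ a a x₀
    rw [hx₀ a, eq_mul_inv_iff_mul_eq] at h1
    exact h1.symm
  have hmkN : ∀ t : ↥S, t ∈ N → (QuotientGroup.mk t : ↥S ⧸ N) = 1 :=
    fun t ht => (QuotientGroup.eq_one_iff t).2 ht
  have hmk1 : (QuotientGroup.mk (1 : ↥S) : ↥S ⧸ N) = 1 := QuotientGroup.mk_one N
  obtain ⟨θ, hθ⟩ := exists_theta N π x₀ hfree c hc
  have hR : ∀ x : ↥S, x ∈ N → (MulAction.toPermHom (↥S × ↥S) X (1, x)) ∈ semi N π x₀ := by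
    intro x hx
    refine ⟨fun ξ => ?_, fun ξ _ => ⟨x, fun t _ => ?_⟩⟩
    · show π (((1, x) : ↥S × ↥S) • ξ) = π x₀ ↔ π ξ = π x₀
      rw [hπ, hmkN x hx, hmk1, one_mul, inv_one, mul_one]
    · show ((1, x) : ↥S × ↥S) • ((1, t) : ↥S × ↥S) • ξ =
        ((1, x * t * x⁻¹) : ↥S × ↥S) • ((1, x) : ↥S × ↥S) • ξ
      rw [Biset.smul_one_mul, Biset.smul_one_mul, inv_mul_cancel_right]
  have hC : ∀ a : ↥S, (MulAction.toPermHom (↥S × ↥S) X (a, a)) ∈ semi N π x₀ := by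
    intro a
    refine ⟨fun ξ => ?_, fun ξ _ => ⟨a, fun t _ => ?_⟩⟩
    · show π (((a, a) : ↥S × ↥S) • ξ) = π x₀ ↔ π ξ = π x₀
      rw [hπ, mul_inv_eq_iff_eq_mul, ← hcen a, mul_right_inj]
    · show ((a, a) : ↥S × ↥S) • ((1, t) : ↥S × ↥S) • ξ =
        ((1, a * t * a⁻¹) : ↥S × ↥S) • ((a, a) : ↥S × ↥S) • ξ
      rw [← mul_smul, ← mul_smul]
      congr 1
      ext <;> simp
  have hL : ∀ x : ↥S, x ∈ N → (MulAction.toPermHom (↥S × ↥S) X (x, 1)) ∈ semi N π x₀ := by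
    intro x hx
    refine ⟨fun ξ => ?_, fun ξ _ => ⟨1, fun t _ => ?_⟩⟩
    · show π (((x, 1) : ↥S × ↥S) • ξ) = π x₀ ↔ π ξ = π x₀
      rw [hπ, hmkN x hx, hmk1, one_mul, inv_one, mul_one]
    · show ((x, 1) : ↥S × ↥S) • ((1, t) : ↥S × ↥S) • ξ =
        ((1, 1 * t * 1⁻¹) : ↥S × ↥S) • ((x, 1) : ↥S × ↥S) • ξ
      rw [one_mul, inv_one, mul_one, smul_left_right]
  let Rh : ↥N →* ↥(semi N π x₀) := MonoidHom.codRestrict
    ((MulAction.toPermHom (↥S × ↥S) X).comp ((MonoidHom.inr ↥S ↥S).comp N.subtype))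
    (semi N π x₀) (fun x => hR x x.2)
  let Ch : ↥S →* ↥(semi N π x₀) := MonoidHom.codRestrict
    ((MulAction.toPermHom (↥S × ↥S) X).comp ((MonoidHom.id ↥S).prod (MonoidHom.id ↥S)))
    (semi N π x₀) (fun a => hC a)
  let Lh : ↥N →* ↥(semi N π x₀) := MonoidHom.codRestrict
    ((MulAction.toPermHom (↥S × ↥S) X).comp ((MonoidHom.inl ↥S ↥S).comp N.subtype))
    (semi N π x₀) (fun x => hL x x.2)
  have hRa : ∀ (x : ↥N) (ξ : X), ((Rh x : ↥(semi N π x₀)) : Equiv.Perm X) ξ =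
      ((1, (x : ↥S)) : ↥S × ↥S) • ξ := fun _ _ => rfl
  have hCLR : ∀ x : ↥N, Ch (x : ↥S) = Lh x * Rh x := by
    intro x
    apply Subtype.ext
    apply Equiv.ext
    intro ξ
    show (((x : ↥S), (x : ↥S)) : ↥S × ↥S) • ξ =
      (((x : ↥S), 1) : ↥S × ↥S) • ((1, (x : ↥S)) : ↥S × ↥S) • ξ
    rw [← mul_smul]
    congr 1
    ext <;> simp
  have hVR : ∀ x : ↥N, MonoidHom.transfer θ (Rh x) = c x ^ (semiStab N π x₀).index := by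
    intro x
    apply Cfsg.Agent.Helper27.FZ.transfer_const θ (Rh x) (c x)
    intro k w hk
    obtain ⟨s, hs⟩ := (w⁻¹).2.2 ((w : Equiv.Perm X) x₀) ((w.2.1 x₀).2 rfl)
    have hxk : ((x ^ k : ↥N) : ↥S) ∈ N := (x ^ k).2
    have e1 : ((w⁻¹ * Rh x ^ k * w : ↥(semi N π x₀)) : Equiv.Perm X) x₀ =
        ((1, s * ((x ^ k : ↥N) : ↥S) * s⁻¹) : ↥S × ↥S) • x₀ := by
      rw [← map_pow]
      show ((w⁻¹ : ↥(semi N π x₀)) : Equiv.Perm X)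
        (((Rh (x ^ k) : ↥(semi N π x₀)) : Equiv.Perm X) ((w : Equiv.Perm X) x₀)) = _
      rw [hRa, hs _ hxk]
      congr 1
      show ((w : Equiv.Perm X))⁻¹ ((w : Equiv.Perm X) x₀) = x₀
      exact perm_inv_apply _ _
    rw [hθ ⟨_, hk⟩ _ (hN.conj_mem _ hxk s) e1, cext_mem N c (hN.conj_mem _ hxk s), hc s _ hxk]
    show c (x ^ k) = c x ^ k
    rw [map_pow]
  refine ⟨(semiStab N π x₀).index, semi_index N π x₀ hfree hπ,
    (MonoidHom.transfer θ).comp Ch, fun t => MonoidHom.transfer θ (Lh t), fun t => ?_, ?_⟩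
  · show MonoidHom.transfer θ (Lh t) * c t ^ (semiStab N π x₀).index =
      MonoidHom.transfer θ (Ch (t : ↥S))
    rw [hCLR, map_mul, hVR]
  · intro t t' f₀ hf₀ hconj
    obtain ⟨σ, hσ⟩ : ∃ σ : X → ↥S, ∀ ξ, σ ξ = ((π ξ)⁻¹ * π (f₀ ξ)).out := ⟨_, fun _ => rfl⟩
    have hσmk : ∀ ξ, (QuotientGroup.mk (σ ξ) : ↥S ⧸ N) = (π ξ)⁻¹ * π (f₀ ξ) := by
      intro ξ; rw [hσ]; exact QuotientGroup.out_eq' _
    have hσN : ∀ (u : ↥S), u ∈ N → ∀ ξ, σ (((1, u) : ↥S × ↥S) • ξ) = σ ξ := by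
      intro u hu ξ
      rw [hσ, hσ, hf₀, hπ, hπ, hmkN u hu, hmk1, one_mul, one_mul, inv_one, mul_one, mul_one]
    have hσL : ∀ ξ, σ ((((t : ↥S), 1) : ↥S × ↥S) • ξ) = σ ξ := by
      intro ξ
      rw [hσ, hσ, hconj, hπ, hπ, hmkN _ t.2, hmkN _ t'.2, hmk1, one_mul, one_mul, inv_one,
        mul_one, mul_one]
    obtain ⟨f₁, hf₁⟩ : ∃ f₁ : X → X, ∀ ξ, f₁ ξ = ((1, σ ξ) : ↥S × ↥S) • f₀ ξ :=
      ⟨_, fun _ => rfl⟩
    have hπf₁ : ∀ ξ, π (f₁ ξ) = π ξ := by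
      intro ξ
      rw [hf₁, hπ, hσmk, hmk1, one_mul, mul_inv_rev, inv_inv, mul_inv_cancel_left]
    have hinj : Function.Injective f₁ := by
      intro ξ ξ' h
      have h0 : π ξ = π ξ' := by rw [← hπf₁ ξ, ← hπf₁ ξ', h]
      rw [hf₁, hf₁] at h
      obtain ⟨u, hu⟩ : ∃ u, u = (σ ξ)⁻¹ * σ ξ' := ⟨_, rfl⟩
      have h1 : f₀ ξ = f₀ (((1, u) : ↥S × ↥S) • ξ') := by
        rw [hf₀, hu, ← Biset.smul_one_mul, ← h, Biset.smul_one_mul, inv_mul_cancel, smul_one_one]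
      have h2 : ξ = ((1, u) : ↥S × ↥S) • ξ' := f₀.injective h1
      have h3 : u ∈ N := by
        have h4 := congrArg π h2
        rw [hπ, hmk1, one_mul, h0, left_eq_mul, inv_eq_one] at h4
        exact (QuotientGroup.eq_one_iff _).1 h4
      have h5 : σ ξ = σ ξ' := by rw [h2]; exact hσN u h3 ξ'
      have hu1 : u = 1 := by rw [hu, h5, inv_mul_cancel]
      rw [h2, hu1, smul_one_one]
    have hbij : Function.Bijective f₁ := Finite.injective_iff_bijective.1 hinj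
    obtain ⟨e₁, he₁a⟩ : ∃ e₁ : Equiv.Perm X, ∀ ξ, e₁ ξ = f₁ ξ :=
      ⟨Equiv.ofBijective f₁ hbij, fun _ => rfl⟩
    have he₁ : e₁ ∈ semi N π x₀ := by
      refine ⟨fun ξ => ?_, fun ξ _ => ⟨σ ξ, fun u hu => ?_⟩⟩
      · rw [he₁a, hπf₁]
      · rw [he₁a, he₁a, hf₁, hf₁, hσN u hu, hf₀, Biset.smul_one_mul, Biset.smul_one_mul,
          inv_mul_cancel_right]
    have hrel : (⟨e₁, he₁⟩ : ↥(semi N π x₀)) * Lh t = Lh t' * ⟨e₁, he₁⟩ := by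
      apply Subtype.ext
      apply Equiv.ext
      intro ξ
      show e₁ ((((t : ↥S), 1) : ↥S × ↥S) • ξ) = (((t' : ↥S), 1) : ↥S × ↥S) • e₁ ξ
      rw [he₁a, he₁a, hf₁, hf₁, hσL, hconj, smul_left_right]
    show MonoidHom.transfer θ (Lh t) = MonoidHom.transfer θ (Lh t')
    have h2 : Lh t' = ⟨e₁, he₁⟩ * Lh t * (⟨e₁, he₁⟩ : ↥(semi N π x₀))⁻¹ := by
      rw [hrel, mul_inv_cancel_right]
    rw [h2, map_mul, map_mul, map_inv, mul_comm, inv_mul_cancel_left]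

/-- The transfer identity on the hyperfocal subgroup: for an `S`-invariant homomorphism `c` on
the hyperfocal subgroup there are `n` prime to `p`, a homomorphism `l` on `S` and a function `W`
invariant under the system with `W * c ^ n = l` on the hyperfocal subgroup. -/
theorem hyp_transfer [Finite S] (p : ℕ) [Fact p.Prime] (hS : IsPGroup p S)
    (F : FusionSystem S) (hF : F.IsSaturated p)
    (N : Subgroup ↥S) [hN : N.Normal]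
    (hNT : ∀ t : ↥S, t ∈ N ↔ (t : Ω) ∈ F.hyperfocalSubgroup p)
    {A : Type*} [CommGroup A] (c : ↥N →* A)
    (hc : ∀ (s t : ↥S) (ht : t ∈ N), c ⟨s * t * s⁻¹, hN.conj_mem t ht s⟩ = c ⟨t, ht⟩) :
    ∃ (n : ℕ) (l : ↥S →* A) (W : ↥N → A), ¬ p ∣ n ∧ (∀ t : ↥N, W t * c t ^ n = l t) ∧
      ∀ {P : Subgroup Ω} {φ : P →* Ω} (hφ : φ ∈ F.Hom P) (x : P)
        (hx : (x : Ω) ∈ F.hyperfocalSubgroup p) (hx' : φ x ∈ F.hyperfocalSubgroup p),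
        W ⟨⟨φ x, (F.le_of_mem hφ).2 x⟩, (hNT _).2 hx'⟩ =
          W ⟨⟨x, (F.le_of_mem hφ).1 x.2⟩, (hNT _).2 hx⟩ := by
  obtain ⟨X, hXfin, hXact, hgr, hst, ⟨x₀, hx₀⟩, r, hr, hcard⟩ := exists_char_biset p hS F hF
  have hfree : ∀ (y : X) (s s' : ↥S),
      ((1, s) : ↥S × ↥S) • y = ((1, s') : ↥S × ↥S) • y → s = s' :=
    fun y s s' h => free_right F hgr y h
  obtain ⟨act, hact⟩ : ∃ act : ↥S × ↥S →* Equiv.Perm (↥S ⧸ N), ∀ (g : ↥S × ↥S) (q : ↥S ⧸ N),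
      act g q = (QuotientGroup.mk g.1 : ↥S ⧸ N) * (q * (QuotientGroup.mk g.2 : ↥S ⧸ N)⁻¹) := by
    refine ⟨{ toFun := fun g => (Equiv.mulLeft (QuotientGroup.mk g.1 : ↥S ⧸ N)) *
                (Equiv.mulRight ((QuotientGroup.mk g.2 : ↥S ⧸ N))⁻¹)
              map_one' := ?_
              map_mul' := ?_ }, fun g q => rfl⟩
    · ext q
      simp
    · intro g g'
      ext q
      simp [mul_assoc]
  obtain ⟨π, hπ'⟩ := exists_equivariant_map (X := X) act (fun ξ => by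
    obtain ⟨R, χ, hχ, hmem⟩ := hgr ξ
    obtain ⟨s, hs, hsχ⟩ := exists_conj_mod_hyperfocal p hS F hF hχ
    refine ⟨(QuotientGroup.mk (⟨s, hs⟩ : ↥S) : ↥S ⧸ N), fun g hg => ?_⟩
    obtain ⟨rr, hr1, hr2⟩ := (hmem g).1 hg
    have h1 : ((⟨s, hs⟩ : ↥S) * g.2 * (⟨s, hs⟩ : ↥S)⁻¹)⁻¹ * g.1 ∈ N := by
      rw [hNT]
      have h2 := hsχ rr
      rw [hr1, hr2] at h2
      exact h2
    have h2 : (QuotientGroup.mk g.1 : ↥S ⧸ N) =
        QuotientGroup.mk ((⟨s, hs⟩ : ↥S) * g.2 * (⟨s, hs⟩ : ↥S)⁻¹) :=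
      (QuotientGroup.eq.2 h1).symm
    rw [hact, h2]
    simp)
  have hπ : ∀ (a b : ↥S) (ξ : X), π (((a, b) : ↥S × ↥S) • ξ) =
      (QuotientGroup.mk a : ↥S ⧸ N) * π ξ * (QuotientGroup.mk b : ↥S ⧸ N)⁻¹ := by
    intro a b ξ
    rw [hπ', hact, mul_assoc]
  have hx₀' : ∀ a : ↥S, ((a, a) : ↥S × ↥S) • x₀ = x₀ := by
    intro a
    have h1 : ((a, a) : ↥S × ↥S) ∈ stabilizer (↥S × ↥S) x₀ := by
      rw [hx₀]; exact rfl
    exact h1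
  obtain ⟨n, hn, l, W, hW, hWinv⟩ := tate_biset' hfree N π hπ x₀ hx₀' c hc
  have hpn : ¬ p ∣ n := by
    intro hdvd
    rw [← hn] at hcard
    have hpos : 0 < Nat.card S := Nat.card_pos
    have h2 : n ≡ r [MOD p] := Nat.ModEq.mul_right_cancel' hpos.ne' hcard
    exact hr ((Nat.ModEq.dvd_iff h2 (dvd_refl p)).1 hdvd)
  have hreal : F.IsRealizedBy (leftHom S X) :=
    realized F X hgr ⟨x₀, hx₀⟩ (fun P ψ₁ ψ₂ h₁ h₂ K => by
      have : Finite P := finite_of_le (F.le_of_mem h₁).1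
      exact hst P ψ₁ ψ₂ h₁ h₂ K Nat.card_pos)
  refine ⟨n, l, W, hpn, hW, ?_⟩
  intro P φ hφ x hx hx'
  obtain ⟨g, hg⟩ := (hreal.2 P (F.le_of_mem hφ).1 φ (F.le_of_mem hφ).2).1 hφ
  obtain ⟨t, ht⟩ : ∃ t : ↥N, t = ⟨⟨x, (F.le_of_mem hφ).1 x.2⟩, (hNT _).2 hx⟩ := ⟨_, rfl⟩
  obtain ⟨t', ht'⟩ : ∃ t' : ↥N, t' = ⟨⟨φ x, (F.le_of_mem hφ).2 x⟩, (hNT _).2 hx'⟩ := ⟨_, rfl⟩
  have hWtt : W t = W t' := by
    refine hWinv t t' (g : Equiv.Perm X) (fun s ξ => mem_autGrp.1 g.2 s ξ) (fun ξ => ?_)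
    have h1 := hg x
    have h2 : leftHom S X ⟨φ x, (F.le_of_mem hφ).2 x⟩ * g =
        g * leftHom S X ⟨x, (F.le_of_mem hφ).1 x.2⟩ := by
      rw [h1, inv_mul_cancel_right]
    have h3 := congrArg (fun e : ↥(autGrp S X) => (e : Equiv.Perm X) ξ) h2
    rw [ht, ht']
    exact h3.symm
  rw [← ht, ← ht']
  exact hWtt.symm

end Cfsg.Agent.Helper27.TT
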